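import Cfsg.Agent.S4571
import Cfsg.Agent.Lib.Helper16.QuotP
import Cfsg.Agent.Lib.Helper16.Quot
import Cfsg.Agent.Lib.CT.DefectZeroBlock

/-!
# Blocks of `G` and of `G ⧸ Q` when `G = Q C_G(Q)` for a normal `p`-subgroup `Q`

* `infl Q ψ`: the inflation of an irreducible character of `G ⧸ Q` to `G`.
* `blockRank_eq_quot`: for a block `B` of `G`, `l(B) = l(B̄)` where `B̄` is the set of the
  irreducible characters of `G ⧸ Q` whose inflation lies in `B`.
* `quotSet_eq_blockOf`: `B̄` is the block of any of its members.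
* `exists_quot_block`: `B̄` is a block of `G ⧸ Q`, and `l(B) = l(B̄)`.
-/

set_option autoImplicit false
open Cfsg

namespace Cfsg.Agent.Lib.Helper82.RankQuot

open Cfsg.Agent.Lib.Helper77.LocalRing
open Cfsg.Agent.S4571
open scoped ComplexConjugate

/-- Inflation of an irreducible character of `G ⧸ Q`. -/
noncomputable def infl {G : Type*} [Group G] (Q : Subgroup G) [Q.Normal]
    (ψ : IrrCharacter (G ⧸ Q)) : IrrCharacter G :=
  ⟨fun g : G => (ψ : G ⧸ Q → ℂ) (g : G ⧸ Q),
    Cfsg.Agent.Lib.CT.Kernel.isIrrCharacter_inflation Q ψ.2⟩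

theorem infl_apply {G : Type*} [Group G] (Q : Subgroup G) [Q.Normal]
    (ψ : IrrCharacter (G ⧸ Q)) (g : G) :
    (infl Q ψ : G → ℂ) g = (ψ : G ⧸ Q → ℂ) (g : G ⧸ Q) := rfl

theorem infl_injective {G : Type*} [Group G] (Q : Subgroup G) [Q.Normal] :
    Function.Injective (infl Q) := by
  intro ψ ψ' h
  apply Subtype.ext
  funext x
  obtain ⟨g, rfl⟩ := QuotientGroup.mk_surjective x
  have := congrFun (congrArg Subtype.val h) g
  exact this

/-- Every irreducible character with `Q` in its kernel is an inflation. -/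
theorem exists_infl_eq {G : Type*} [Group G] [Finite G] (Q : Subgroup G) [Q.Normal]
    (θ : IrrCharacter G) (h : ∀ u ∈ Q, (θ : G → ℂ) u = (θ : G → ℂ) 1) :
    ∃ ψ : IrrCharacter (G ⧸ Q), infl Q ψ = θ := by
  obtain ⟨χbar, hirr, hχ⟩ := Cfsg.Agent.Lib.CT.Kernel.exists_quotient_irr Q θ.2 h
  refine ⟨⟨χbar, hirr⟩, ?_⟩
  apply Subtype.ext
  funext g
  exact hχ g

/-- The truncation to `p`-regular elements is the identity on the span of truncated
functions. -/
theorem trunc_eq_self_of_mem_span {G : Type*} [Group G] (p : ℕ) (S : Set (G → ℂ))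
    (hS : ∀ f ∈ S, pRegularPart p f = f) (v : G → ℂ) (hv : v ∈ Submodule.span ℂ S) :
    pRegularPart p v = v := by
  refine Submodule.span_induction (p := fun v _ => pRegularPart p v = v) ?_ ?_ ?_ ?_ hv
  · intro f hf
    exact hS f hf
  · exact map_zero (Cfsg.Agent.Lib.Helper75.BlockRank.trunc p)
  · intro a b _ _ ha hb
    have := map_add (Cfsg.Agent.Lib.Helper75.BlockRank.trunc p) a b
    rw [Cfsg.Agent.Lib.Helper75.BlockRank.trunc_apply,
      Cfsg.Agent.Lib.Helper75.BlockRank.trunc_apply,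
      Cfsg.Agent.Lib.Helper75.BlockRank.trunc_apply, ha, hb] at this
    exact this
  · intro c a _ ha
    have := map_smul (Cfsg.Agent.Lib.Helper75.BlockRank.trunc p) c a
    rw [Cfsg.Agent.Lib.Helper75.BlockRank.trunc_apply,
      Cfsg.Agent.Lib.Helper75.BlockRank.trunc_apply, ha] at this
    exact this

/-- If `G = Q C_G(Q)` for a normal `p`-subgroup `Q` and `B` is a `p`-block of `G`, then
`l(B) = l(B̄)`, `B̄` the set of characters of `G ⧸ Q` whose inflation lies in `B`. -/
theorem blockRank_eq_quot {G : Type*} [Group G] [Finite G] (p : ℕ) [Fact p.Prime]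
    (M : Ideal AlgInt) (hM : IsPModular p M) (Q : Subgroup G) [Q.Normal] (hQ : IsPGroup p Q)
    (hsup : Q ⊔ Subgroup.centralizer (Q : Set G) = ⊤) (B : Set (IrrCharacter G))
    (hB : IsPBlock M B) :
    blockRank p B = blockRank p {ψ : IrrCharacter (G ⧸ Q) | infl Q ψ ∈ B} := by
  classical
  have hpp : p.Prime := Fact.out
  have hMp : M.IsPrime := isPrime_of_isPModular hM
  have : Fintype G := Fintype.ofFinite G
  have : Fintype (G ⧸ Q) := Fintype.ofFinite _
  have := Cfsg.Agent.Lib.CT.Wedderburn.finite_irrCharacter (G ⧸ Q)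
  have : Fintype (IrrCharacter (G ⧸ Q)) := Fintype.ofFinite _
  -- a section picking the `p`-regular lift
  have hsec : ∀ x : G ⧸ Q, ∃ g : G, (g : G ⧸ Q) = x ∧ (¬ p ∣ orderOf x → ¬ p ∣ orderOf g) := by
    intro x
    by_cases hx : p ∣ orderOf x
    · obtain ⟨g, rfl⟩ := QuotientGroup.mk_surjective x
      exact ⟨g, rfl, fun h => absurd hx h⟩
    · obtain ⟨g, hg1, hg2⟩ := Cfsg.Agent.S4964.exists_pRegular_lift p Q hQ x hx
      exact ⟨g, hg1, fun _ => hg2⟩
  choose s hs1 hs2 using hsec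
  have hbar : ∀ g : G, orderOf (g : G ⧸ Q) ∣ orderOf g := fun g =>
    orderOf_map_dvd (QuotientGroup.mk' Q) g
  have hs3 : ∀ g : G, ¬ p ∣ orderOf g → s (g : G ⧸ Q) = g := by
    intro g hg
    have hb : ¬ p ∣ orderOf (g : G ⧸ Q) := fun h => hg (h.trans (hbar g))
    exact pRegular_lift_unique p Q hQ hsup _ _ (hs2 _ hb) hg (hs1 _)
  have hs4 : ∀ x : G ⧸ Q, p ∣ orderOf x → p ∣ orderOf (s x) := by
    intro x hx
    have h1 := hbar (s x)
    rw [hs1] at h1
    exact hx.trans h1
  have hsinj : Function.Injective s := by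
    intro x y hxy
    rw [← hs1 x, ← hs1 y, hxy]
  -- the two linear maps
  obtain ⟨T, hT⟩ : ∃ T : (G → ℂ) →ₗ[ℂ] (G ⧸ Q → ℂ), ∀ f x, T f x = f (s x) :=
    ⟨LinearMap.funLeft ℂ ℂ s, fun f x => rfl⟩
  obtain ⟨S, hS⟩ : ∃ S : (G ⧸ Q → ℂ) →ₗ[ℂ] (G → ℂ),
      ∀ f, S f = pRegularPart p (fun g : G => f (g : G ⧸ Q)) :=
    ⟨(Cfsg.Agent.Lib.Helper75.BlockRank.trunc p).comp
      (LinearMap.funLeft ℂ ℂ (QuotientGroup.mk : G → G ⧸ Q)), fun f => rfl⟩
  have hTS : ∀ f : G ⧸ Q → ℂ, T (S f) = pRegularPart p f := by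
    intro f
    funext x
    rw [hT, hS]
    by_cases hx : p ∣ orderOf x
    · rw [prp_of_sing p _ _ (hs4 x hx), prp_of_sing p _ _ hx]
    · rw [prp_of_reg p _ _ (hs2 x hx), prp_of_reg p _ _ hx, hs1]
  have hST : ∀ f : G → ℂ, S (T f) = pRegularPart p f := by
    intro f
    funext g
    rw [hS]
    by_cases hg : p ∣ orderOf g
    · rw [prp_of_sing p _ _ hg, prp_of_sing p _ _ hg]
    · rw [prp_of_reg p _ _ hg, prp_of_reg p _ _ hg, hT, hs3 g hg]
  obtain ⟨V, hV⟩ : ∃ V : Submodule ℂ (G → ℂ), V = Submodule.span ℂ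
      ((fun χ : IrrCharacter G => pRegularPart p (χ : G → ℂ)) '' B) := ⟨_, rfl⟩
  obtain ⟨W, hW⟩ : ∃ W : Submodule ℂ (G ⧸ Q → ℂ), W = Submodule.span ℂ
      ((fun χ : IrrCharacter (G ⧸ Q) => pRegularPart p (χ : G ⧸ Q → ℂ)) ''
        {ψ : IrrCharacter (G ⧸ Q) | infl Q ψ ∈ B}) := ⟨_, rfl⟩
  -- truncation is the identity on `V` and on `W`
  have htruncV : ∀ v ∈ V, pRegularPart p v = v := by
    intro v hv
    rw [hV] at hv
    refine trunc_eq_self_of_mem_span p _ ?_ v hv
    rintro _ ⟨χ, -, rfl⟩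
    exact Cfsg.Agent.Lib.Helper75.BlockRank.trunc_trunc p _
  have htruncW : ∀ w ∈ W, pRegularPart p w = w := by
    intro w hw
    rw [hW] at hw
    refine trunc_eq_self_of_mem_span p _ ?_ w hw
    rintro _ ⟨χ, -, rfl⟩
    exact Cfsg.Agent.Lib.Helper75.BlockRank.trunc_trunc p _
  -- `S` maps `W` into `V`
  have hSW : ∀ w ∈ W, S w ∈ V := by
    have hmap : W.map S ≤ V := by
      rw [hW, Submodule.map_span_le]
      rintro _ ⟨ψ, hψ, rfl⟩
      have heq : S (pRegularPart p (ψ : G ⧸ Q → ℂ)) = pRegularPart p (infl Q ψ : G → ℂ) := by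
        rw [hS]
        funext g
        by_cases hg : p ∣ orderOf g
        · rw [prp_of_sing p _ _ hg, prp_of_sing p _ _ hg]
        · have hb : ¬ p ∣ orderOf (g : G ⧸ Q) := fun h => hg (h.trans (hbar g))
          rw [prp_of_reg p _ _ hg, prp_of_reg p _ _ hg, prp_of_reg p _ _ hb]
          rfl
      rw [heq, hV]
      exact Submodule.subset_span ⟨infl Q ψ, hψ, rfl⟩
    intro w hw
    exact hmap (Submodule.mem_map_of_mem hw)
  -- `T` maps `V` into `W`
  have hTV : ∀ v ∈ V, T v ∈ W := by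
    have hmap : V.map T ≤ W := by
      rw [hV, Submodule.map_span_le]
      rintro _ ⟨χ, hχ, rfl⟩
      obtain ⟨f, hf⟩ : ∃ f : G ⧸ Q → ℂ, f = T (pRegularPart p (χ : G → ℂ)) := ⟨_, rfl⟩
      have hfx : ∀ x, f x = pRegularPart p (χ : G → ℂ) (s x) := fun x => by rw [hf, hT]
      have hconj : ∀ (G' : Type _) [Group G'] (x y : G'), orderOf (y * x * y⁻¹) = orderOf x :=
        fun G' _ x y => orderOf_injective (MulAut.conj y).toMonoidHom (MulAut.conj y).injective x
      have hcl : IsClassFunction (G ⧸ Q) f := by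
        intro x y
        rw [hfx, hfx]
        by_cases hx : p ∣ orderOf x
        · have hx' : p ∣ orderOf (y * x * y⁻¹) := by rwa [hconj]
          rw [prp_of_sing p _ _ (hs4 _ hx'), prp_of_sing p _ _ (hs4 _ hx)]
        · have hx' : ¬ p ∣ orderOf (y * x * y⁻¹) := by rwa [hconj]
          rw [prp_of_reg p _ _ (hs2 _ hx'), prp_of_reg p _ _ (hs2 _ hx)]
          have h1 : s (y * x * y⁻¹) = s y * s x * (s y)⁻¹ := by
            apply pRegular_lift_unique p Q hQ hsup _ _ (hs2 _ hx')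
            · rw [hconj]
              exact hs2 _ hx
            · rw [hs1, QuotientGroup.mk_mul, QuotientGroup.mk_mul, QuotientGroup.mk_inv, hs1, hs1]
          rw [h1]
          exact Cfsg.Agent.Lib.CT.Orth.irr_isClassFunction χ (s x) (s y)
      have h2 : pRegularPart p f = f := by
        funext x
        by_cases hx : p ∣ orderOf x
        · rw [prp_of_sing p _ _ hx, hfx, prp_of_sing p _ _ (hs4 x hx)]
        · rw [prp_of_reg p _ _ hx]
      have h1 : f = ∑ ψ : IrrCharacter (G ⧸ Q),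
          classInner f (ψ : G ⧸ Q → ℂ) • (ψ : G ⧸ Q → ℂ) := by
        funext x
        rw [Cfsg.Agent.Lib.CT.Orth.classFunction_expand_sum _ hcl x, Finset.sum_apply]
        rfl
      have hexp : f = ∑ ψ : IrrCharacter (G ⧸ Q),
          classInner f (ψ : G ⧸ Q → ℂ) • pRegularPart p (ψ : G ⧸ Q → ℂ) := by
        have h3 : Cfsg.Agent.Lib.Helper75.BlockRank.trunc p f
            = Cfsg.Agent.Lib.Helper75.BlockRank.trunc p (∑ ψ : IrrCharacter (G ⧸ Q),
              classInner f (ψ : G ⧸ Q → ℂ) • (ψ : G ⧸ Q → ℂ)) := congrArg _ h1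
        rw [map_sum] at h3
        simp only [map_smul, Cfsg.Agent.Lib.Helper75.BlockRank.trunc_apply] at h3
        rw [h2] at h3
        exact h3
      rw [← hf, hexp, hW]
      refine Submodule.sum_mem _ fun ψ _ => ?_
      by_cases hψ : infl Q ψ ∈ B
      · exact Submodule.smul_mem _ _ (Submodule.subset_span ⟨ψ, hψ, rfl⟩)
      · have h0 := Cfsg.Agent.Lib.Helper75.BlockRank.classInner_pRegularPart_eq_zero p M hM
          B hB χ (infl Q ψ) hχ hψ
        unfold classInner at h0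
        have hG0 : ∑ g : G, pRegularPart p (χ : G → ℂ) g * conj ((infl Q ψ : G → ℂ) g) = 0 := by
          rcases mul_eq_zero.1 h0 with h | h
          · exact absurd h (inv_ne_zero (Nat.cast_ne_zero.2 Nat.card_pos.ne'))
          · exact h
        have hzero : classInner f (ψ : G ⧸ Q → ℂ) = 0 := by
          unfold classInner
          apply mul_eq_zero_of_right
          have h4 : ∑ x : G ⧸ Q, f x * conj ((ψ : G ⧸ Q → ℂ) x)
              = ∑ x : G ⧸ Q, (fun g : G => pRegularPart p (χ : G → ℂ) g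
                  * conj ((infl Q ψ : G → ℂ) g)) (s x) := by
            apply Finset.sum_congr rfl
            intro x _
            show f x * conj ((ψ : G ⧸ Q → ℂ) x)
              = pRegularPart p (χ : G → ℂ) (s x) * conj ((infl Q ψ : G → ℂ) (s x))
            rw [hfx, infl_apply, hs1]
          rw [h4, ← Finset.sum_image (f := fun g : G =>
            pRegularPart p (χ : G → ℂ) g * conj ((infl Q ψ : G → ℂ) g)) (fun x _ y _ h => hsinj h),
            ← hG0]
          apply Finset.sum_subset (Finset.subset_univ _)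
          intro g _ hg
          have hsing : p ∣ orderOf g := by
            by_contra hreg
            apply hg
            rw [Finset.mem_image]
            exact ⟨(g : G ⧸ Q), Finset.mem_univ _, hs3 g hreg⟩
          rw [prp_of_sing p _ _ hsing, zero_mul]
        rw [hzero, zero_smul]
        exact Submodule.zero_mem _
    intro v hv
    exact hmap (Submodule.mem_map_of_mem hv)
  -- compare the ranks
  have h1 : Module.finrank ℂ V ≤ Module.finrank ℂ W := by
    let T' : V →ₗ[ℂ] W := (T.domRestrict V).codRestrict W (fun v => hTV v.1 v.2)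
    apply LinearMap.finrank_le_finrank_of_injective (f := T')
    intro a b hab
    have h2 : T a.1 = T b.1 := congrArg Subtype.val hab
    have h3 := congrArg S h2
    rw [hST, hST, htruncV _ a.2, htruncV _ b.2] at h3
    exact Subtype.ext h3
  have h2 : Module.finrank ℂ W ≤ Module.finrank ℂ V := by
    let S' : W →ₗ[ℂ] V := (S.domRestrict W).codRestrict V (fun w => hSW w.1 w.2)
    apply LinearMap.finrank_le_finrank_of_injective (f := S')
    intro a b hab
    have h2 : S a.1 = S b.1 := congrArg Subtype.val hab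
    have h3 := congrArg T h2
    rw [hTS, hTS, htruncW _ a.2, htruncW _ b.2] at h3
    exact Subtype.ext h3
  unfold blockRank
  rw [← hV, ← hW]
  exact le_antisymm h1 h2

/-- Index of the centralizer of `Q` is a power of `p` when `G = Q C_G(Q)`. -/
theorem index_centralizer_eq_pow {G : Type*} [Group G] [Finite G] (p : ℕ) [Fact p.Prime]
    (Q : Subgroup G) [Q.Normal] (hQ : IsPGroup p Q)
    (hsup : Q ⊔ Subgroup.centralizer (Q : Set G) = ⊤) :
    ∃ k : ℕ, (Subgroup.centralizer (Q : Set G)).index = p ^ k := by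
  have hpp : p.Prime := Fact.out
  obtain ⟨c, hc⟩ := IsPGroup.iff_card.1 hQ
  have hrel : (Subgroup.centralizer (Q : Set G)).relIndex (Q ⊔ Subgroup.centralizer (Q : Set G))
      = (Subgroup.centralizer (Q : Set G)).index := by
    rw [hsup, Subgroup.relIndex_top_right]
  have hn : (Subgroup.centralizer (Q : Set G)).Normal := inferInstance
  have h2 : (Subgroup.centralizer (Q : Set G)).relIndex (Q ⊔ Subgroup.centralizer (Q : Set G))
      = (Subgroup.centralizer (Q : Set G)).relIndex Q :=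
    Subgroup.relIndex_sup_right Q (Subgroup.centralizer (Q : Set G))
  have h3 : (Subgroup.centralizer (Q : Set G)).relIndex Q ∣ Nat.card Q :=
    Subgroup.relIndex_dvd_card _ _
  rw [hc] at h3
  obtain ⟨k, -, hk⟩ := (Nat.dvd_prime_pow hpp).1 h3
  exact ⟨k, by rw [← hrel, h2, hk]⟩

/-- Under `G = Q C_G(Q)`, inflation reflects and preserves "same block". -/
theorem sameBlock_infl_iff {G : Type*} [Group G] [Finite G] (p : ℕ) [Fact p.Prime]
    (M : Ideal AlgInt) (hM : IsPModular p M) (Q : Subgroup G) [Q.Normal] (hQ : IsPGroup p Q)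
    (hsup : Q ⊔ Subgroup.centralizer (Q : Set G) = ⊤) (ψ ψ' : IrrCharacter (G ⧸ Q)) :
    SameBlock M (infl Q ψ : G → ℂ) (infl Q ψ' : G → ℂ)
      ↔ SameBlock M (ψ : G ⧸ Q → ℂ) (ψ' : G ⧸ Q → ℂ) := by
  have hMp : M.IsPrime := isPrime_of_isPModular hM
  obtain ⟨k, hk⟩ := index_centralizer_eq_pow p Q hQ hsup
  constructor
  · intro h
    exact Cfsg.Agent.Lib.Helper16.QuotP.sameBlock_of_comp_mk_pGroup p hM Q hQ hk ψ ψ' h
  · intro h
    exact Cfsg.Agent.Lib.Helper16.Quot.sameBlock_comp_mk hMp Q _ _ h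

/-- Under `G = Q C_G(Q)`, the characters of `G ⧸ Q` whose inflation lies in the block `B`
form the block of any one of them. -/
theorem quotSet_eq_blockOf {G : Type*} [Group G] [Finite G] (p : ℕ) [Fact p.Prime]
    (M : Ideal AlgInt) (hM : IsPModular p M) (Q : Subgroup G) [Q.Normal] (hQ : IsPGroup p Q)
    (hsup : Q ⊔ Subgroup.centralizer (Q : Set G) = ⊤) (B : Set (IrrCharacter G))
    (hB : IsPBlock M B) (ψ : IrrCharacter (G ⧸ Q)) (hψ : infl Q ψ ∈ B) :
    {ψ' : IrrCharacter (G ⧸ Q) | infl Q ψ' ∈ B} = blockOf M (ψ : G ⧸ Q → ℂ) := by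
  have hMp : M.IsPrime := isPrime_of_isPModular hM
  have hBeq : B = blockOf M (infl Q ψ : G → ℂ) :=
    Cfsg.Agent.Lib.CT.DefectZeroBlock.eq_blockOf_of_mem hMp hB hψ
  ext ψ'
  constructor
  · intro h
    have h1 : infl Q ψ' ∈ blockOf M (infl Q ψ : G → ℂ) := hBeq ▸ h
    exact (sameBlock_infl_iff p M hM Q hQ hsup ψ ψ').1 h1
  · intro h
    have h1 : infl Q ψ' ∈ blockOf M (infl Q ψ : G → ℂ) :=
      (sameBlock_infl_iff p M hM Q hQ hsup ψ ψ').2 h
    show infl Q ψ' ∈ B
    rw [hBeq]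
    exact h1

/-- Under `G = Q C_G(Q)`, every block `B` of `G` contains the inflation of some `ψ`, the
block of `ψ` consists of the characters of `G ⧸ Q` inflating into `B`, and the two blocks
have the same `p`-regular rank. -/
theorem exists_quot_block {G : Type*} [Group G] [Finite G] (p : ℕ) [Fact p.Prime]
    (M : Ideal AlgInt) (hM : IsPModular p M) (Q : Subgroup G) [Q.Normal] (hQ : IsPGroup p Q)
    (hsup : Q ⊔ Subgroup.centralizer (Q : Set G) = ⊤) (B : Set (IrrCharacter G))
    (hB : IsPBlock M B) :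
    ∃ ψ : IrrCharacter (G ⧸ Q), infl Q ψ ∈ B ∧
      {ψ' : IrrCharacter (G ⧸ Q) | infl Q ψ' ∈ B} = blockOf M (ψ : G ⧸ Q → ℂ) ∧
      blockRank p B = blockRank p (blockOf M (ψ : G ⧸ Q → ℂ)) := by
  obtain ⟨θ, hθB, hθ⟩ := Cfsg.Agent.Lib.Helper16.QuotP.exists_trivial_on_normal_pGroup p hM B hB
    Q inferInstance hQ
  obtain ⟨ψ, hψ⟩ := exists_infl_eq Q θ hθ
  have hmem : infl Q ψ ∈ B := hψ ▸ hθB
  have h1 := quotSet_eq_blockOf p M hM Q hQ hsup B hB ψ hmem
  refine ⟨ψ, hmem, h1, ?_⟩
  rw [← h1]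
  exact blockRank_eq_quot p M hM Q hQ hsup B hB

end Cfsg.Agent.Lib.Helper82.RankQuot
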