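import Mathlib

/-!
# Sums of squared absolute values of cyclotomic integers over the generators

For a prime power `N = p ^ n`, a primitive `N`-th root of unity `ζ` and integers `c j`, put
`F t = ∑ j < N, c j * ζ ^ (t * j)`.  If `F` does not vanish at some `t` prime to `N`, then the sum
of `|F t|²` over the `t < N` prime to `N` is at least `φ(N)` (`cyc_ge`; `cyc_ge'` is the same for
an integer combination of powers of arbitrary `N`-th roots of unity).  The proof is elementary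
(Parseval on `ℤ/N` and on `ℤ/(N/p)`), no Galois theory.
-/

set_option autoImplicit false

namespace Cfsg.Agent.Lib.Helper82.CycSum

open scoped ComplexConjugate
open Finset

/-- Splitting a sum over `range (a * b)` into blocks of length `b`. -/
theorem sum_range_mul_eq {M : Type*} [AddCommMonoid M] (g : ℕ → M) (a b : ℕ) :
    ∑ x ∈ range (a * b), g x = ∑ u ∈ range a, ∑ v ∈ range b, g (u * b + v) := by
  induction a with
  | zero => simp
  | succ a ih =>
    rw [Nat.succ_mul, sum_range_add, ih, sum_range_succ]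

/-- The conjugate of a root of unity is its inverse. -/
theorem conj_eq_inv_of_pow {N : ℕ} (hN : N ≠ 0) {μ : ℂ} (h : μ ^ N = 1) : conj μ = μ⁻¹ :=
  (Complex.inv_eq_conj (Complex.norm_eq_one_of_pow_eq_one h hN)).symm

/-- Orthogonality of the powers of a primitive root of unity. -/
theorem sum_pow_mul_conj {N : ℕ} (hN : N ≠ 0) {ζ : ℂ} (hζ : IsPrimitiveRoot ζ N) {j k : ℕ}
    (hj : j < N) (hk : k < N) :
    ∑ t ∈ range N, ζ ^ (t * j) * conj (ζ ^ (t * k)) = if j = k then (N : ℂ) else 0 := by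
  have hζ0 : ζ ≠ 0 := hζ.ne_zero hN
  have hc : conj ζ = ζ⁻¹ := conj_eq_inv_of_pow hN hζ.pow_eq_one
  have hterm : ∀ t : ℕ, ζ ^ (t * j) * conj (ζ ^ (t * k)) = (ζ ^ j * (ζ ^ k)⁻¹) ^ t := by
    intro t
    rw [map_pow, hc, mul_pow, ← pow_mul, mul_comm j t, inv_pow, inv_pow, ← pow_mul, mul_comm k t]
  rw [sum_congr rfl (fun t _ => hterm t)]
  by_cases hjk : j = k
  · subst hjk
    rw [if_pos rfl, mul_inv_cancel₀ (pow_ne_zero _ hζ0)]
    simp
  · rw [if_neg hjk]
    have hw : ζ ^ j * (ζ ^ k)⁻¹ ≠ 1 := by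
      intro h
      apply hjk
      apply hζ.pow_inj hj hk
      have h2 := congrArg (· * ζ ^ k) h
      simp only [one_mul] at h2
      rwa [inv_mul_cancel_right₀ (pow_ne_zero _ hζ0)] at h2
    rw [geom_sum_eq hw, mul_pow, inv_pow, ← pow_mul, ← pow_mul, mul_comm j N, mul_comm k N,
      pow_mul, pow_mul, hζ.pow_eq_one]
    simp

/-- Parseval's identity on `ℤ/N`. -/
theorem parseval {N : ℕ} (hN : N ≠ 0) {ζ : ℂ} (hζ : IsPrimitiveRoot ζ N) (c : ℕ → ℂ) :
    ∑ t ∈ range N, (∑ j ∈ range N, c j * ζ ^ (t * j))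
        * conj (∑ j ∈ range N, c j * ζ ^ (t * j))
      = N * ∑ j ∈ range N, c j * conj (c j) := by
  have h1 : ∀ t : ℕ, (∑ j ∈ range N, c j * ζ ^ (t * j))
        * conj (∑ j ∈ range N, c j * ζ ^ (t * j))
      = ∑ j ∈ range N, ∑ k ∈ range N,
          c j * conj (c k) * (ζ ^ (t * j) * conj (ζ ^ (t * k))) := by
    intro t
    rw [map_sum, sum_mul_sum]
    refine sum_congr rfl fun j _ => sum_congr rfl fun k _ => ?_
    rw [map_mul]
    ring
  rw [sum_congr rfl (fun t _ => h1 t), sum_comm]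
  rw [mul_sum]
  refine sum_congr rfl fun j hj => ?_
  rw [sum_comm]
  have h2 : ∀ k ∈ range N, ∑ t ∈ range N,
      c j * conj (c k) * (ζ ^ (t * j) * conj (ζ ^ (t * k)))
      = if j = k then c j * conj (c k) * (N : ℂ) else 0 := by
    intro k hk
    rw [← mul_sum, sum_pow_mul_conj hN hζ (mem_range.1 hj) (mem_range.1 hk)]
    split_ifs <;> simp
  rw [sum_congr rfl h2, sum_ite_eq (range N) j, if_pos hj]
  ring

/-- Parseval's identity for integer coefficients, in terms of `Complex.normSq`. -/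
theorem parseval_int {N : ℕ} (hN : N ≠ 0) {ζ : ℂ} (hζ : IsPrimitiveRoot ζ N) (c : ℕ → ℤ) :
    ∑ t ∈ range N, Complex.normSq (∑ j ∈ range N, (c j : ℂ) * ζ ^ (t * j))
      = ((N * ∑ j ∈ range N, c j ^ 2 : ℤ) : ℝ) := by
  have h := parseval hN hζ (fun j => (c j : ℂ))
  have h1 : ∀ t : ℕ, (∑ j ∈ range N, (c j : ℂ) * ζ ^ (t * j))
        * conj (∑ j ∈ range N, (c j : ℂ) * ζ ^ (t * j))
      = ((Complex.normSq (∑ j ∈ range N, (c j : ℂ) * ζ ^ (t * j)) : ℝ) : ℂ) :=
    fun t => Complex.mul_conj _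
  rw [sum_congr rfl (fun t _ => h1 t)] at h
  have h2 : ∀ j : ℕ, (c j : ℂ) * conj (c j : ℂ) = (((c j ^ 2 : ℤ) : ℝ) : ℂ) := by
    intro j
    have : conj (c j : ℂ) = (c j : ℂ) := by
      rw [← Complex.ofReal_intCast, Complex.conj_ofReal]
    rw [this]
    push_cast
    ring
  rw [sum_congr rfl (fun j _ => h2 j)] at h
  have h3 : ((∑ t ∈ range N, Complex.normSq (∑ j ∈ range N, (c j : ℂ) * ζ ^ (t * j)) : ℝ) : ℂ)
      = (((N * ∑ j ∈ range N, c j ^ 2 : ℤ) : ℝ) : ℂ) := by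
    push_cast
    push_cast at h
    exact h
  exact_mod_cast h3

/-- `p ∑ a_i² - (∑ a_i)² ≥ 0`. -/
theorem bracket_nonneg (p : ℕ) (a : ℕ → ℤ) :
    0 ≤ (p : ℤ) * ∑ i ∈ range p, a i ^ 2 - (∑ i ∈ range p, a i) ^ 2 := by
  have h := sq_sum_le_card_mul_sum_sq (s := range p) (f := a)
  rw [card_range] at h
  linarith

/-- `p ∑ a_i² - (∑ a_i)² ≥ p - 1` for integers `a_i` that are not all equal. -/
theorem bracket_ge (p : ℕ) (a : ℕ → ℤ) (h : ∃ i < p, a i ≠ a 0) :
    (p : ℤ) - 1 ≤ (p : ℤ) * ∑ i ∈ range p, a i ^ 2 - (∑ i ∈ range p, a i) ^ 2 := by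
  obtain ⟨i₁, hi₁, hne⟩ := h
  have hp0 : 0 < p := lt_of_le_of_lt (Nat.zero_le _) hi₁
  have hsne : (range p).Nonempty := ⟨0, mem_range.2 hp0⟩
  obtain ⟨i₀, hi₀, hmin⟩ := exists_min_image (range p) a hsne
  -- translate
  have htr : (p : ℤ) * ∑ i ∈ range p, a i ^ 2 - (∑ i ∈ range p, a i) ^ 2
      = (p : ℤ) * ∑ i ∈ range p, (a i - a i₀) ^ 2 - (∑ i ∈ range p, (a i - a i₀)) ^ 2 := by
    have e1 : ∑ i ∈ range p, (a i - a i₀) ^ 2
        = ∑ i ∈ range p, a i ^ 2 - 2 * a i₀ * ∑ i ∈ range p, a i + p * a i₀ ^ 2 := by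
      have : ∀ i ∈ range p, (a i - a i₀) ^ 2 = a i ^ 2 - 2 * a i₀ * a i + a i₀ ^ 2 :=
        fun i _ => by ring
      rw [sum_congr rfl this, sum_add_distrib, sum_sub_distrib, ← mul_sum, sum_const, card_range,
        nsmul_eq_mul]
    have e2 : ∑ i ∈ range p, (a i - a i₀) = ∑ i ∈ range p, a i - p * a i₀ := by
      rw [sum_sub_distrib, sum_const, card_range, nsmul_eq_mul]
    rw [e1, e2]
    ring
  rw [htr]
  set b : ℕ → ℤ := fun i => a i - a i₀ with hb
  have hb0 : ∀ i ∈ range p, 0 ≤ b i := fun i hi => sub_nonneg.2 (hmin i hi)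
  set P : Finset ℕ := (range p).filter (fun i => b i ≠ 0) with hP
  have hs1 : ∑ i ∈ range p, b i = ∑ i ∈ P, b i := by
    rw [hP, sum_filter]
    refine sum_congr rfl fun i _ => ?_
    by_cases h0 : b i = 0
    · simp [h0]
    · simp [h0]
  have hs2 : ∑ i ∈ range p, b i ^ 2 = ∑ i ∈ P, b i ^ 2 := by
    rw [hP, sum_filter]
    refine sum_congr rfl fun i _ => ?_
    by_cases h0 : b i = 0
    · simp [h0]
    · simp [h0]
  have hcs := sq_sum_le_card_mul_sum_sq (s := P) (f := b)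
  have hS2 : (P.card : ℤ) ≤ ∑ i ∈ P, b i ^ 2 := by
    have : ∀ i ∈ P, (1 : ℤ) ≤ b i ^ 2 := by
      intro i hi
      have hne0 : b i ≠ 0 := (mem_filter.1 hi).2
      have h0 : 0 ≤ b i := hb0 i (mem_filter.1 hi).1
      have h1 : 1 ≤ b i := by omega
      nlinarith
    calc (P.card : ℤ) = ∑ _i ∈ P, (1 : ℤ) := by simp
      _ ≤ ∑ i ∈ P, b i ^ 2 := sum_le_sum this
  -- bounds on the size of `P`
  have hP1 : 1 ≤ P.card := by
    apply card_pos.2
    by_cases h1 : b i₁ = 0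
    · refine ⟨0, mem_filter.2 ⟨mem_range.2 hp0, ?_⟩⟩
      intro h0
      apply hne
      have e1 : a i₁ = a i₀ := by simpa [hb, sub_eq_zero] using h1
      have e0 : a 0 = a i₀ := by simpa [hb, sub_eq_zero] using h0
      rw [e1, e0]
    · exact ⟨i₁, mem_filter.2 ⟨mem_range.2 hi₁, h1⟩⟩
  have hP2 : P.card + 1 ≤ p := by
    have hsub : P ⊆ (range p).erase i₀ := by
      intro i hi
      refine mem_erase.2 ⟨?_, (mem_filter.1 hi).1⟩
      rintro rfl
      exact (mem_filter.1 hi).2 (by simp [hb])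
    have := card_le_card hsub
    rw [card_erase_of_mem hi₀, card_range] at this
    omega
  rw [hs1, hs2]
  have hz1 : (1 : ℤ) ≤ P.card := by exact_mod_cast hP1
  have hz2 : (P.card : ℤ) + 1 ≤ p := by exact_mod_cast hP2
  nlinarith

/-- The main inequality for `N = p ^ (m + 1)`. -/
theorem cyc_ge_succ {p : ℕ} (hp : p.Prime) (m : ℕ) {ζ : ℂ} (hζ : IsPrimitiveRoot ζ (p ^ (m + 1)))
    (c : ℕ → ℤ)
    (hne : ∃ t, Nat.Coprime t (p ^ (m + 1)) ∧
      ∑ j ∈ range (p ^ (m + 1)), (c j : ℂ) * ζ ^ (t * j) ≠ 0) :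
    ((p ^ (m + 1)).totient : ℝ) ≤
      ∑ t ∈ (range (p ^ (m + 1))).filter (fun t => Nat.Coprime t (p ^ (m + 1))),
        Complex.normSq (∑ j ∈ range (p ^ (m + 1)), (c j : ℂ) * ζ ^ (t * j)) := by
  have hp0 : 0 < p := hp.pos
  have hN' : p ^ m ≠ 0 := pow_ne_zero _ hp.ne_zero
  have hN : p ^ (m + 1) ≠ 0 := pow_ne_zero _ hp.ne_zero
  have hNeq : p ^ (m + 1) = p * p ^ m := pow_succ' p m
  have hNeq' : p ^ (m + 1) = p ^ m * p := pow_succ p m
  have hω : IsPrimitiveRoot (ζ ^ p) (p ^ m) := hζ.pow (pow_pos hp0 _) hNeq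
  have hcop : ∀ t : ℕ, Nat.Coprime t (p ^ (m + 1)) ↔ ¬ p ∣ t := by
    intro t
    rw [Nat.coprime_comm, Nat.coprime_pow_left_iff (Nat.succ_pos m), hp.coprime_iff_not_dvd]
  obtain ⟨F, hF⟩ : ∃ F : ℕ → ℂ, ∀ t, F t = ∑ j ∈ range (p ^ (m + 1)), (c j : ℂ) * ζ ^ (t * j) :=
    ⟨_, fun _ => rfl⟩
  simp only [← hF]
  simp only [← hF] at hne
  -- the class sums of the coefficients
  obtain ⟨C, hC⟩ : ∃ C : ℕ → ℤ, ∀ r, C r = ∑ i ∈ range p, c (i * p ^ m + r) := ⟨_, fun _ => rfl⟩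
  -- Parseval on the full group
  have h1 : ∑ t ∈ range (p ^ (m + 1)), Complex.normSq (F t)
      = (((p ^ (m + 1) : ℕ) * ∑ j ∈ range (p ^ (m + 1)), c j ^ 2 : ℤ) : ℝ) := by
    simp only [hF]
    exact parseval_int hN hζ c
  -- the values at multiples of `p`
  have h2 : ∀ s : ℕ, F (s * p) = ∑ r ∈ range (p ^ m), (C r : ℂ) * (ζ ^ p) ^ (s * r) := by
    intro s
    rw [hF, hNeq, sum_range_mul_eq, sum_comm]
    refine sum_congr rfl fun r _ => ?_
    rw [hC]
    push_cast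
    rw [sum_mul]
    refine sum_congr rfl fun i _ => ?_
    congr 1
    have e : s * p * (i * p ^ m + r) = p ^ (m + 1) * (s * i) + p * (s * r) := by
      rw [hNeq]; ring
    rw [e, pow_add, pow_mul, hζ.pow_eq_one, one_pow, one_mul, pow_mul]
  have h3 : ∑ s ∈ range (p ^ m), Complex.normSq (F (s * p))
      = (((p ^ m : ℕ) * ∑ r ∈ range (p ^ m), C r ^ 2 : ℤ) : ℝ) := by
    simp only [h2]
    exact parseval_int hN' hω C
  -- the sum over the non-units
  have h4 : ∑ t ∈ (range (p ^ (m + 1))).filter (fun t => ¬ Nat.Coprime t (p ^ (m + 1))),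
      Complex.normSq (F t) = ∑ s ∈ range (p ^ m), Complex.normSq (F (s * p)) := by
    rw [sum_filter, hNeq', sum_range_mul_eq]
    refine sum_congr rfl fun s _ => ?_
    have : ∀ i ∈ range p, (if ¬ Nat.Coprime (s * p + i) (p ^ m * p) then
        Complex.normSq (F (s * p + i)) else 0)
        = if i = 0 then Complex.normSq (F (s * p)) else 0 := by
      intro i hi
      have hi' := mem_range.1 hi
      rw [← hNeq']
      by_cases h0 : i = 0
      · subst h0
        rw [if_pos rfl, if_pos, add_zero]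
        rw [hcop, not_not, add_zero]
        exact Dvd.intro_left s rfl
      · rw [if_neg h0, if_neg]
        rw [not_not, hcop]
        intro hd
        have : p ∣ i := (Nat.dvd_add_right (Dvd.intro_left s rfl)).1 hd
        exact h0 (Nat.eq_zero_of_dvd_of_lt this hi')
    rw [sum_congr rfl this, sum_ite_eq' (range p) 0, if_pos (mem_range.2 hp0)]
  have h5 := sum_filter_add_sum_filter_not (range (p ^ (m + 1)))
    (fun t => Nat.Coprime t (p ^ (m + 1))) (fun t => Complex.normSq (F t))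
  -- regrouping the squares of the coefficients
  have h6 : ∑ j ∈ range (p ^ (m + 1)), c j ^ 2
      = ∑ r ∈ range (p ^ m), ∑ i ∈ range p, c (i * p ^ m + r) ^ 2 := by
    rw [hNeq, sum_range_mul_eq, sum_comm]
  -- some class is not constant
  have h7 : ∃ r ∈ range (p ^ m), ∃ i < p, c (i * p ^ m + r) ≠ c (0 * p ^ m + r) := by
    by_contra hcon
    push Not at hcon
    obtain ⟨t, ht, hFt⟩ := hne
    apply hFt
    rw [hF, hNeq, sum_range_mul_eq]
    have hε : ζ ^ (t * p ^ m) ≠ 1 := by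
      intro h
      have hd := (hζ.pow_eq_one_iff_dvd _).1 h
      rw [hNeq] at hd
      have : p ∣ t := by
        rcases hd with ⟨k, hk⟩
        have : p ^ m * t = p ^ m * (p * k) := by rw [mul_comm, hk]; ring
        exact ⟨k, Nat.eq_of_mul_eq_mul_left (pow_pos hp0 m) this⟩
      exact (hcop t).1 ht this
    have e1 : ∀ i ∈ range p, ∑ r ∈ range (p ^ m), (c (i * p ^ m + r) : ℂ) * ζ ^ (t * (i * p ^ m + r))
        = (ζ ^ (t * p ^ m)) ^ i * ∑ r ∈ range (p ^ m), (c (0 * p ^ m + r) : ℂ) * ζ ^ (t * r) := by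
      intro i hi
      rw [mul_sum]
      refine sum_congr rfl fun r hr => ?_
      rw [hcon r hr i (mem_range.1 hi)]
      have e : t * (i * p ^ m + r) = t * p ^ m * i + t * r := by ring
      rw [e, pow_add, pow_mul]
      ring
    rw [sum_congr rfl e1, ← sum_mul, geom_sum_eq hε, ← pow_mul]
    have e2 : t * p ^ m * p = p ^ (m + 1) * t := by rw [hNeq]; ring
    rw [e2, pow_mul, hζ.pow_eq_one, one_pow, sub_self, zero_div, zero_mul]
  obtain ⟨r₀, hr₀, hi₀⟩ := h7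
  -- the brackets
  have h8 : ∀ r ∈ range (p ^ m), 0 ≤ (p : ℤ) * ∑ i ∈ range p, c (i * p ^ m + r) ^ 2
      - (C r) ^ 2 := by
    intro r _
    rw [hC]
    exact bracket_nonneg p (fun i => c (i * p ^ m + r))
  have h9 : (p : ℤ) - 1 ≤ (p : ℤ) * ∑ i ∈ range p, c (i * p ^ m + r₀) ^ 2 - (C r₀) ^ 2 := by
    rw [hC]
    exact bracket_ge p (fun i => c (i * p ^ m + r₀)) hi₀
  have h10 : (p : ℤ) - 1 ≤ ∑ r ∈ range (p ^ m),
      ((p : ℤ) * ∑ i ∈ range p, c (i * p ^ m + r) ^ 2 - (C r) ^ 2) :=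
    le_trans h9 (single_le_sum h8 hr₀)
  rw [sum_sub_distrib, ← mul_sum, ← h6] at h10
  -- conclusion
  have h11 : ∑ t ∈ (range (p ^ (m + 1))).filter (fun t => Nat.Coprime t (p ^ (m + 1))),
      Complex.normSq (F t)
      = (((p ^ m : ℕ) * ((p : ℤ) * ∑ j ∈ range (p ^ (m + 1)), c j ^ 2
          - ∑ r ∈ range (p ^ m), C r ^ 2) : ℤ) : ℝ) := by
    have : ∑ t ∈ (range (p ^ (m + 1))).filter (fun t => Nat.Coprime t (p ^ (m + 1))),
        Complex.normSq (F t)
        = ∑ t ∈ range (p ^ (m + 1)), Complex.normSq (F t)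
          - ∑ s ∈ range (p ^ m), Complex.normSq (F (s * p)) := by
      rw [← h4, ← h5]; ring
    rw [this, h1, h3, hNeq]
    push_cast
    ring
  rw [h11, Nat.totient_prime_pow_succ hp]
  have hp1 : 1 ≤ p := hp0
  have h12 : ((p ^ m * (p - 1) : ℕ) : ℤ) ≤ (p ^ m : ℕ) * ((p : ℤ) * ∑ j ∈ range (p ^ (m + 1)), c j ^ 2
          - ∑ r ∈ range (p ^ m), C r ^ 2) := by
    push_cast [Nat.cast_sub hp1]
    exact mul_le_mul_of_nonneg_left h10 (by positivity)
  exact_mod_cast h12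

/-- The main inequality: for `N = p ^ n`, `ζ` a primitive `N`-th root of unity and integers
`c j`, if `F t = ∑ j < N, c j ζ ^ (t j)` is nonzero at some `t` prime to `N`, then the sum of
`|F t|²` over the `t < N` prime to `N` is at least `φ(N)`. -/
theorem cyc_ge {p : ℕ} (hp : p.Prime) (n : ℕ) {ζ : ℂ} (hζ : IsPrimitiveRoot ζ (p ^ n))
    (c : ℕ → ℤ)
    (hne : ∃ t, Nat.Coprime t (p ^ n) ∧ ∑ j ∈ range (p ^ n), (c j : ℂ) * ζ ^ (t * j) ≠ 0) :
    ((p ^ n).totient : ℝ) ≤ ∑ t ∈ (range (p ^ n)).filter (fun t => Nat.Coprime t (p ^ n)),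
        Complex.normSq (∑ j ∈ range (p ^ n), (c j : ℂ) * ζ ^ (t * j)) := by
  cases n with
  | zero =>
    obtain ⟨t, -, ht⟩ := hne
    simp only [pow_zero, range_one, sum_singleton, mul_zero, mul_one] at ht ⊢
    have hc0 : c 0 ≠ 0 := by
      intro h
      apply ht
      rw [h]; simp
    have hfil : ({0} : Finset ℕ).filter (fun t => Nat.Coprime t 1) = {0} := by
      ext x; simp
    rw [hfil, sum_singleton, Nat.totient_one]
    simp only [Complex.normSq_intCast]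
    have : (1 : ℤ) ≤ c 0 * c 0 := by
      rcases lt_or_gt_of_ne hc0 with h | h
      · nlinarith
      · nlinarith
    exact_mod_cast this
  | succ m => exact cyc_ge_succ hp m hζ c hne

/-- The main inequality for an integer combination of powers of `p ^ n`-th roots of unity. -/
theorem cyc_ge' {p : ℕ} (hp : p.Prime) (n : ℕ) {ι : Type*} (s : Finset ι) (K : ι → ℤ)
    (μ : ι → ℂ) (hμ : ∀ i ∈ s, μ i ^ (p ^ n) = 1)
    (hne : ∃ t, Nat.Coprime t (p ^ n) ∧ ∑ i ∈ s, (K i : ℂ) * μ i ^ t ≠ 0) :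
    ((p ^ n).totient : ℝ) ≤ ∑ t ∈ (range (p ^ n)).filter (fun t => Nat.Coprime t (p ^ n)),
        Complex.normSq (∑ i ∈ s, (K i : ℂ) * μ i ^ t) := by
  classical
  have hN : p ^ n ≠ 0 := pow_ne_zero _ hp.ne_zero
  have : NeZero (p ^ n) := ⟨hN⟩
  obtain ⟨ζ, hζ⟩ : ∃ ζ : ℂ, IsPrimitiveRoot ζ (p ^ n) := ⟨_, Complex.isPrimitiveRoot_exp (p ^ n) hN⟩
  have hex : ∀ i : ι, ∃ e : ℕ, e < p ^ n ∧ (i ∈ s → ζ ^ e = μ i) := by
    intro i
    by_cases hi : i ∈ s
    · obtain ⟨e, he, h⟩ := hζ.eq_pow_of_pow_eq_one (hμ i hi)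
      exact ⟨e, he, fun _ => h⟩
    · exact ⟨0, pow_pos hp.pos n, fun h => absurd h hi⟩
  choose e he1 he2 using hex
  obtain ⟨c, hc⟩ : ∃ c : ℕ → ℤ, ∀ j, c j = ∑ i ∈ s.filter (fun i => e i = j), K i :=
    ⟨_, fun _ => rfl⟩
  have key : ∀ t : ℕ, ∑ i ∈ s, (K i : ℂ) * μ i ^ t
      = ∑ j ∈ range (p ^ n), (c j : ℂ) * ζ ^ (t * j) := by
    intro t
    rw [← sum_fiberwise_of_maps_to (g := e) (t := range (p ^ n))
      (fun i _ => mem_range.2 (he1 i))]
    refine sum_congr rfl fun j _ => ?_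
    rw [hc]
    push_cast
    rw [sum_mul]
    refine sum_congr rfl fun i hi => ?_
    obtain ⟨his, hij⟩ := mem_filter.1 hi
    rw [← he2 i his, hij, ← pow_mul, mul_comm j t]
  simp only [key]
  simp only [key] at hne
  exact cyc_ge hp n hζ c hne

end Cfsg.Agent.Lib.Helper82.CycSum
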