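import Mathlib

/-!
# Binary integral forms: weak reduction and a lower bound

* `exists_reduced`: a pair of vectors can be replaced, by elementary moves, by a pair `(ψ0, ψ1)`
  with `2 |B(ψ0, ψ1)| ≤ B(ψ0, ψ0)` and `2 |B(ψ0, ψ1)| ≤ B(ψ1, ψ1)`, for a positive semidefinite
  integer-valued form `B`.
* `form_ge`: for such a weakly reduced form and families of complex numbers `X0 t`, `X1 t`, the
  sum over `t` of the values of the Hermitian form is at least `2 φ`, as soon as the sums of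
  squares of the nonzero ones among `X0`, `X1`, `X0 ± X1` are at least `φ`.
-/

set_option autoImplicit false

namespace Cfsg.Agent.Lib.Helper82.Lat2

open Finset

/-- Weak Lagrange reduction of a pair of vectors for a positive semidefinite integral form. -/
theorem exists_reduced {V : Type*} [AddCommGroup V] (Bf : V → V → ℤ)
    (hnn : ∀ u, 0 ≤ Bf u u)
    (hadd : ∀ u v, Bf (u + v) (u + v) = Bf u u + 2 * Bf u v + Bf v v)
    (hsub : ∀ u v, Bf (u - v) (u - v) = Bf u u - 2 * Bf u v + Bf v v)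
    (hsymm : ∀ u v, Bf u v = Bf v u)
    (Gen : V → V → Prop)
    (hG1 : ∀ u v, Gen u v → Gen u (v + u)) (hG2 : ∀ u v, Gen u v → Gen u (v - u))
    (hG3 : ∀ u v, Gen u v → Gen (u + v) v) (hG4 : ∀ u v, Gen u v → Gen (u - v) v) :
    ∀ (n : ℕ) (φ0 φ1 : V), Gen φ0 φ1 → (Bf φ0 φ0 + Bf φ1 φ1).toNat = n →
      ∃ ψ0 ψ1, Gen ψ0 ψ1 ∧ 2 * |Bf ψ0 ψ1| ≤ Bf ψ0 ψ0 ∧ 2 * |Bf ψ0 ψ1| ≤ Bf ψ1 ψ1 := by
  intro n
  induction n using Nat.strong_induction_on with
  | _ n ih =>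
    intro φ0 φ1 hgen hn
    have n0 := hnn φ0
    have n1 := hnn φ1
    by_cases h0 : 2 * |Bf φ0 φ1| ≤ Bf φ0 φ0
    · by_cases h1 : 2 * |Bf φ0 φ1| ≤ Bf φ1 φ1
      · exact ⟨φ0, φ1, hgen, h0, h1⟩
      · push Not at h1
        by_cases hs : 0 ≤ Bf φ0 φ1
        · have hq := hsub φ0 φ1
          have n2 := hnn (φ0 - φ1)
          rw [abs_of_nonneg hs] at h1
          refine ih _ ?_ (φ0 - φ1) φ1 (hG4 _ _ hgen) rfl
          omega
        · push Not at hs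
          have hq := hadd φ0 φ1
          have n2 := hnn (φ0 + φ1)
          rw [abs_of_neg hs] at h1
          refine ih _ ?_ (φ0 + φ1) φ1 (hG3 _ _ hgen) rfl
          omega
    · push Not at h0
      have hsy := hsymm φ1 φ0
      by_cases hs : 0 ≤ Bf φ0 φ1
      · have hq := hsub φ1 φ0
        have n2 := hnn (φ1 - φ0)
        rw [abs_of_nonneg hs] at h0
        refine ih _ ?_ φ0 (φ1 - φ0) (hG2 _ _ hgen) rfl
        omega
      · push Not at hs
        have hq := hadd φ1 φ0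
        have n2 := hnn (φ1 + φ0)
        rw [abs_of_neg hs] at h0
        refine ih _ ?_ φ0 (φ1 + φ0) (hG1 _ _ hgen) rfl
        omega

/-- Lower bound for the sum of the values of a weakly reduced binary Hermitian form. -/
theorem form_ge (g00 g01 g11 : ℤ) (hr0 : 2 * |g01| ≤ g00) (hr1 : 2 * |g01| ≤ g11)
    (U : Finset ℕ) (X0 X1 : ℕ → ℂ) (φ : ℝ) (hφ : 0 ≤ φ)
    (h0 : X0 1 ≠ 0 → φ ≤ ∑ t ∈ U, Complex.normSq (X0 t))
    (h1 : X1 1 ≠ 0 → φ ≤ ∑ t ∈ U, Complex.normSq (X1 t))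
    (hp : X0 1 + X1 1 ≠ 0 → φ ≤ ∑ t ∈ U, Complex.normSq (X0 t + X1 t))
    (hm : X0 1 - X1 1 ≠ 0 → φ ≤ ∑ t ∈ U, Complex.normSq (X0 t - X1 t))
    (hcase : (X0 1 ≠ 0 ∧ 2 ≤ g00) ∨ (X1 1 ≠ 0 ∧ 2 ≤ g11)) :
    2 * φ ≤ ∑ t ∈ U, ((g00 : ℝ) * Complex.normSq (X0 t) + (g11 : ℝ) * Complex.normSq (X1 t)
      + (g01 : ℝ) * (2 * (X0 t * (starRingEnd ℂ) (X1 t)).re)) := by
  obtain ⟨S0, hS0⟩ : ∃ S : ℝ, S = ∑ t ∈ U, Complex.normSq (X0 t) := ⟨_, rfl⟩
  obtain ⟨S1, hS1⟩ : ∃ S : ℝ, S = ∑ t ∈ U, Complex.normSq (X1 t) := ⟨_, rfl⟩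
  obtain ⟨Cr, hCr⟩ : ∃ S : ℝ, S = ∑ t ∈ U, (2 * (X0 t * (starRingEnd ℂ) (X1 t)).re) := ⟨_, rfl⟩
  have hSp : ∑ t ∈ U, Complex.normSq (X0 t + X1 t) = S0 + S1 + Cr := by
    rw [hS0, hS1, hCr, ← sum_add_distrib, ← sum_add_distrib]
    refine sum_congr rfl fun t _ => ?_
    rw [Complex.normSq_add]
  have hSm : ∑ t ∈ U, Complex.normSq (X0 t - X1 t) = S0 + S1 - Cr := by
    rw [hS0, hS1, hCr, ← sum_add_distrib, ← sum_sub_distrib]
    refine sum_congr rfl fun t _ => ?_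
    rw [Complex.normSq_sub]
  have hrhs : ∑ t ∈ U, ((g00 : ℝ) * Complex.normSq (X0 t) + (g11 : ℝ) * Complex.normSq (X1 t)
      + (g01 : ℝ) * (2 * (X0 t * (starRingEnd ℂ) (X1 t)).re))
      = (g00 : ℝ) * S0 + (g11 : ℝ) * S1 + (g01 : ℝ) * Cr := by
    rw [hS0, hS1, hCr, mul_sum, mul_sum, mul_sum, ← sum_add_distrib, ← sum_add_distrib]
  rw [hrhs]
  rw [hSp] at hp
  rw [hSm] at hm
  rw [← hS0] at h0
  rw [← hS1] at h1
  have n0 : 0 ≤ S0 := by rw [hS0]; exact sum_nonneg fun _ _ => Complex.normSq_nonneg _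
  have n1 : 0 ≤ S1 := by rw [hS1]; exact sum_nonneg fun _ _ => Complex.normSq_nonneg _
  have np : 0 ≤ S0 + S1 + Cr := by
    rw [← hSp]; exact sum_nonneg fun _ _ => Complex.normSq_nonneg _
  have nm : 0 ≤ S0 + S1 - Cr := by
    rw [← hSm]; exact sum_nonneg fun _ _ => Complex.normSq_nonneg _
  have r0 : 2 * |(g01 : ℝ)| ≤ (g00 : ℝ) := by exact_mod_cast hr0
  have r1 : 2 * |(g01 : ℝ)| ≤ (g11 : ℝ) := by exact_mod_cast hr1
  obtain ⟨a, ha⟩ : ∃ a : ℝ, a = (g00 : ℝ) := ⟨_, rfl⟩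
  obtain ⟨b, hb⟩ : ∃ b : ℝ, b = (g11 : ℝ) := ⟨_, rfl⟩
  obtain ⟨c, hc⟩ : ∃ c : ℝ, c = (g01 : ℝ) := ⟨_, rfl⟩
  rw [← ha, ← hc] at r0
  rw [← hb, ← hc] at r1
  rw [← ha, ← hb, ← hc]
  have hcase' : (X0 1 ≠ 0 ∧ 2 ≤ a) ∨ (X1 1 ≠ 0 ∧ 2 ≤ b) := by
    rcases hcase with ⟨h, h'⟩ | ⟨h, h'⟩
    · left; refine ⟨h, ?_⟩; rw [ha]; exact_mod_cast h'
    · right; refine ⟨h, ?_⟩; rw [hb]; exact_mod_cast h'
  by_cases hc0 : 0 ≤ c
  · rw [abs_of_nonneg hc0] at r0 r1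
    have e : a * S0 + b * S1 + c * Cr = (a - c) * S0 + (b - c) * S1 + c * (S0 + S1 + Cr) := by
      ring
    rw [e]
    have nc : 0 ≤ c * (S0 + S1 + Cr) := mul_nonneg hc0 np
    have na : 0 ≤ (a - c) * S0 := mul_nonneg (by linarith) n0
    have nb : 0 ≤ (b - c) * S1 := mul_nonneg (by linarith) n1
    rcases hcase' with ⟨hx, h2⟩ | ⟨hx, h2⟩
    · have hS := h0 hx
      have ma : (a - c) * φ ≤ (a - c) * S0 := mul_le_mul_of_nonneg_left hS (by linarith)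
      by_cases hx1 : X1 1 = 0
      · have hpp := hp (by rw [hx1, add_zero]; exact hx)
        have mc : c * φ ≤ c * (S0 + S1 + Cr) := mul_le_mul_of_nonneg_left hpp hc0
        nlinarith
      · have hS' := h1 hx1
        have mb : (b - c) * φ ≤ (b - c) * S1 := mul_le_mul_of_nonneg_left hS' (by linarith)
        nlinarith
    · have hS := h1 hx
      have mb : (b - c) * φ ≤ (b - c) * S1 := mul_le_mul_of_nonneg_left hS (by linarith)
      by_cases hx0 : X0 1 = 0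
      · have hpp := hp (by rw [hx0, zero_add]; exact hx)
        have mc : c * φ ≤ c * (S0 + S1 + Cr) := mul_le_mul_of_nonneg_left hpp hc0
        nlinarith
      · have hS' := h0 hx0
        have ma : (a - c) * φ ≤ (a - c) * S0 := mul_le_mul_of_nonneg_left hS' (by linarith)
        nlinarith
  · push Not at hc0
    rw [abs_of_neg hc0] at r0 r1
    have e : a * S0 + b * S1 + c * Cr = (a + c) * S0 + (b + c) * S1 + (-c) * (S0 + S1 - Cr) := by
      ring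
    rw [e]
    have hc0' : 0 ≤ -c := by linarith
    have nc : 0 ≤ (-c) * (S0 + S1 - Cr) := mul_nonneg hc0' nm
    have na : 0 ≤ (a + c) * S0 := mul_nonneg (by linarith) n0
    have nb : 0 ≤ (b + c) * S1 := mul_nonneg (by linarith) n1
    rcases hcase' with ⟨hx, h2⟩ | ⟨hx, h2⟩
    · have hS := h0 hx
      have ma : (a + c) * φ ≤ (a + c) * S0 := mul_le_mul_of_nonneg_left hS (by linarith)
      by_cases hx1 : X1 1 = 0
      · have hpp := hm (by rw [hx1, sub_zero]; exact hx)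
        have mc : (-c) * φ ≤ (-c) * (S0 + S1 - Cr) := mul_le_mul_of_nonneg_left hpp hc0'
        nlinarith
      · have hS' := h1 hx1
        have mb : (b + c) * φ ≤ (b + c) * S1 := mul_le_mul_of_nonneg_left hS' (by linarith)
        nlinarith
    · have hS := h1 hx
      have mb : (b + c) * φ ≤ (b + c) * S1 := mul_le_mul_of_nonneg_left hS (by linarith)
      by_cases hx0 : X0 1 = 0
      · have hpp := hm (by rw [hx0, zero_sub]; exact neg_ne_zero.2 hx)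
        have mc : (-c) * φ ≤ (-c) * (S0 + S1 - Cr) := mul_le_mul_of_nonneg_left hpp hc0'
        nlinarith
      · have hS' := h0 hx0
        have ma : (a + c) * φ ≤ (a + c) * S0 := mul_le_mul_of_nonneg_left hS' (by linarith)
        nlinarith

end Cfsg.Agent.Lib.Helper82.Lat2
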