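import Mathlib
import Cfsg.Agent.Lib.Helper75.Section3
import Cfsg.Agent.Lib.Helper75.BlockRank
import Cfsg.Agent.Lib.CT.Orth

/-!
# The contribution matrix of a subsection: sum of squares

For a `p`-element `x`, `C = C_G(x)` and a block `b` of `C` inducing the block `B` of `G`, put
`a χ η = ⟨c ↦ χ(x c), η⟩_C` and
`mm χ ψ = ∑_{η, η' ∈ b} a χ η * conj (a ψ η') * ⟨η⁰, η'⟩_C`
(the contribution of the subsection `(x, b)` to `⟨χ, ψ⟩`).  Then
`∑_{χ, ψ ∈ B} |mm χ ψ|² = l(b)` (`sum_sq_sec`, stated for any subgroup equal to `C_G(x)`).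
-/

set_option autoImplicit false

namespace Cfsg.Agent.Lib.Helper82.SecSq

open Cfsg Cfsg.Agent.Lib.Helper77.LocalRing
  Cfsg.Agent.Lib.Helper75.Section Cfsg.Agent.Lib.Helper75.Section2
  Cfsg.Agent.Lib.Helper75.Section3 Cfsg.Agent.Lib.Helper75.BlockRank
open scoped ComplexConjugate
open Finset

universe u
variable {G : Type u} [Group G]

/-- Truncation of a linear combination. -/
theorem pRegularPart_sum (p : ℕ) {ι : Type*} (s : Finset ι) (c : ι → ℂ) (F : ι → G → ℂ) :
    pRegularPart p (∑ i ∈ s, c i • F i) = ∑ i ∈ s, c i • pRegularPart p (F i) := by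
  rw [← trunc_apply, map_sum]
  refine sum_congr rfl fun i _ => ?_
  rw [map_smul, trunc_apply]

/-- Symmetry of the truncated inner product. -/
theorem classInner_trunc_symm [Fintype G] (p : ℕ) (a b : G → ℂ) :
    classInner (pRegularPart p a) b = conj (classInner (pRegularPart p b) a) := by
  rw [← classInner_pRegularPart_right, Cfsg.Agent.Lib.CT.Clifford.classInner_conj_symm,
    classInner_pRegularPart_right]

/-- The truncated inner product of a class function with an irreducible character, through the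
coefficients of the class function. -/
theorem classInner_trunc_expand [Fintype G] [Fintype (IrrCharacter G)] (p : ℕ) (γ : G → ℂ)
    (hγ : IsClassFunction G γ) (ξ : G → ℂ) :
    classInner (pRegularPart p γ) ξ
      = ∑ η : IrrCharacter G, classInner γ (η : G → ℂ)
          * classInner (pRegularPart p (η : G → ℂ)) ξ := by
  have h2 : γ = ∑ η : IrrCharacter G, classInner γ (η : G → ℂ) • (η : G → ℂ) := by
    funext s
    rw [Cfsg.Agent.Lib.CT.Orth.classFunction_expand_sum γ hγ s, Finset.sum_apply]
    rfl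
  conv_lhs => rw [h2]
  rw [pRegularPart_sum, Cfsg.Agent.Lib.CT.Orth.classInner_sum_left]
  refine sum_congr rfl fun η _ => ?_
  rw [Cfsg.Agent.Lib.CT.Orth.classInner_smul_left]

/-- The Gram matrix of the truncated characters of a block, summed against the block. -/
theorem sum_block_trunc [Fintype G] [Fintype (IrrCharacter G)] (p : ℕ) [Fact p.Prime]
    (M : Ideal AlgInt) (hM : IsPModular p M) (b : Set (IrrCharacter G)) (hb : IsPBlock M b)
    [DecidablePred (· ∈ b)] (η η' : IrrCharacter G) :
    ∑ ξ ∈ univ.filter (· ∈ b), classInner (pRegularPart p (η : G → ℂ)) (ξ : G → ℂ)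
        * conj (classInner (pRegularPart p (η' : G → ℂ)) (ξ : G → ℂ))
      = if η ∈ b ∧ η' ∈ b then classInner (pRegularPart p (η : G → ℂ)) (η' : G → ℂ) else 0 := by
  by_cases hη : η ∈ b
  · by_cases hη' : η' ∈ b
    · rw [if_pos ⟨hη, hη'⟩, ← classInner_pRegularPart_right,
        classInner_eq_sum _ _ (isClassFunction_pRegularPart p
          (Cfsg.Agent.Lib.CT.Orth.irr_isClassFunction η)), sum_filter]
      refine sum_congr rfl fun ξ _ => ?_
      by_cases hξ : ξ ∈ b
      · rw [if_pos hξ]
      · rw [if_neg hξ, classInner_pRegularPart_eq_zero p M hM b hb η ξ hη hξ, zero_mul]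
    · rw [if_neg (fun h => hη' h.2)]
      refine sum_eq_zero fun ξ hξ => ?_
      rw [classInner_trunc_symm p (η' : G → ℂ),
        classInner_pRegularPart_eq_zero p M hM b hb ξ η' (mem_filter.1 hξ).2 hη', map_zero,
        map_zero, mul_zero]
  · rw [if_neg (fun h => hη h.1)]
    refine sum_eq_zero fun ξ hξ => ?_
    rw [classInner_trunc_symm p (η : G → ℂ),
      classInner_pRegularPart_eq_zero p M hM b hb ξ η (mem_filter.1 hξ).2 hη, map_zero, zero_mul]

/-- The contribution of a block `b` to the pairing of two class functions: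
`∑_{η, η' ∈ b} ⟨γ, η⟩ conj ⟨γ', η'⟩ ⟨η⁰, η'⟩`. -/
noncomputable def mm [Fintype G] [Fintype (IrrCharacter G)] (p : ℕ) (b : Set (IrrCharacter G))
    [DecidablePred (· ∈ b)] (γ γ' : G → ℂ) : ℂ :=
  ∑ η ∈ univ.filter (· ∈ b), ∑ η' ∈ univ.filter (· ∈ b),
    classInner γ (η : G → ℂ) * conj (classInner γ' (η' : G → ℂ))
      * classInner (pRegularPart p (η : G → ℂ)) (η' : G → ℂ)

/-- The contribution through the truncated class functions. -/
theorem sum_trunc_eq_mm [Fintype G] [Fintype (IrrCharacter G)] (p : ℕ) [Fact p.Prime]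
    (M : Ideal AlgInt) (hM : IsPModular p M) (b : Set (IrrCharacter G)) (hb : IsPBlock M b)
    [DecidablePred (· ∈ b)] (γ γ' : G → ℂ) (hγ : IsClassFunction G γ)
    (hγ' : IsClassFunction G γ') :
    ∑ ξ ∈ univ.filter (· ∈ b), classInner (pRegularPart p γ) (ξ : G → ℂ)
        * conj (classInner (pRegularPart p γ') (ξ : G → ℂ)) = mm p b γ γ' := by
  have h1 : ∀ ξ : IrrCharacter G, classInner (pRegularPart p γ) (ξ : G → ℂ)
        * conj (classInner (pRegularPart p γ') (ξ : G → ℂ))
      = ∑ η : IrrCharacter G, ∑ η' : IrrCharacter G,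
          classInner γ (η : G → ℂ) * conj (classInner γ' (η' : G → ℂ))
            * (classInner (pRegularPart p (η : G → ℂ)) (ξ : G → ℂ)
              * conj (classInner (pRegularPart p (η' : G → ℂ)) (ξ : G → ℂ))) := by
    intro ξ
    rw [classInner_trunc_expand p γ hγ, classInner_trunc_expand p γ' hγ', map_sum, sum_mul_sum]
    refine sum_congr rfl fun η _ => sum_congr rfl fun η' _ => ?_
    rw [map_mul]
    ring
  rw [sum_congr rfl (fun ξ _ => h1 ξ), sum_comm]
  unfold mm
  rw [sum_filter]
  refine sum_congr rfl fun η _ => ?_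
  rw [sum_comm]
  by_cases hη : η ∈ b
  · rw [if_pos hη, sum_filter]
    refine sum_congr rfl fun η' _ => ?_
    rw [← mul_sum, sum_block_trunc p M hM b hb η η']
    by_cases hη' : η' ∈ b
    · rw [if_pos hη', if_pos ⟨hη, hη'⟩]
    · rw [if_neg hη', if_neg (fun h => hη' h.2), mul_zero]
  · rw [if_neg hη]
    refine sum_eq_zero fun η' _ => ?_
    rw [← mul_sum, sum_block_trunc p M hM b hb η η', if_neg (fun h => hη h.1), mul_zero]

section sec

variable [Fintype G] [Fintype (IrrCharacter G)] (p : ℕ) [Fact p.Prime] (M : Ideal AlgInt)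
  (hM : IsPModular p M)

include hM in
/-- The polarized form of helper75's `sum_sq_classInner_secRes`, restricted to the block. -/
theorem sum_beta (B : Set (IrrCharacter G)) [DecidablePred (· ∈ B)] (x : G)
    (hx : ∃ k : ℕ, orderOf x = p ^ k) [Fintype (Subgroup.centralizer ({x} : Set G))]
    (ξ ξ' : IrrCharacter (Subgroup.centralizer ({x} : Set G))) (hξ : ξ ∈ secT M x B) :
    ∑ χ ∈ univ.filter (· ∈ B),
        classInner (secRes p x (χ : G → ℂ)) (ξ : Subgroup.centralizer ({x} : Set G) → ℂ)
          * conj (classInner (secRes p x (χ : G → ℂ))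
            (ξ' : Subgroup.centralizer ({x} : Set G) → ℂ))
      = classInner (pRegularPart p (ξ' : Subgroup.centralizer ({x} : Set G) → ℂ))
          (ξ : Subgroup.centralizer ({x} : Set G) → ℂ) := by
  have hpp : p.Prime := Fact.out
  rw [sum_filter]
  have h1 : ∀ χ : IrrCharacter G,
      (if χ ∈ B then
        classInner (secRes p x (χ : G → ℂ)) (ξ : Subgroup.centralizer ({x} : Set G) → ℂ)
          * conj (classInner (secRes p x (χ : G → ℂ))
            (ξ' : Subgroup.centralizer ({x} : Set G) → ℂ)) else 0)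
      = classInner (secInd p x (ξ' : Subgroup.centralizer ({x} : Set G) → ℂ)) (χ : G → ℂ)
          * conj (classInner (secInd p x (ξ : Subgroup.centralizer ({x} : Set G) → ℂ))
            (χ : G → ℂ)) := by
    intro χ
    have hχc := Cfsg.Agent.Lib.CT.Orth.irr_isClassFunction χ
    by_cases hχ : χ ∈ B
    · rw [if_pos hχ, classInner_secRes_irr p x _ hχc, classInner_secRes_irr p x _ hχc,
        Complex.conj_conj, mul_comm]
    · rw [if_neg hχ]
      have h0 := coeff_zero_right p M hM x hx B χ hχ ξ hξ
      rw [classInner_secRes_irr p x _ hχc] at h0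
      rw [h0, mul_zero]
  rw [sum_congr rfl (fun χ _ => h1 χ), ← classInner_eq_sum _ _ (secInd_isClassFunction p x _),
    classInner_secInd p x _ _ (secInd_isClassFunction p x _),
    secRes_secInd hpp hx _ (Cfsg.Agent.Lib.CT.Orth.irr_isClassFunction ξ),
    classInner_pRegularPart_right]

include hM in
/-- The sum of squares of the contributions of the subsection `(x, b)`, for `C_G(x)`. -/
theorem sum_sq_sec_aux (B : Set (IrrCharacter G)) [DecidablePred (· ∈ B)] (x : G)
    (hx : ∃ k : ℕ, orderOf x = p ^ k) [Fintype (Subgroup.centralizer ({x} : Set G))]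
    [Fintype (IrrCharacter (Subgroup.centralizer ({x} : Set G)))]
    (b : Set (IrrCharacter (Subgroup.centralizer ({x} : Set G)))) [DecidablePred (· ∈ b)]
    (hind : IsInducedBlock M (Subgroup.centralizer ({x} : Set G)) b B) :
    ∑ χ ∈ univ.filter (· ∈ B), ∑ ψ ∈ univ.filter (· ∈ B),
        mm p b (fun c : Subgroup.centralizer ({x} : Set G) => (χ : G → ℂ) (x * c))
            (fun c : Subgroup.centralizer ({x} : Set G) => (ψ : G → ℂ) (x * c))
          * conj (mm p b (fun c : Subgroup.centralizer ({x} : Set G) => (χ : G → ℂ) (x * c))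
            (fun c : Subgroup.centralizer ({x} : Set G) => (ψ : G → ℂ) (x * c)))
      = (blockRank p b : ℂ) := by
  have hMp : M.IsPrime := isPrime_of_isPModular hM
  have hb : IsPBlock M b := hind.1
  have hsec : ∀ ξ ∈ b, ξ ∈ secT M x B := by
    intro ξ hξ
    show IsInducedBlock M _ (blockOf M (ξ : Subgroup.centralizer ({x} : Set G) → ℂ)) B
    rw [← Cfsg.Agent.Lib.CT.DefectZeroBlock.eq_blockOf_of_mem hMp hb hξ]
    exact hind
  have hsr : ∀ χ : IrrCharacter G,
      pRegularPart p (fun c : Subgroup.centralizer ({x} : Set G) => (χ : G → ℂ) (x * c))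
        = secRes p x (χ : G → ℂ) := by
    intro χ
    funext c
    by_cases hc : p ∣ orderOf c
    · rw [pRegularPart_of_singular p _ hc, secRes_of_singular p x _ hc]
    · rw [pRegularPart_of_regular p _ hc, secRes_of_regular p x _ hc]
  have hmm : ∀ χ ψ : IrrCharacter G,
      mm p b (fun c : Subgroup.centralizer ({x} : Set G) => (χ : G → ℂ) (x * c))
          (fun c : Subgroup.centralizer ({x} : Set G) => (ψ : G → ℂ) (x * c))
        = ∑ ξ ∈ univ.filter (· ∈ b),
            classInner (secRes p x (χ : G → ℂ)) (ξ : Subgroup.centralizer ({x} : Set G) → ℂ)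
              * conj (classInner (secRes p x (ψ : G → ℂ))
                (ξ : Subgroup.centralizer ({x} : Set G) → ℂ)) := by
    intro χ ψ
    rw [← sum_trunc_eq_mm p M hM b hb _ _
      (isClassFunction_shift x (Cfsg.Agent.Lib.CT.Orth.irr_isClassFunction χ))
      (isClassFunction_shift x (Cfsg.Agent.Lib.CT.Orth.irr_isClassFunction ψ)), hsr, hsr]
  -- the inner sum over `ψ`
  have hin : ∀ χ : IrrCharacter G, ∑ ψ ∈ univ.filter (· ∈ B),
        mm p b (fun c : Subgroup.centralizer ({x} : Set G) => (χ : G → ℂ) (x * c))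
            (fun c : Subgroup.centralizer ({x} : Set G) => (ψ : G → ℂ) (x * c))
          * conj (mm p b (fun c : Subgroup.centralizer ({x} : Set G) => (χ : G → ℂ) (x * c))
            (fun c : Subgroup.centralizer ({x} : Set G) => (ψ : G → ℂ) (x * c)))
      = ∑ ξ ∈ univ.filter (· ∈ b), ∑ ξ' ∈ univ.filter (· ∈ b),
          classInner (secRes p x (χ : G → ℂ)) (ξ : Subgroup.centralizer ({x} : Set G) → ℂ)
            * conj (classInner (secRes p x (χ : G → ℂ))
              (ξ' : Subgroup.centralizer ({x} : Set G) → ℂ))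
            * classInner (pRegularPart p (ξ : Subgroup.centralizer ({x} : Set G) → ℂ))
              (ξ' : Subgroup.centralizer ({x} : Set G) → ℂ) := by
    intro χ
    have h1 : ∀ ψ : IrrCharacter G,
        mm p b (fun c : Subgroup.centralizer ({x} : Set G) => (χ : G → ℂ) (x * c))
            (fun c : Subgroup.centralizer ({x} : Set G) => (ψ : G → ℂ) (x * c))
          * conj (mm p b (fun c : Subgroup.centralizer ({x} : Set G) => (χ : G → ℂ) (x * c))
            (fun c : Subgroup.centralizer ({x} : Set G) => (ψ : G → ℂ) (x * c)))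
        = ∑ ξ ∈ univ.filter (· ∈ b), ∑ ξ' ∈ univ.filter (· ∈ b),
            classInner (secRes p x (χ : G → ℂ)) (ξ : Subgroup.centralizer ({x} : Set G) → ℂ)
              * conj (classInner (secRes p x (χ : G → ℂ))
                (ξ' : Subgroup.centralizer ({x} : Set G) → ℂ))
              * (classInner (secRes p x (ψ : G → ℂ))
                  (ξ' : Subgroup.centralizer ({x} : Set G) → ℂ)
                * conj (classInner (secRes p x (ψ : G → ℂ))
                  (ξ : Subgroup.centralizer ({x} : Set G) → ℂ))) := by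
      intro ψ
      rw [hmm, map_sum, sum_mul_sum]
      refine sum_congr rfl fun ξ _ => sum_congr rfl fun ξ' _ => ?_
      rw [map_mul, Complex.conj_conj]
      ring
    rw [sum_congr rfl (fun ψ _ => h1 ψ), sum_comm]
    refine sum_congr rfl fun ξ hξ => ?_
    rw [sum_comm]
    refine sum_congr rfl fun ξ' hξ' => ?_
    rw [← mul_sum, sum_beta p M hM B x hx ξ' ξ (hsec ξ' (mem_filter.1 hξ').2)]
  rw [sum_congr rfl (fun χ _ => hin χ), sum_comm]
  have h2 : ∀ ξ ∈ univ.filter (· ∈ b), ∑ χ ∈ univ.filter (· ∈ B), ∑ ξ' ∈ univ.filter (· ∈ b),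
      classInner (secRes p x (χ : G → ℂ)) (ξ : Subgroup.centralizer ({x} : Set G) → ℂ)
        * conj (classInner (secRes p x (χ : G → ℂ))
          (ξ' : Subgroup.centralizer ({x} : Set G) → ℂ))
        * classInner (pRegularPart p (ξ : Subgroup.centralizer ({x} : Set G) → ℂ))
          (ξ' : Subgroup.centralizer ({x} : Set G) → ℂ)
      = classInner (pRegularPart p (ξ : Subgroup.centralizer ({x} : Set G) → ℂ))
          (ξ : Subgroup.centralizer ({x} : Set G) → ℂ) := by
    intro ξ hξ
    have hξb : ξ ∈ b := (mem_filter.1 hξ).2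
    rw [sum_comm]
    have h3 : ∀ ξ' ∈ univ.filter (· ∈ b), ∑ χ ∈ univ.filter (· ∈ B),
        classInner (secRes p x (χ : G → ℂ)) (ξ : Subgroup.centralizer ({x} : Set G) → ℂ)
          * conj (classInner (secRes p x (χ : G → ℂ))
            (ξ' : Subgroup.centralizer ({x} : Set G) → ℂ))
          * classInner (pRegularPart p (ξ : Subgroup.centralizer ({x} : Set G) → ℂ))
            (ξ' : Subgroup.centralizer ({x} : Set G) → ℂ)
        = classInner (pRegularPart p (ξ : Subgroup.centralizer ({x} : Set G) → ℂ))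
            (ξ' : Subgroup.centralizer ({x} : Set G) → ℂ)
          * conj (classInner (pRegularPart p (ξ : Subgroup.centralizer ({x} : Set G) → ℂ))
            (ξ' : Subgroup.centralizer ({x} : Set G) → ℂ)) := by
      intro ξ' _
      rw [← sum_mul, sum_beta p M hM B x hx ξ ξ' (hsec ξ hξb),
        classInner_trunc_symm p (ξ' : Subgroup.centralizer ({x} : Set G) → ℂ), mul_comm]
    rw [sum_congr rfl h3, sum_block_trunc p M hM b hb ξ ξ, if_pos ⟨hξb, hξb⟩]
  rw [sum_congr rfl h2, blockRank_eq_sum p M hM b hb, sum_filter]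

include hM in
/-- The sum of squares of the contributions of the subsection `(x, b)`, for any subgroup equal
to `C_G(x)`. -/
theorem sum_sq_sec (B : Set (IrrCharacter G)) [DecidablePred (· ∈ B)] (x : G)
    (hx : ∃ k : ℕ, orderOf x = p ^ k) (C : Subgroup G)
    (hC : C = Subgroup.centralizer ({x} : Set G)) [Fintype C] [Fintype (IrrCharacter C)]
    (b : Set (IrrCharacter C)) [DecidablePred (· ∈ b)] (hind : IsInducedBlock M C b B) :
    ∑ χ ∈ univ.filter (· ∈ B), ∑ ψ ∈ univ.filter (· ∈ B),
        mm p b (fun c : C => (χ : G → ℂ) (x * c)) (fun c : C => (ψ : G → ℂ) (x * c))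
          * conj (mm p b (fun c : C => (χ : G → ℂ) (x * c)) (fun c : C => (ψ : G → ℂ) (x * c)))
      = (blockRank p b : ℂ) := by
  subst hC
  exact sum_sq_sec_aux p M hM B x hx b hind

end sec

end Cfsg.Agent.Lib.Helper82.SecSq
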