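import Mathlib
import Cfsg.Agent.Lib.Helper82.SecSq
import Cfsg.Agent.Lib.Helper82.Contrib
import Cfsg.Agent.Lib.Helper80.Contrib
import Cfsg.Agent.Lib.Helper75.NumMinMax
import Cfsg.Agent.Lib.Helper16.PSection
import Cfsg.Agent.Lib.CT.NormOne

/-!
# Contributions of a subsection, computed inside the centralizer

`H` is a finite group (the centralizer of a `p`-element), `z` a central `p`-element of `H`, `b` a
block of `H` of defect `d`, and `X`, `Y` characters of `H` (restrictions of characters of the big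
group).  The number `p ^ d * mm p b (h ↦ X (z ^ t h)) (h ↦ Y (z ^ t h))` is an integer combination
of `t`-th powers of `p`-power roots of unity (`local_main`), and it does not lie in the local
ideal as soon as `p ^ a ⟨X⁰, ψ⟩ / ψ(1)` and `p ^ a ⟨Y⁰, ψ⟩ / ψ(1)` do not, for `ψ ∈ b`
(the conclusion of the second half of S4431 for height-zero characters).
-/

set_option autoImplicit false

namespace Cfsg.Agent.Lib.Helper82.SecLocal

open Cfsg Cfsg.Agent.Lib.Helper77.LocalRing Cfsg.Agent.Lib.Helper77.CentralChar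
  Cfsg.Agent.Lib.Helper77.ClassSum
  Cfsg.Agent.Lib.Helper75.Section Cfsg.Agent.Lib.Helper75.BlockRank
  Cfsg.Agent.Lib.Helper82.SecSq Cfsg.Agent.Lib.Helper80.Contrib
open scoped ComplexConjugate
open Finset

universe u
variable {H : Type u} [Group H]

/-- The value of an irreducible character at a central element times another element. -/
theorem irr_mul_central (η : H → ℂ) (hη : IsIrrCharacter H η) (z : H)
    (hz : ∀ h : H, z * h = h * z) (h : H) : η (z * h) = η z / η 1 * η h := by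
  classical
  have hc : MonoidAlgebra.single z (1 : ℂ) ∈ Subalgebra.center ℂ (MonoidAlgebra ℂ H) := by
    rw [mem_center_iff]
    intro x g
    have e : x * g * x⁻¹ = z ↔ g = z := by
      constructor
      · intro hh
        have : g = x⁻¹ * z * x := by rw [← hh]; group
        rw [this, ← hz, inv_mul_cancel_right]
      · intro hh
        rw [hh, ← hz, mul_inv_cancel_right]
    simp only [MonoidAlgebra.coeff_single, Finsupp.single_apply]
    by_cases hg : g = z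
    · rw [if_pos (e.2 hg).symm, if_pos hg.symm]
    · rw [if_neg (fun h' => hg (e.1 h'.symm)), if_neg (fun h' => hg h'.symm)]
  have h1 := pair_mul_center hη (MonoidAlgebra.single z 1) (MonoidAlgebra.single h 1) hc
  rw [MonoidAlgebra.single_mul_single, one_mul, pair_single, pair_single] at h1
  unfold omega at h1
  rw [pair_single, one_mul, one_mul, one_mul] at h1
  exact h1

/-- Powers of a central element. -/
theorem irr_pow_mul_central (η : H → ℂ) (hη : IsIrrCharacter H η) (z : H)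
    (hz : ∀ h : H, z * h = h * z) (t : ℕ) (h : H) :
    η (z ^ t * h) = (η z / η 1) ^ t * η h := by
  induction t with
  | zero => simp
  | succ t ih =>
    rw [pow_succ', mul_assoc, irr_mul_central η hη z hz, ih, pow_succ']
    ring

/-- The scalar by which a central `p`-element acts is a `p`-power root of unity. -/
theorem lam_pow (η : H → ℂ) (hη : IsIrrCharacter H η) (z : H)
    (hz : ∀ h : H, z * h = h * z) (N : ℕ) (hzN : z ^ N = 1) : (η z / η 1) ^ N = 1 := by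
  have h1 := irr_pow_mul_central η hη z hz N 1
  rw [hzN, one_mul] at h1
  have h0 : η 1 ≠ 0 := irr_one_ne_zero hη
  exact (mul_right_cancel₀ h0 (by rw [one_mul]; exact h1)).symm

variable [Fintype H] [Fintype (IrrCharacter H)]

/-- The coefficients of the shifted character `h ↦ X (z ^ t h)`. -/
theorem classInner_shift (X : H → ℂ) (n : IrrCharacter H → ℕ)
    (hn : X = ∑ η : IrrCharacter H, (n η : ℂ) • (η : H → ℂ)) (z : H)
    (hz : ∀ h : H, z * h = h * z) (t : ℕ) (η₁ : IrrCharacter H) :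
    classInner (fun h : H => X (z ^ t * h)) (η₁ : H → ℂ)
      = (n η₁ : ℂ) * ((η₁ : H → ℂ) z / (η₁ : H → ℂ) 1) ^ t := by
  classical
  have h1 : (fun h : H => X (z ^ t * h))
      = ∑ η : IrrCharacter H,
          ((n η : ℂ) * ((η : H → ℂ) z / (η : H → ℂ) 1) ^ t) • (η : H → ℂ) := by
    funext h
    have hX : ∀ g : H, X g = ∑ η : IrrCharacter H, (n η : ℂ) * (η : H → ℂ) g := by
      intro g
      conv_lhs => rw [hn]
      rw [Finset.sum_apply]
      rfl
    rw [hX, Finset.sum_apply]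
    refine sum_congr rfl fun η _ => ?_
    rw [irr_pow_mul_central (η : H → ℂ) η.2 z hz t h, Pi.smul_apply, smul_eq_mul]
    ring
  rw [h1, Cfsg.Agent.Lib.CT.Orth.classInner_sum_left]
  have h2 : ∀ η ∈ (univ : Finset (IrrCharacter H)),
      classInner (((n η : ℂ) * ((η : H → ℂ) z / (η : H → ℂ) 1) ^ t) • (η : H → ℂ))
        (η₁ : H → ℂ)
      = if η = η₁ then (n η : ℂ) * ((η : H → ℂ) z / (η : H → ℂ) 1) ^ t else 0 := by
    intro η _
    rw [Cfsg.Agent.Lib.CT.Orth.classInner_smul_left,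
      Cfsg.Agent.Lib.CT.Wedderburn.irr_orthonormal]
    split_ifs <;> simp
  rw [sum_congr rfl h2, sum_ite_eq' univ η₁, if_pos (mem_univ _)]

/-- The contribution of `b` to the pairing of two shifted characters. -/
theorem mm_shift (p : ℕ) (b : Set (IrrCharacter H)) [DecidablePred (· ∈ b)] (X Y : H → ℂ)
    (nX nY : IrrCharacter H → ℕ)
    (hnX : X = ∑ η : IrrCharacter H, (nX η : ℂ) • (η : H → ℂ))
    (hnY : Y = ∑ η : IrrCharacter H, (nY η : ℂ) • (η : H → ℂ)) (z : H)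
    (hz : ∀ h : H, z * h = h * z) (t : ℕ) :
    mm p b (fun h : H => X (z ^ t * h)) (fun h : H => Y (z ^ t * h))
      = ∑ η ∈ univ.filter (· ∈ b), ∑ η' ∈ univ.filter (· ∈ b),
          (nX η : ℂ) * (nY η' : ℂ)
            * (((η : H → ℂ) z / (η : H → ℂ) 1) * conj ((η' : H → ℂ) z / (η' : H → ℂ) 1)) ^ t
            * classInner (pRegularPart p (η : H → ℂ)) (η' : H → ℂ) := by
  unfold mm
  refine sum_congr rfl fun η _ => sum_congr rfl fun η' _ => ?_
  rw [classInner_shift X nX hnX z hz t η, classInner_shift Y nY hnY z hz t η', map_mul, map_pow,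
    Complex.conj_natCast, mul_pow]
  ring

omit [Fintype (IrrCharacter H)] in
/-- The contribution matrix `mz` of a block has rank one modulo the local ideal. -/
theorem rank_one (p : ℕ) [Fact p.Prime] (M : Ideal AlgInt) (hM : IsPModular p M)
    (b : Set (IrrCharacter H)) (hb : IsPBlock M b) :
    ∃ (e : ℕ) (w : ℂ) (η₀ : IrrCharacter H),
      (Nat.card H).factorization p = e + blockDefect p b ∧
      (∀ η ∈ b, p ^ e ∣ charDegree (η : H → ℂ)) ∧ η₀ ∈ b ∧
      ¬ p ∣ charDegree (η₀ : H → ℂ) / p ^ e ∧ MemLocalRing M w ∧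
      (∀ η ∈ b, (mz p b η η₀ : ℂ) = ((charDegree (η₀ : H → ℂ) / p ^ e : ℕ) : ℂ)
        * (((p ^ (Nat.card H).factorization p : ℕ) : ℂ)
          * classInner (pRegularPart p (η : H → ℂ)) (η₀ : H → ℂ) / (η₀ : H → ℂ) 1)) ∧
      ∀ η ∈ b, ∀ η' ∈ b, MemLocalIdeal M ((mz p b η η' : ℂ)
        - w * ((charDegree (η : H → ℂ) / p ^ e : ℕ) : ℂ)
          * ((charDegree (η' : H → ℂ) / p ^ e : ℕ) : ℂ)) := by
  have hpp : p.Prime := Fact.out
  have hMp : M.IsPrime := isPrime_of_isPModular hM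
  obtain ⟨e, hae, hdvd, η₀, hη₀, hη₀e⟩ :=
    Cfsg.Agent.Lib.Helper75.NumMinMax.exists_defect_data p b
      (Cfsg.Agent.Lib.CT.DefectZeroBlock.isPBlock_nonempty hMp hb)
  have hp0 : (p : ℂ) ≠ 0 := Nat.cast_ne_zero.2 hpp.ne_zero
  have hpe0 : (p : ℂ) ^ e ≠ 0 := pow_ne_zero _ hp0
  -- the degrees
  have hdeg : ∀ η ∈ b, (η : H → ℂ) 1
      = ((charDegree (η : H → ℂ) / p ^ e : ℕ) : ℂ) * (p : ℂ) ^ e := by
    intro η hη
    rw [← Cfsg.Agent.Lib.CT.Wedderburn.char_natCast_charDegree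
      (Cfsg.Agent.Lib.CT.Wedderburn.isCharacter_of_irr η.2)]
    have := Nat.div_mul_cancel (hdvd η hη)
    exact_mod_cast this.symm
  have hδ0 : ∀ η ∈ b, ((charDegree (η : H → ℂ) / p ^ e : ℕ) : ℂ) ≠ 0 := by
    intro η hη h0
    have h1 := hdeg η hη
    rw [h0, zero_mul] at h1
    exact Cfsg.Agent.Lib.CT.Wedderburn.irr_apply_one_ne_zero η.2 h1
  have hnd : ¬ p ∣ charDegree (η₀ : H → ℂ) / p ^ e := by
    rw [← hη₀e]
    exact Nat.not_dvd_ordCompl hpp
      (Cfsg.Agent.Lib.CT.Wedderburn.irr_charDegree_pos η₀.2).ne'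
  -- the normalized contributions
  obtain ⟨Nn, hNn⟩ : ∃ Nn : IrrCharacter H → IrrCharacter H → ℂ, ∀ η η',
      Nn η η' = ((p ^ (Nat.card H).factorization p : ℕ) : ℂ)
        * classInner (pRegularPart p (η : H → ℂ)) (η' : H → ℂ) / (η' : H → ℂ) 1 :=
    ⟨_, fun _ _ => rfl⟩
  have hmz : ∀ η ∈ b, ∀ η' ∈ b, (mz p b η η' : ℂ)
      = ((charDegree (η' : H → ℂ) / p ^ e : ℕ) : ℂ) * Nn η η' := by
    intro η hη η' hη'
    rw [mz_cast p M hM b η η' hη, hNn, hdeg η' hη', hae]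
    have := hδ0 η' hη'
    push_cast
    rw [pow_add]
    field_simp
  have hinv : MemLocalRing M (((charDegree (η₀ : H → ℂ) / p ^ e : ℕ) : ℂ)⁻¹) :=
    Cfsg.Agent.Lib.CT.DefectZeroBlock.memLocalRing_inv_natCast hM hnd
  have hNnR : ∀ η η', MemLocalRing M (Nn η η') := by
    intro η η'
    rw [hNn]
    exact normContrib_memLocalRing p M hM η η'
  refine ⟨e, Nn η₀ η₀ * ((charDegree (η₀ : H → ℂ) / p ^ e : ℕ) : ℂ)⁻¹, η₀, hae, hdvd, hη₀, hnd,
    memLocalRing_mul hMp (hNnR _ _) hinv, ?_, ?_⟩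
  · intro η hη
    rw [hmz η hη η₀ hη₀, hNn]
  · intro η hη η' hη'
    have e1 := hmz η hη η' hη'
    have e2 := hmz η hη η₀ hη₀
    have e3 := hmz η₀ hη₀ η hη
    have e4 : (mz p b η η₀ : ℂ) = (mz p b η₀ η : ℂ) := by
      rw [mz_symm p M hM b η η₀ hη hη₀]
    rw [e2, e3] at e4
    have hd0 := hδ0 η₀ hη₀
    have e5 : Nn η η₀ = ((charDegree (η₀ : H → ℂ) / p ^ e : ℕ) : ℂ)⁻¹
        * ((charDegree (η : H → ℂ) / p ^ e : ℕ) : ℂ) * Nn η₀ η := by
      rw [mul_assoc, ← e4, inv_mul_cancel_left₀ hd0]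
    have e6 : (mz p b η η' : ℂ)
        - Nn η₀ η₀ * ((charDegree (η₀ : H → ℂ) / p ^ e : ℕ) : ℂ)⁻¹
          * ((charDegree (η : H → ℂ) / p ^ e : ℕ) : ℂ)
          * ((charDegree (η' : H → ℂ) / p ^ e : ℕ) : ℂ)
        = ((charDegree (η' : H → ℂ) / p ^ e : ℕ) : ℂ) * (Nn η η' - Nn η η₀)
          + ((charDegree (η' : H → ℂ) / p ^ e : ℕ) : ℂ)
            * (((charDegree (η₀ : H → ℂ) / p ^ e : ℕ) : ℂ)⁻¹
              * ((charDegree (η : H → ℂ) / p ^ e : ℕ) : ℂ)) * (Nn η₀ η - Nn η₀ η₀) := by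
      rw [e1, e5]
      ring
    rw [e6]
    have c1 : MemLocalIdeal M (Nn η η' - Nn η η₀) := by
      rw [hNn, hNn]
      exact normContrib_congr p M hM η η' η₀
        (Cfsg.Agent.Lib.Helper82.Contrib.sameBlock_of_mem hMp hb hη' hη₀)
    have c2 : MemLocalIdeal M (Nn η₀ η - Nn η₀ η₀) := by
      rw [hNn, hNn]
      exact normContrib_congr p M hM η₀ η η₀
        (Cfsg.Agent.Lib.Helper82.Contrib.sameBlock_of_mem hMp hb hη hη₀)
    exact memLocalIdeal_add hMp (memLocalIdeal_mul_left hMp (memLocalRing_natCast hMp _) c1)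
      (memLocalIdeal_mul_left hMp (memLocalRing_mul hMp (memLocalRing_natCast hMp _)
        (memLocalRing_mul hMp hinv (memLocalRing_natCast hMp _))) c2)

/-- With the data of `rank_one`: the degree of the `b`-part of a character `X` with
`p ^ a ⟨X⁰, η₀⟩ / η₀(1)` outside the local ideal is a unit times `p ^ e`. -/
theorem wD_not_mem (p : ℕ) [Fact p.Prime] (M : Ideal AlgInt) (hM : IsPModular p M)
    (b : Set (IrrCharacter H)) (hb : IsPBlock M b) [DecidablePred (· ∈ b)]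
    (e : ℕ) (w : ℂ) (η₀ : IrrCharacter H) (hη₀ : η₀ ∈ b)
    (hnd : ¬ p ∣ charDegree (η₀ : H → ℂ) / p ^ e)
    (hmz₀ : ∀ η ∈ b, (mz p b η η₀ : ℂ) = ((charDegree (η₀ : H → ℂ) / p ^ e : ℕ) : ℂ)
        * (((p ^ (Nat.card H).factorization p : ℕ) : ℂ)
          * classInner (pRegularPart p (η : H → ℂ)) (η₀ : H → ℂ) / (η₀ : H → ℂ) 1))
    (hrk : ∀ η ∈ b, ∀ η' ∈ b, MemLocalIdeal M ((mz p b η η' : ℂ)
        - w * ((charDegree (η : H → ℂ) / p ^ e : ℕ) : ℂ)
          * ((charDegree (η' : H → ℂ) / p ^ e : ℕ) : ℂ)))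
    (X : H → ℂ) (n : IrrCharacter H → ℕ)
    (hn : X = ∑ η : IrrCharacter H, (n η : ℂ) • (η : H → ℂ))
    (hX0 : ¬ MemLocalIdeal M (classInner (fun h : H => if p ∣ orderOf h then (0 : ℂ) else
      ((p ^ (Nat.card H).factorization p : ℕ) : ℂ) * X h) (η₀ : H → ℂ) / (η₀ : H → ℂ) 1)) :
    ¬ MemLocalIdeal M (w * ((∑ η ∈ univ.filter (· ∈ b),
      n η * (charDegree (η : H → ℂ) / p ^ e) : ℕ) : ℂ)) := by
  have hMp : M.IsPrime := isPrime_of_isPModular hM
  intro hw
  apply hX0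
  have hd0 : ((charDegree (η₀ : H → ℂ) / p ^ e : ℕ) : ℂ) ≠ 0 := by
    intro h0
    apply hnd
    have : charDegree (η₀ : H → ℂ) / p ^ e = 0 := by exact_mod_cast h0
    rw [this]
    exact dvd_zero p
  have hinv : MemLocalRing M (((charDegree (η₀ : H → ℂ) / p ^ e : ℕ) : ℂ)⁻¹) :=
    Cfsg.Agent.Lib.CT.DefectZeroBlock.memLocalRing_inv_natCast hM hnd
  -- the function as a combination of truncated irreducible characters
  have hfun : (fun h : H => if p ∣ orderOf h then (0 : ℂ) else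
      ((p ^ (Nat.card H).factorization p : ℕ) : ℂ) * X h)
      = ∑ η : IrrCharacter H, ((n η : ℂ) * ((p ^ (Nat.card H).factorization p : ℕ) : ℂ))
          • pRegularPart p (η : H → ℂ) := by
    funext h
    rw [Finset.sum_apply]
    by_cases hh : p ∣ orderOf h
    · rw [if_pos hh]
      symm
      refine sum_eq_zero fun η _ => ?_
      rw [Pi.smul_apply, pRegularPart_of_singular p _ hh, smul_zero]
    · rw [if_neg hh]
      have hX : X h = ∑ η : IrrCharacter H, (n η : ℂ) * (η : H → ℂ) h := by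
        conv_lhs => rw [hn]
        rw [Finset.sum_apply]
        rfl
      rw [hX, mul_sum]
      refine sum_congr rfl fun η _ => ?_
      rw [Pi.smul_apply, pRegularPart_of_regular p _ hh, smul_eq_mul]
      ring
  have hQ : classInner (fun h : H => if p ∣ orderOf h then (0 : ℂ) else
      ((p ^ (Nat.card H).factorization p : ℕ) : ℂ) * X h) (η₀ : H → ℂ) / (η₀ : H → ℂ) 1
      = ∑ η ∈ univ.filter (· ∈ b), (n η : ℂ)
          * ((charDegree (η₀ : H → ℂ) / p ^ e : ℕ) : ℂ)⁻¹ * (mz p b η η₀ : ℂ) := by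
    rw [hfun, Cfsg.Agent.Lib.CT.Orth.classInner_sum_left, sum_div, sum_filter]
    refine sum_congr rfl fun η _ => ?_
    rw [Cfsg.Agent.Lib.CT.Orth.classInner_smul_left]
    by_cases hη : η ∈ b
    · rw [if_pos hη, hmz₀ η hη]
      field_simp
    · rw [if_neg hη, classInner_trunc_symm p (η : H → ℂ),
        classInner_pRegularPart_eq_zero p M hM b hb η₀ η hη₀ hη, map_zero, mul_zero, zero_div]
  have hsplit : ∑ η ∈ univ.filter (· ∈ b), (n η : ℂ)
          * ((charDegree (η₀ : H → ℂ) / p ^ e : ℕ) : ℂ)⁻¹ * (mz p b η η₀ : ℂ)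
      = ∑ η ∈ univ.filter (· ∈ b), (n η : ℂ)
          * ((charDegree (η₀ : H → ℂ) / p ^ e : ℕ) : ℂ)⁻¹ * ((mz p b η η₀ : ℂ)
            - w * ((charDegree (η : H → ℂ) / p ^ e : ℕ) : ℂ)
              * ((charDegree (η₀ : H → ℂ) / p ^ e : ℕ) : ℂ))
        + w * ((∑ η ∈ univ.filter (· ∈ b),
            n η * (charDegree (η : H → ℂ) / p ^ e) : ℕ) : ℂ) := by
    push_cast
    rw [mul_sum, ← sum_add_distrib]
    refine sum_congr rfl fun η _ => ?_
    field_simp
    ring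
  rw [hQ, hsplit]
  refine memLocalIdeal_add hMp (memLocalIdeal_sum hMp _ _ fun η hη => ?_) hw
  exact memLocalIdeal_mul_left hMp (memLocalRing_mul hMp (memLocalRing_natCast hMp _) hinv)
    (hrk η (mem_filter.1 hη).2 η₀ hη₀)

/-- The scaled contribution of `b` to the pairing of two shifted characters does not lie in the
local ideal. -/
theorem alpha_not_mem (p : ℕ) [Fact p.Prime] (M : Ideal AlgInt) (hM : IsPModular p M)
    (b : Set (IrrCharacter H)) (hb : IsPBlock M b) [DecidablePred (· ∈ b)] (z : H)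
    (hz : ∀ h : H, z * h = h * z) (k : ℕ) (hzk : z ^ (p ^ k) = 1) (X Y : H → ℂ)
    (nX nY : IrrCharacter H → ℕ)
    (hnX : X = ∑ η : IrrCharacter H, (nX η : ℂ) • (η : H → ℂ))
    (hnY : Y = ∑ η : IrrCharacter H, (nY η : ℂ) • (η : H → ℂ))
    (hX0 : ∀ ψ ∈ b, ¬ MemLocalIdeal M (classInner (fun h : H => if p ∣ orderOf h then (0 : ℂ)
      else ((p ^ (Nat.card H).factorization p : ℕ) : ℂ) * X h) (ψ : H → ℂ) / (ψ : H → ℂ) 1))
    (hY0 : ∀ ψ ∈ b, ¬ MemLocalIdeal M (classInner (fun h : H => if p ∣ orderOf h then (0 : ℂ)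
      else ((p ^ (Nat.card H).factorization p : ℕ) : ℂ) * Y h) (ψ : H → ℂ) / (ψ : H → ℂ) 1))
    (t : ℕ) :
    ¬ MemLocalIdeal M (∑ η ∈ univ.filter (· ∈ b), ∑ η' ∈ univ.filter (· ∈ b),
      (((nX η : ℤ) * (nY η' : ℤ) * mz p b η η' : ℤ) : ℂ)
        * (((η : H → ℂ) z / (η : H → ℂ) 1) * conj ((η' : H → ℂ) z / (η' : H → ℂ) 1)) ^ t) := by
  have hMp : M.IsPrime := isPrime_of_isPModular hM
  obtain ⟨e, w, η₀, -, -, hη₀, hnd, hwR, hmz₀, hrk⟩ := rank_one p M hM b hb
  have hwX := wD_not_mem p M hM b hb e w η₀ hη₀ hnd hmz₀ hrk X nX hnX (hX0 η₀ hη₀)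
  have hwY := wD_not_mem p M hM b hb e w η₀ hη₀ hnd hmz₀ hrk Y nY hnY (hY0 η₀ hη₀)
  obtain ⟨DX, hDX⟩ : ∃ D : ℕ, D = ∑ η ∈ univ.filter (· ∈ b),
      nX η * (charDegree (η : H → ℂ) / p ^ e) := ⟨_, rfl⟩
  obtain ⟨DY, hDY⟩ : ∃ D : ℕ, D = ∑ η ∈ univ.filter (· ∈ b),
      nY η * (charDegree (η : H → ℂ) / p ^ e) := ⟨_, rfl⟩
  rw [← hDX] at hwX
  rw [← hDY] at hwY
  intro hα
  have hdiff : MemLocalIdeal M ((∑ η ∈ univ.filter (· ∈ b), ∑ η' ∈ univ.filter (· ∈ b),
      (((nX η : ℤ) * (nY η' : ℤ) * mz p b η η' : ℤ) : ℂ)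
        * (((η : H → ℂ) z / (η : H → ℂ) 1) * conj ((η' : H → ℂ) z / (η' : H → ℂ) 1)) ^ t)
      - w * (DX : ℂ) * (DY : ℂ)) := by
    have e1 : w * (DX : ℂ) * (DY : ℂ) = ∑ η ∈ univ.filter (· ∈ b), ∑ η' ∈ univ.filter (· ∈ b),
        (nX η : ℂ) * (nY η' : ℂ) * (w * ((charDegree (η : H → ℂ) / p ^ e : ℕ) : ℂ)
          * ((charDegree (η' : H → ℂ) / p ^ e : ℕ) : ℂ)) := by
      rw [hDX, hDY]
      push_cast
      rw [mul_assoc, sum_mul_sum, mul_sum]
      refine sum_congr rfl fun η _ => ?_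
      rw [mul_sum]
      refine sum_congr rfl fun η' _ => ?_
      ring
    rw [e1, ← sum_sub_distrib]
    refine memLocalIdeal_sum hMp _ _ fun η hη => ?_
    rw [← sum_sub_distrib]
    refine memLocalIdeal_sum hMp _ _ fun η' hη' => ?_
    have hηb := (mem_filter.1 hη).2
    have hη'b := (mem_filter.1 hη').2
    have e2 : (((nX η : ℤ) * (nY η' : ℤ) * mz p b η η' : ℤ) : ℂ)
          * (((η : H → ℂ) z / (η : H → ℂ) 1) * conj ((η' : H → ℂ) z / (η' : H → ℂ) 1)) ^ t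
        - (nX η : ℂ) * (nY η' : ℂ) * (w * ((charDegree (η : H → ℂ) / p ^ e : ℕ) : ℂ)
          * ((charDegree (η' : H → ℂ) / p ^ e : ℕ) : ℂ))
        = (nX η : ℂ) * (nY η' : ℂ) * (((mz p b η η' : ℤ) : ℂ)
            * ((((η : H → ℂ) z / (η : H → ℂ) 1)
              * conj ((η' : H → ℂ) z / (η' : H → ℂ) 1)) ^ t - 1)
          + ((mz p b η η' : ℂ) - w * ((charDegree (η : H → ℂ) / p ^ e : ℕ) : ℂ)
            * ((charDegree (η' : H → ℂ) / p ^ e : ℕ) : ℂ))) := by
      push_cast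
      ring
    rw [e2]
    have hroot : ((((η : H → ℂ) z / (η : H → ℂ) 1)
        * conj ((η' : H → ℂ) z / (η' : H → ℂ) 1)) ^ t) ^ p ^ k = 1 := by
      rw [← pow_mul, mul_comm t, pow_mul, mul_pow, lam_pow (η : H → ℂ) η.2 z hz _ hzk, ← map_pow,
        lam_pow (η' : H → ℂ) η'.2 z hz _ hzk, map_one, one_mul, one_pow]
    refine memLocalIdeal_mul_left hMp
      (memLocalRing_mul hMp (memLocalRing_natCast hMp _) (memLocalRing_natCast hMp _))
      (memLocalIdeal_add hMp (memLocalIdeal_mul_left hMp (memLocalRing_intCast hMp _)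
        (Cfsg.Agent.Lib.Helper16.PSection.memLocalIdeal_sub_one_of_pow_eq_one hM _ k hroot))
        (hrk η hηb η' hη'b))
  have h1 : MemLocalIdeal M (w * (DX : ℂ) * (DY : ℂ)) := by
    have := memLocalIdeal_sub hMp hα hdiff
    rwa [sub_sub_cancel] at this
  have hpDY : ¬ p ∣ DY := by
    intro hd
    exact hwY (memLocalIdeal_mul_left hMp hwR (memLocalIdeal_natCast_of_dvd hM hd))
  have hDY0 : (DY : ℂ) ≠ 0 := by
    intro h0
    apply hpDY
    have : DY = 0 := by exact_mod_cast h0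
    rw [this]
    exact dvd_zero p
  have h2 := memLocalIdeal_mul_right hMp h1
    (Cfsg.Agent.Lib.CT.DefectZeroBlock.memLocalRing_inv_natCast hM hpDY)
  rw [mul_assoc, mul_inv_cancel₀ hDY0, mul_one] at h2
  exact hwX h2

/-- The scaled contributions of `b` to the pairing of two shifted characters are the values of
an integer combination of powers of `p`-power roots of unity, never zero. -/
theorem local_main (p : ℕ) [Fact p.Prime] (M : Ideal AlgInt) (hM : IsPModular p M)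
    (b : Set (IrrCharacter H)) (hb : IsPBlock M b) [DecidablePred (· ∈ b)] (z : H)
    (hz : ∀ h : H, z * h = h * z) (k : ℕ) (hzk : z ^ (p ^ k) = 1) (X Y : H → ℂ)
    (hX : IsCharacter H X) (hY : IsCharacter H Y)
    (hX0 : ∀ ψ ∈ b, ¬ MemLocalIdeal M (classInner (fun h : H => if p ∣ orderOf h then (0 : ℂ)
      else ((p ^ (Nat.card H).factorization p : ℕ) : ℂ) * X h) (ψ : H → ℂ) / (ψ : H → ℂ) 1))
    (hY0 : ∀ ψ ∈ b, ¬ MemLocalIdeal M (classInner (fun h : H => if p ∣ orderOf h then (0 : ℂ)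
      else ((p ^ (Nat.card H).factorization p : ℕ) : ℂ) * Y h) (ψ : H → ℂ) / (ψ : H → ℂ) 1)) :
    ∃ (s : Finset (IrrCharacter H × IrrCharacter H))
      (K : IrrCharacter H × IrrCharacter H → ℤ) (μ : IrrCharacter H × IrrCharacter H → ℂ),
      (∀ i ∈ s, μ i ^ (p ^ k) = 1) ∧
      ∀ t : ℕ, (p : ℂ) ^ blockDefect p b
          * mm p b (fun h : H => X (z ^ t * h)) (fun h : H => Y (z ^ t * h))
          = ∑ i ∈ s, (K i : ℂ) * μ i ^ t ∧ ∑ i ∈ s, (K i : ℂ) * μ i ^ t ≠ 0 := by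
  have hMp : M.IsPrime := isPrime_of_isPModular hM
  obtain ⟨nX, -, hnX⟩ := Cfsg.Agent.Lib.CT.NormOne.exists_mult_sum hX
  obtain ⟨nY, -, hnY⟩ := Cfsg.Agent.Lib.CT.NormOne.exists_mult_sum hY
  refine ⟨(univ.filter (· ∈ b)) ×ˢ (univ.filter (· ∈ b)),
    fun i => (nX i.1 : ℤ) * (nY i.2 : ℤ) * mz p b i.1 i.2,
    fun i => ((i.1 : H → ℂ) z / (i.1 : H → ℂ) 1) * conj ((i.2 : H → ℂ) z / (i.2 : H → ℂ) 1),
    ?_, ?_⟩
  · intro i _
    rw [mul_pow, lam_pow (i.1 : H → ℂ) i.1.2 z hz _ hzk, ← map_pow,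
      lam_pow (i.2 : H → ℂ) i.2.2 z hz _ hzk, map_one, one_mul]
  · intro t
    have hsum : ∑ i ∈ (univ.filter (· ∈ b)) ×ˢ (univ.filter (· ∈ b)),
        (((nX i.1 : ℤ) * (nY i.2 : ℤ) * mz p b i.1 i.2 : ℤ) : ℂ)
          * (((i.1 : H → ℂ) z / (i.1 : H → ℂ) 1)
            * conj ((i.2 : H → ℂ) z / (i.2 : H → ℂ) 1)) ^ t
        = ∑ η ∈ univ.filter (· ∈ b), ∑ η' ∈ univ.filter (· ∈ b),
          (((nX η : ℤ) * (nY η' : ℤ) * mz p b η η' : ℤ) : ℂ)
            * (((η : H → ℂ) z / (η : H → ℂ) 1)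
              * conj ((η' : H → ℂ) z / (η' : H → ℂ) 1)) ^ t :=
      sum_product _ _ _
    rw [hsum]
    constructor
    · rw [mm_shift p b X Y nX nY hnX hnY z hz t, mul_sum]
      refine sum_congr rfl fun η hη => ?_
      rw [mul_sum]
      refine sum_congr rfl fun η' _ => ?_
      push_cast
      rw [mz_cast p M hM b η η' (mem_filter.1 hη).2]
      ring
    · intro h0
      apply alpha_not_mem p M hM b hb z hz k hzk X Y nX nY hnX hnY hX0 hY0 t
      rw [h0]
      exact memLocalIdeal_zero hMp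

end Cfsg.Agent.Lib.Helper82.SecLocal
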