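import Mathlib
import Cfsg.Agent.Lib.Helper82.SecSq
import Cfsg.Agent.Lib.Helper82.SecLocal
import Cfsg.Agent.Lib.Helper77.DefectClass
import Cfsg.Agent.Lib.Helper80.Integrality
import Cfsg.Agent.S4431

/-!
# Section coefficients: congruences across a block and non-vanishing

For a `p`-element `x` of `G`, `C = C_G(x)`, a block `b` of `C` inducing the block `B` of `G`, and
`χ ∈ Irr(G)`, `ξ ∈ Irr(C)`, put `A χ ξ = ⟨secRes χ, ξ⟩_C` (the truncated coefficient of
`c ↦ χ(x c)` at `ξ`).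

* `secCoeff_cong`: `A χ ξ |G| / χ(1) ≡ A χ' ξ |G| / χ'(1)` modulo the local ideal for `χ, χ'` in
  the same block;
* `lin_not_mem`: inside `C`, an integer combination (with coefficient vector `c` of unit
  "norm" modulo `p`) of the scaled coefficients of a character satisfying the conclusion of S4431
  does not lie in the local ideal;
* `nonvanishing`: if `b` has the same defect as `B` (a major subsection), then
  `∑_{ξ ∈ b} c ξ A χ ξ ≠ 0` for **every** `χ ∈ B`;
* `sum_lin`, `sum_mm_diag`: orthogonality relations for the coefficients.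
-/

set_option autoImplicit false

namespace Cfsg.Agent.Lib.Helper82.SecCong

open Cfsg Cfsg.Agent.Lib.Helper77.LocalRing
  Cfsg.Agent.Lib.Helper75.Section Cfsg.Agent.Lib.Helper75.Section2
  Cfsg.Agent.Lib.Helper75.Section3 Cfsg.Agent.Lib.Helper75.BlockRank
  Cfsg.Agent.Lib.Helper82.SecSq Cfsg.Agent.Lib.Helper82.SecLocal
  Cfsg.Agent.Lib.Helper80.Contrib
open scoped ComplexConjugate
open Finset

universe u

section Gside

variable {G : Type u} [Group G]

open Classical in
/-- The class-sum form of `conj ⟨F, χ⟩ |G| / χ(1)` for a class function `F`. -/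
theorem conj_classInner_mul [Fintype G] (F : G → ℂ) (hF : IsClassFunction G F)
    (χ : IrrCharacter G) :
    conj (classInner F (χ : G → ℂ)) * (Nat.card G : ℂ) / (χ : G → ℂ) 1
      = ∑ c : ConjClasses G, conj (F c.out) * centralChar (χ : G → ℂ) c.out := by
  have hG0 : (Nat.card G : ℂ) ≠ 0 := Nat.cast_ne_zero.2 Nat.card_pos.ne'
  have h1 : (χ : G → ℂ) 1 ≠ 0 := Cfsg.Agent.Lib.CT.Wedderburn.irr_apply_one_ne_zero χ.2
  have hinv : ∀ x g : G,
      conj (F (x * g * x⁻¹)) * (χ : G → ℂ) (x * g * x⁻¹) / (χ : G → ℂ) 1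
        = conj (F g) * (χ : G → ℂ) g / (χ : G → ℂ) 1 := by
    intro x g
    rw [hF g x, Cfsg.Agent.Lib.CT.Orth.irr_isClassFunction χ g x]
  have h2 : conj (classInner F (χ : G → ℂ)) * (Nat.card G : ℂ) / (χ : G → ℂ) 1
      = ∑ g : G, conj (F g) * (χ : G → ℂ) g / (χ : G → ℂ) 1 := by
    unfold classInner
    rw [map_mul, map_sum, map_inv₀, Complex.conj_natCast, ← sum_div]
    have : ∀ g : G, conj (F g * conj ((χ : G → ℂ) g)) = conj (F g) * (χ : G → ℂ) g := by
      intro g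
      rw [map_mul, Complex.conj_conj]
    rw [sum_congr rfl (fun g _ => this g)]
    field_simp
  rw [h2, Cfsg.Agent.Lib.Helper77.DefectClass.sum_eq_sum_classes _ hinv]
  refine sum_congr rfl fun c _ => ?_
  unfold centralChar
  ring

/-- The values of `secInd`: zero or values of the function. -/
theorem secInd_values [Fintype G] {p : ℕ} (hp : p.Prime) {x : G}
    (hx : ∃ k : ℕ, orderOf x = p ^ k) (θ : Subgroup.centralizer ({x} : Set G) → ℂ)
    (hθ : IsClassFunction (Subgroup.centralizer ({x} : Set G)) θ) (g : G) :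
    secInd p x θ g = 0 ∨ ∃ y : Subgroup.centralizer ({x} : Set G), secInd p x θ g = θ y := by
  obtain ⟨u, hu⟩ := Cfsg.Agent.Lib.CT.SectionOrth.exists_isPPart p hp g
  by_cases hc : IsConj u x
  · right
    obtain ⟨s, hs⟩ := isConj_iff.1 hc
    have h2 := Cfsg.Agent.Lib.CT.SectionOrth.isPPart_conj hu s
    rw [hs] at h2
    obtain ⟨y, hxy, hcomm, -, hy⟩ := h2
    have hyC : y ∈ Subgroup.centralizer ({x} : Set G) := by
      rw [Subgroup.mem_centralizer_iff]
      intro h hh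
      rw [Set.mem_singleton_iff] at hh
      rw [hh]
      exact hcomm.eq
    refine ⟨⟨y, hyC⟩, ?_⟩
    have h3 := secInd_isClassFunction p x θ g s
    rw [← h3, ← hxy]
    exact secInd_apply_mul hp hx θ hθ ⟨y, hyC⟩ (by rwa [Subgroup.orderOf_mk])
  · left
    exact secInd_eq_zero hp hx θ hu hc

/-- The scaled section coefficients of two characters in the same block are congruent. -/
theorem secCoeff_cong [Fintype G] (p : ℕ) [Fact p.Prime] (M : Ideal AlgInt)
    (hM : IsPModular p M) (x : G) (hx : ∃ k : ℕ, orderOf x = p ^ k)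
    [Fintype (Subgroup.centralizer ({x} : Set G))]
    (ξ : IrrCharacter (Subgroup.centralizer ({x} : Set G))) (χ χ' : IrrCharacter G)
    (h : SameBlock M (χ : G → ℂ) (χ' : G → ℂ)) :
    MemLocalIdeal M (classInner (secRes p x (χ : G → ℂ))
          (ξ : Subgroup.centralizer ({x} : Set G) → ℂ) * (Nat.card G : ℂ) / (χ : G → ℂ) 1
        - classInner (secRes p x (χ' : G → ℂ))
          (ξ : Subgroup.centralizer ({x} : Set G) → ℂ) * (Nat.card G : ℂ) / (χ' : G → ℂ) 1) := by
  have hpp : p.Prime := Fact.out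
  have hMp := isPrime_of_isPModular hM
  rw [classInner_secRes_irr p x _ (Cfsg.Agent.Lib.CT.Orth.irr_isClassFunction χ),
    classInner_secRes_irr p x _ (Cfsg.Agent.Lib.CT.Orth.irr_isClassFunction χ'),
    conj_classInner_mul _ (secInd_isClassFunction p x _),
    conj_classInner_mul _ (secInd_isClassFunction p x _), ← sum_sub_distrib]
  apply memLocalIdeal_sum hMp
  intro c _
  rw [← mul_sub]
  apply memLocalIdeal_mul_left hMp _ (h c.out)
  rcases secInd_values hpp hx (ξ : Subgroup.centralizer ({x} : Set G) → ℂ)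
    (Cfsg.Agent.Lib.CT.Orth.irr_isClassFunction ξ) c.out with h0 | ⟨y, hy⟩
  · rw [h0, map_zero]
    exact memLocalRing_zero hMp
  · rw [hy, ← Cfsg.Agent.Lib.CT.Wedderburn.char_apply_inv
      (Cfsg.Agent.Lib.CT.Wedderburn.isCharacter_of_irr ξ.2)]
    exact memLocalRing_of_isIntegral hMp
      (Cfsg.Agent.Lib.Helper80.Integrality.isIntegral_irrCharacter ξ _)

end Gside

section Hside

variable {H : Type u} [Group H] [Fintype H] [Fintype (IrrCharacter H)]

/-- The scaled truncated coefficients of a shifted character, through the block. -/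
theorem shift_coeff (p : ℕ) [Fact p.Prime] (M : Ideal AlgInt) (hM : IsPModular p M)
    (b : Set (IrrCharacter H)) (hb : IsPBlock M b) [DecidablePred (· ∈ b)] (X : H → ℂ)
    (n : IrrCharacter H → ℕ) (hn : X = ∑ η : IrrCharacter H, (n η : ℂ) • (η : H → ℂ)) (z : H)
    (hz : ∀ h : H, z * h = h * z) (t : ℕ) (ξ : IrrCharacter H) (hξ : ξ ∈ b) :
    (p : ℂ) ^ blockDefect p b
        * classInner (pRegularPart p (fun h : H => X (z ^ t * h))) (ξ : H → ℂ)
      = ∑ η ∈ univ.filter (· ∈ b),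
          (n η : ℂ) * ((η : H → ℂ) z / (η : H → ℂ) 1) ^ t * (mz p b η ξ : ℂ) := by
  have h1 : (fun h : H => X (z ^ t * h))
      = ∑ η : IrrCharacter H,
          ((n η : ℂ) * ((η : H → ℂ) z / (η : H → ℂ) 1) ^ t) • (η : H → ℂ) := by
    funext h
    have hX : ∀ g : H, X g = ∑ η : IrrCharacter H, (n η : ℂ) * (η : H → ℂ) g := by
      intro g
      conv_lhs => rw [hn]
      rw [Finset.sum_apply]
      rfl
    rw [hX, Finset.sum_apply]
    refine sum_congr rfl fun η _ => ?_
    rw [irr_pow_mul_central (η : H → ℂ) η.2 z hz t h, Pi.smul_apply, smul_eq_mul]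
    ring
  rw [h1, pRegularPart_sum, Cfsg.Agent.Lib.CT.Orth.classInner_sum_left, mul_sum, sum_filter]
  refine sum_congr rfl fun η _ => ?_
  rw [Cfsg.Agent.Lib.CT.Orth.classInner_smul_left]
  by_cases hη : η ∈ b
  · rw [if_pos hη, mz_cast p M hM b η ξ hη]
    ring
  · rw [if_neg hη, classInner_trunc_symm p (η : H → ℂ),
      classInner_pRegularPart_eq_zero p M hM b hb ξ η hξ hη, map_zero, mul_zero, mul_zero]

/-- An integer combination, with coefficient vector of norm prime to `p`, of the scaled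
coefficients of a shifted character satisfying the conclusion of S4431 is not in the local
ideal. -/
theorem lin_not_mem (p : ℕ) [Fact p.Prime] (M : Ideal AlgInt) (hM : IsPModular p M)
    (b : Set (IrrCharacter H)) (hb : IsPBlock M b) [DecidablePred (· ∈ b)] (z : H)
    (hz : ∀ h : H, z * h = h * z) (k : ℕ) (hzk : z ^ (p ^ k) = 1) (X : H → ℂ)
    (nX : IrrCharacter H → ℕ)
    (hnX : X = ∑ η : IrrCharacter H, (nX η : ℂ) • (η : H → ℂ))
    (hX0 : ∀ ψ ∈ b, ¬ MemLocalIdeal M (classInner (fun h : H => if p ∣ orderOf h then (0 : ℂ)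
      else ((p ^ (Nat.card H).factorization p : ℕ) : ℂ) * X h) (ψ : H → ℂ) / (ψ : H → ℂ) 1))
    (c : IrrCharacter H → ℤ)
    (hc : ¬ (p : ℤ) ∣ ∑ ξ ∈ univ.filter (· ∈ b), ∑ ξ' ∈ univ.filter (· ∈ b),
      c ξ * c ξ' * mz p b ξ ξ') (t : ℕ) :
    ¬ MemLocalIdeal M (∑ η ∈ univ.filter (· ∈ b), ∑ ξ ∈ univ.filter (· ∈ b),
      (((nX η : ℤ) * c ξ * mz p b η ξ : ℤ) : ℂ) * ((η : H → ℂ) z / (η : H → ℂ) 1) ^ t) := by
  have hMp : M.IsPrime := isPrime_of_isPModular hM
  obtain ⟨e, w, η₀, -, -, hη₀, hnd, hwR, hmz₀, hrk⟩ := rank_one p M hM b hb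
  have hwX := wD_not_mem p M hM b hb e w η₀ hη₀ hnd hmz₀ hrk X nX hnX (hX0 η₀ hη₀)
  obtain ⟨δ, hδ⟩ : ∃ δ : IrrCharacter H → ℕ, ∀ η : IrrCharacter H,
      δ η = charDegree (η : H → ℂ) / p ^ e := ⟨_, fun _ => rfl⟩
  simp only [← hδ] at hwX hrk
  obtain ⟨DX, hDX⟩ : ∃ D : ℕ, D = ∑ η ∈ univ.filter (· ∈ b), nX η * δ η := ⟨_, rfl⟩
  obtain ⟨Dc, hDc⟩ : ∃ D : ℤ, D = ∑ ξ ∈ univ.filter (· ∈ b), c ξ * (δ ξ : ℤ) := ⟨_, rfl⟩
  rw [← hDX] at hwX
  -- the norm of `c` modulo the local ideal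
  have hQ : MemLocalIdeal M (((∑ ξ ∈ univ.filter (· ∈ b), ∑ ξ' ∈ univ.filter (· ∈ b),
      c ξ * c ξ' * mz p b ξ ξ' : ℤ) : ℂ) - w * (Dc : ℂ) * (Dc : ℂ)) := by
    have e1 : w * (Dc : ℂ) * (Dc : ℂ) = ∑ ξ ∈ univ.filter (· ∈ b), ∑ ξ' ∈ univ.filter (· ∈ b),
        (c ξ : ℂ) * (c ξ' : ℂ) * (w * (δ ξ : ℂ) * (δ ξ' : ℂ)) := by
      rw [hDc]
      push_cast
      rw [mul_assoc, sum_mul_sum, mul_sum]
      refine sum_congr rfl fun ξ _ => ?_
      rw [mul_sum]
      refine sum_congr rfl fun ξ' _ => ?_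
      ring
    rw [e1]
    push_cast
    rw [← sum_sub_distrib]
    refine memLocalIdeal_sum hMp _ _ fun ξ hξ => ?_
    rw [← sum_sub_distrib]
    refine memLocalIdeal_sum hMp _ _ fun ξ' hξ' => ?_
    rw [← mul_sub]
    exact memLocalIdeal_mul_left hMp
      (memLocalRing_mul hMp (memLocalRing_intCast hMp _) (memLocalRing_intCast hMp _))
      (hrk ξ (mem_filter.1 hξ).2 ξ' (mem_filter.1 hξ').2)
  have hpDc : ¬ (p : ℤ) ∣ Dc := by
    intro hd
    apply hc
    rw [← memLocalIdeal_intCast_iff hM]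
    have h1 : MemLocalIdeal M (w * (Dc : ℂ) * (Dc : ℂ)) :=
      memLocalIdeal_mul_left hMp (memLocalRing_mul hMp hwR (memLocalRing_intCast hMp _))
        ((memLocalIdeal_intCast_iff hM Dc).2 hd)
    have := memLocalIdeal_add hMp hQ h1
    rwa [sub_add_cancel] at this
  intro hα
  have hdiff : MemLocalIdeal M ((∑ η ∈ univ.filter (· ∈ b), ∑ ξ ∈ univ.filter (· ∈ b),
      (((nX η : ℤ) * c ξ * mz p b η ξ : ℤ) : ℂ) * ((η : H → ℂ) z / (η : H → ℂ) 1) ^ t)
      - w * (DX : ℂ) * (Dc : ℂ)) := by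
    have e1 : w * (DX : ℂ) * (Dc : ℂ) = ∑ η ∈ univ.filter (· ∈ b), ∑ ξ ∈ univ.filter (· ∈ b),
        (nX η : ℂ) * (c ξ : ℂ) * (w * (δ η : ℂ) * (δ ξ : ℂ)) := by
      rw [hDX, hDc]
      push_cast
      rw [mul_assoc, sum_mul_sum, mul_sum]
      refine sum_congr rfl fun η _ => ?_
      rw [mul_sum]
      refine sum_congr rfl fun ξ _ => ?_
      ring
    rw [e1, ← sum_sub_distrib]
    refine memLocalIdeal_sum hMp _ _ fun η hη => ?_
    rw [← sum_sub_distrib]
    refine memLocalIdeal_sum hMp _ _ fun ξ hξ => ?_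
    have e2 : (((nX η : ℤ) * c ξ * mz p b η ξ : ℤ) : ℂ) * ((η : H → ℂ) z / (η : H → ℂ) 1) ^ t
        - (nX η : ℂ) * (c ξ : ℂ) * (w * (δ η : ℂ) * (δ ξ : ℂ))
        = (nX η : ℂ) * (c ξ : ℂ) * (((mz p b η ξ : ℤ) : ℂ)
            * (((η : H → ℂ) z / (η : H → ℂ) 1) ^ t - 1)
          + ((mz p b η ξ : ℂ) - w * (δ η : ℂ) * (δ ξ : ℂ))) := by
      push_cast
      ring
    rw [e2]
    have hroot : (((η : H → ℂ) z / (η : H → ℂ) 1) ^ t) ^ p ^ k = 1 := by
      rw [← pow_mul, mul_comm t, pow_mul, lam_pow (η : H → ℂ) η.2 z hz _ hzk, one_pow]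
    exact memLocalIdeal_mul_left hMp
      (memLocalRing_mul hMp (memLocalRing_natCast hMp _) (memLocalRing_intCast hMp _))
      (memLocalIdeal_add hMp (memLocalIdeal_mul_left hMp (memLocalRing_intCast hMp _)
        (Cfsg.Agent.Lib.Helper16.PSection.memLocalIdeal_sub_one_of_pow_eq_one hM _ k hroot))
        (hrk η (mem_filter.1 hη).2 ξ (mem_filter.1 hξ).2))
  have h1 : MemLocalIdeal M (w * (DX : ℂ) * (Dc : ℂ)) := by
    have := memLocalIdeal_sub hMp hα hdiff
    rwa [sub_sub_cancel] at this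
  rcases memLocalIdeal_or_of_mul hMp (memLocalRing_mul hMp hwR (memLocalRing_natCast hMp _)) h1
    with h2 | h2
  · exact hwX h2
  · exact hpDc ((memLocalIdeal_intCast_iff hM Dc).1 h2)

end Hside

section main

variable {G : Type u} [Group G] [Fintype G]

/-- **Non-vanishing for major subsections.**  Let `b` be a block of `C_G(x)`, `x` a `p`-element,
inducing the block `B` of `G` and of the same defect.  For an integer vector `c` whose norm for
the contribution form of `b` is prime to `p`, the combination `∑_{ξ ∈ b} c ξ ⟨secRes χ, ξ⟩` of the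
section coefficients of `χ` does not vanish, for every `χ ∈ B`. -/
theorem nonvanishing (p : ℕ) [Fact p.Prime] (M : Ideal AlgInt) (hM : IsPModular p M)
    (B : Set (IrrCharacter G)) (x : G) (hx : ∃ k : ℕ, orderOf x = p ^ k)
    [Fintype (Subgroup.centralizer ({x} : Set G))]
    [Fintype (IrrCharacter (Subgroup.centralizer ({x} : Set G)))]
    (b : Set (IrrCharacter (Subgroup.centralizer ({x} : Set G)))) [DecidablePred (· ∈ b)]
    (hind : IsInducedBlock M (Subgroup.centralizer ({x} : Set G)) b B)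
    (hd : blockDefect p b = blockDefect p B)
    (c : IrrCharacter (Subgroup.centralizer ({x} : Set G)) → ℤ)
    (hc : ¬ (p : ℤ) ∣ ∑ ξ ∈ univ.filter (· ∈ b), ∑ ξ' ∈ univ.filter (· ∈ b),
      c ξ * c ξ' * mz p b ξ ξ') (χ : IrrCharacter G) (hχ : χ ∈ B) :
    ∑ ξ ∈ univ.filter (· ∈ b), (c ξ : ℂ) * classInner (secRes p x (χ : G → ℂ))
      (ξ : Subgroup.centralizer ({x} : Set G) → ℂ) ≠ 0 := by
  classical
  have hpp : p.Prime := Fact.out
  have hMp : M.IsPrime := isPrime_of_isPModular hM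
  have hb : IsPBlock M b := hind.1
  have hB : IsPBlock M B := hind.2.1
  obtain ⟨k, hk⟩ := hx
  have hx : ∃ k : ℕ, orderOf x = p ^ k := ⟨k, hk⟩
  -- the central element
  have hxC : x ∈ Subgroup.centralizer ({x} : Set G) := by
    rw [Subgroup.mem_centralizer_iff]
    intro h hh'
    rw [Set.mem_singleton_iff] at hh'
    rw [hh']
  obtain ⟨z, hzdef⟩ : ∃ z : Subgroup.centralizer ({x} : Set G), z = ⟨x, hxC⟩ := ⟨_, rfl⟩
  have hzval : (z : G) = x := by rw [hzdef]
  have hz : ∀ h : Subgroup.centralizer ({x} : Set G), z * h = h * z := by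
    intro h
    apply Subtype.ext
    rw [Subgroup.coe_mul, Subgroup.coe_mul, hzval]
    exact Subgroup.mem_centralizer_iff.1 h.2 x rfl
  have hzk : z ^ (p ^ k) = 1 := by
    apply Subtype.ext
    rw [Subgroup.coe_pow, hzval, ← hk, pow_orderOf_eq_one]
    rfl
  -- the formula for the combination
  have hform : ∀ χ' : IrrCharacter G, ∃ n : IrrCharacter (Subgroup.centralizer ({x} : Set G)) → ℕ,
      (fun y : Subgroup.centralizer ({x} : Set G) => (χ' : G → ℂ) y)
        = ∑ η : IrrCharacter (Subgroup.centralizer ({x} : Set G)),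
            (n η : ℂ) • (η : Subgroup.centralizer ({x} : Set G) → ℂ) ∧
      (p : ℂ) ^ blockDefect p b * ∑ ξ ∈ univ.filter (· ∈ b), (c ξ : ℂ)
          * classInner (secRes p x (χ' : G → ℂ)) (ξ : Subgroup.centralizer ({x} : Set G) → ℂ)
        = ∑ η ∈ univ.filter (· ∈ b), ∑ ξ ∈ univ.filter (· ∈ b),
            (((n η : ℤ) * c ξ * mz p b η ξ : ℤ) : ℂ)
              * ((η : Subgroup.centralizer ({x} : Set G) → ℂ) z
                / (η : Subgroup.centralizer ({x} : Set G) → ℂ) 1) ^ 1 := by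
    intro χ'
    obtain ⟨n, -, hn⟩ := Cfsg.Agent.Lib.CT.NormOne.exists_mult_sum
      (Cfsg.Agent.Lib.CT.Ops.isCharacter_restrict (Subgroup.centralizer ({x} : Set G))
        (Cfsg.Agent.Lib.CT.Wedderburn.isCharacter_of_irr χ'.2))
    refine ⟨n, hn, ?_⟩
    have hsr : secRes p x (χ' : G → ℂ)
        = pRegularPart p (fun h : Subgroup.centralizer ({x} : Set G) =>
            (fun y : Subgroup.centralizer ({x} : Set G) => (χ' : G → ℂ) y) (z ^ 1 * h)) := by
      unfold secRes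
      congr 1
      funext h
      show (χ' : G → ℂ) (x * (h : G))
        = (χ' : G → ℂ) ((z ^ 1 * h : Subgroup.centralizer ({x} : Set G)) : G)
      rw [pow_one, Subgroup.coe_mul, hzval]
    rw [hsr, mul_sum, sum_comm]
    refine sum_congr rfl fun ξ hξ => ?_
    rw [mul_left_comm, shift_coeff p M hM b hb _ n hn z hz 1 ξ (mem_filter.1 hξ).2, mul_sum]
    refine sum_congr rfl fun η _ => ?_
    push_cast
    ring
  -- a character of height zero
  obtain ⟨e, hae, -, χ₀, hχ₀, hχ₀e⟩ := Cfsg.Agent.Lib.Helper75.NumMinMax.exists_defect_data p B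
    (Cfsg.Agent.Lib.CT.DefectZeroBlock.isPBlock_nonempty hMp hB)
  have hfc := factorization_charDegree p B χ₀ hχ₀
  have h0 : blockHeight p B (χ₀ : G → ℂ) = 0 := by omega
  obtain ⟨n₀, hn₀, hf₀⟩ := hform χ₀
  have hS : ∀ ψ ∈ b, ¬ MemLocalIdeal M (classInner
      (fun h : Subgroup.centralizer ({x} : Set G) => if p ∣ orderOf h then (0 : ℂ) else
        ((p ^ (Nat.card (Subgroup.centralizer ({x} : Set G))).factorization p : ℕ) : ℂ)
          * (χ₀ : G → ℂ) h) (ψ : Subgroup.centralizer ({x} : Set G) → ℂ)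
        / (ψ : Subgroup.centralizer ({x} : Set G) → ℂ) 1) :=
    fun ψ hψ => (Cfsg.Agent.S4431.result p M hM _ b B hind χ₀ ψ hψ).2 hχ₀ h0
  have hnm := lin_not_mem p M hM b hb z hz k hzk
    (fun y : Subgroup.centralizer ({x} : Set G) => (χ₀ : G → ℂ) y) n₀ hn₀ hS c hc 1
  rw [← hf₀] at hnm
  -- the scaled combinations
  obtain ⟨Tc, hTc⟩ : ∃ Tc : IrrCharacter G → ℂ, ∀ χ' : IrrCharacter G,
      Tc χ' = ∑ ξ ∈ univ.filter (· ∈ b), (c ξ : ℂ)
        * (classInner (secRes p x (χ' : G → ℂ)) (ξ : Subgroup.centralizer ({x} : Set G) → ℂ)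
          * (Nat.card G : ℂ) / (χ' : G → ℂ) 1) := ⟨_, fun _ => rfl⟩
  have hTeq : ∀ χ' : IrrCharacter G, Tc χ' = (∑ ξ ∈ univ.filter (· ∈ b), (c ξ : ℂ)
      * classInner (secRes p x (χ' : G → ℂ)) (ξ : Subgroup.centralizer ({x} : Set G) → ℂ))
      * (Nat.card G : ℂ) / (χ' : G → ℂ) 1 := by
    intro χ'
    rw [hTc, sum_mul, sum_div]
    refine sum_congr rfl fun ξ _ => ?_
    ring
  have hcong : MemLocalIdeal M (Tc χ - Tc χ₀) := by
    rw [hTc, hTc, ← sum_sub_distrib]
    refine memLocalIdeal_sum hMp _ _ fun ξ _ => ?_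
    rw [← mul_sub]
    exact memLocalIdeal_mul_left hMp (memLocalRing_intCast hMp _)
      (secCoeff_cong p M hM x hx ξ χ χ₀
        (Cfsg.Agent.Lib.Helper82.Contrib.sameBlock_of_mem hMp hB hχ hχ₀))
  -- the unit factor for `χ₀`
  have hG0 : (Nat.card G : ℂ) ≠ 0 := Nat.cast_ne_zero.2 Nat.card_pos.ne'
  have h10 : (χ₀ : G → ℂ) 1 ≠ 0 := Cfsg.Agent.Lib.CT.Wedderburn.irr_apply_one_ne_zero χ₀.2
  have hp0 : (p : ℂ) ≠ 0 := Nat.cast_ne_zero.2 hpp.ne_zero
  have hunit : (p : ℂ) ^ blockDefect p B * (χ₀ : G → ℂ) 1 / (Nat.card G : ℂ)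
      = Cfsg.Agent.Lib.Helper82.Contrib.uu p (χ₀ : G → ℂ) := by
    have h1 := Cfsg.Agent.Lib.Helper82.Contrib.scal_eq p χ₀
    rw [hχ₀e, hae] at h1
    push_cast at h1
    rw [pow_add] at h1
    have hpe : (p : ℂ) ^ e ≠ 0 := pow_ne_zero _ hp0
    apply mul_left_cancel₀ hpe
    rw [← h1]
    ring
  have hT0 : ¬ MemLocalIdeal M (Tc χ₀) := by
    intro hT
    apply hnm
    have e1 : (p : ℂ) ^ blockDefect p b * ∑ ξ ∈ univ.filter (· ∈ b), (c ξ : ℂ)
          * classInner (secRes p x (χ₀ : G → ℂ)) (ξ : Subgroup.centralizer ({x} : Set G) → ℂ)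
        = Cfsg.Agent.Lib.Helper82.Contrib.uu p (χ₀ : G → ℂ) * Tc χ₀ := by
      rw [hTeq, ← hunit, hd]
      field_simp
    rw [e1]
    exact memLocalIdeal_mul_left hMp (Cfsg.Agent.Lib.Helper82.Contrib.memLocalRing_uu p hM χ₀) hT
  intro hzero
  apply hT0
  have h2 : Tc χ = 0 := by rw [hTeq, hzero, zero_mul, zero_div]
  rw [h2, zero_sub] at hcong
  exact memLocalIdeal_neg_iff.1 hcong

end main

section sums

variable {G : Type u} [Group G] [Fintype G] [Fintype (IrrCharacter G)] (p : ℕ) [Fact p.Prime]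
  (M : Ideal AlgInt) (hM : IsPModular p M)

include hM in
theorem sum_lin_aux (B : Set (IrrCharacter G)) [DecidablePred (· ∈ B)] (x : G)
    (hx : ∃ k : ℕ, orderOf x = p ^ k) [Fintype (Subgroup.centralizer ({x} : Set G))]
    [Fintype (IrrCharacter (Subgroup.centralizer ({x} : Set G)))]
    (b : Set (IrrCharacter (Subgroup.centralizer ({x} : Set G)))) [DecidablePred (· ∈ b)]
    (hind : IsInducedBlock M (Subgroup.centralizer ({x} : Set G)) b B)
    (c c' : IrrCharacter (Subgroup.centralizer ({x} : Set G)) → ℂ) :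
    ∑ χ ∈ univ.filter (· ∈ B),
        (∑ ξ ∈ univ.filter (· ∈ b), c ξ * classInner (secRes p x (χ : G → ℂ))
          (ξ : Subgroup.centralizer ({x} : Set G) → ℂ))
        * conj (∑ ξ ∈ univ.filter (· ∈ b), c' ξ * classInner (secRes p x (χ : G → ℂ))
          (ξ : Subgroup.centralizer ({x} : Set G) → ℂ))
      = ∑ ξ ∈ univ.filter (· ∈ b), ∑ ξ' ∈ univ.filter (· ∈ b), c ξ * conj (c' ξ')
          * classInner (pRegularPart p (ξ' : Subgroup.centralizer ({x} : Set G) → ℂ))
            (ξ : Subgroup.centralizer ({x} : Set G) → ℂ) := by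
  have hMp : M.IsPrime := isPrime_of_isPModular hM
  have hb : IsPBlock M b := hind.1
  have hsec : ∀ ξ ∈ b, ξ ∈ secT M x B := by
    intro ξ hξ
    show IsInducedBlock M _ (blockOf M (ξ : Subgroup.centralizer ({x} : Set G) → ℂ)) B
    rw [← Cfsg.Agent.Lib.CT.DefectZeroBlock.eq_blockOf_of_mem hMp hb hξ]
    exact hind
  have h1 : ∀ χ : IrrCharacter G,
      (∑ ξ ∈ univ.filter (· ∈ b), c ξ * classInner (secRes p x (χ : G → ℂ))
          (ξ : Subgroup.centralizer ({x} : Set G) → ℂ))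
        * conj (∑ ξ ∈ univ.filter (· ∈ b), c' ξ * classInner (secRes p x (χ : G → ℂ))
          (ξ : Subgroup.centralizer ({x} : Set G) → ℂ))
      = ∑ ξ ∈ univ.filter (· ∈ b), ∑ ξ' ∈ univ.filter (· ∈ b), c ξ * conj (c' ξ')
          * (classInner (secRes p x (χ : G → ℂ)) (ξ : Subgroup.centralizer ({x} : Set G) → ℂ)
            * conj (classInner (secRes p x (χ : G → ℂ))
              (ξ' : Subgroup.centralizer ({x} : Set G) → ℂ))) := by
    intro χ
    rw [map_sum, sum_mul_sum]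
    refine sum_congr rfl fun ξ _ => sum_congr rfl fun ξ' _ => ?_
    rw [map_mul]
    ring
  rw [sum_congr rfl (fun χ _ => h1 χ), sum_comm]
  refine sum_congr rfl fun ξ hξ => ?_
  rw [sum_comm]
  refine sum_congr rfl fun ξ' hξ' => ?_
  rw [← mul_sum, sum_beta p M hM B x hx ξ ξ' (hsec ξ (mem_filter.1 hξ).2)]

include hM in
/-- Orthogonality of combinations of the section coefficients, for any subgroup equal to
`C_G(x)`. -/
theorem sum_lin (B : Set (IrrCharacter G)) [DecidablePred (· ∈ B)] (x : G)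
    (hx : ∃ k : ℕ, orderOf x = p ^ k) (C : Subgroup G)
    (hC : C = Subgroup.centralizer ({x} : Set G)) [Fintype C] [Fintype (IrrCharacter C)]
    (b : Set (IrrCharacter C)) [DecidablePred (· ∈ b)] (hind : IsInducedBlock M C b B)
    (c c' : IrrCharacter C → ℂ) :
    ∑ χ ∈ univ.filter (· ∈ B),
        (∑ ξ ∈ univ.filter (· ∈ b), c ξ * classInner
          (pRegularPart p (fun y : C => (χ : G → ℂ) (x * y))) (ξ : C → ℂ))
        * conj (∑ ξ ∈ univ.filter (· ∈ b), c' ξ * classInner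
          (pRegularPart p (fun y : C => (χ : G → ℂ) (x * y))) (ξ : C → ℂ))
      = ∑ ξ ∈ univ.filter (· ∈ b), ∑ ξ' ∈ univ.filter (· ∈ b), c ξ * conj (c' ξ')
          * classInner (pRegularPart p (ξ' : C → ℂ)) (ξ : C → ℂ) := by
  subst hC
  exact sum_lin_aux p M hM B x hx b hind c c'

include hM in
theorem sum_mm_diag_aux (B : Set (IrrCharacter G)) [DecidablePred (· ∈ B)] (x : G)
    (hx : ∃ k : ℕ, orderOf x = p ^ k) [Fintype (Subgroup.centralizer ({x} : Set G))]
    [Fintype (IrrCharacter (Subgroup.centralizer ({x} : Set G)))]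
    (b : Set (IrrCharacter (Subgroup.centralizer ({x} : Set G)))) [DecidablePred (· ∈ b)]
    (hind : IsInducedBlock M (Subgroup.centralizer ({x} : Set G)) b B) :
    ∑ χ ∈ univ.filter (· ∈ B),
        mm p b (fun c : Subgroup.centralizer ({x} : Set G) => (χ : G → ℂ) (x * c))
          (fun c : Subgroup.centralizer ({x} : Set G) => (χ : G → ℂ) (x * c))
      = (blockRank p b : ℂ) := by
  have hMp : M.IsPrime := isPrime_of_isPModular hM
  have hb : IsPBlock M b := hind.1
  have hsec : ∀ ξ ∈ b, ξ ∈ secT M x B := by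
    intro ξ hξ
    show IsInducedBlock M _ (blockOf M (ξ : Subgroup.centralizer ({x} : Set G) → ℂ)) B
    rw [← Cfsg.Agent.Lib.CT.DefectZeroBlock.eq_blockOf_of_mem hMp hb hξ]
    exact hind
  have hmm : ∀ χ : IrrCharacter G,
      mm p b (fun c : Subgroup.centralizer ({x} : Set G) => (χ : G → ℂ) (x * c))
          (fun c : Subgroup.centralizer ({x} : Set G) => (χ : G → ℂ) (x * c))
        = ∑ ξ ∈ univ.filter (· ∈ b),
            classInner (secRes p x (χ : G → ℂ)) (ξ : Subgroup.centralizer ({x} : Set G) → ℂ)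
              * conj (classInner (secRes p x (χ : G → ℂ))
                (ξ : Subgroup.centralizer ({x} : Set G) → ℂ)) := by
    intro χ
    rw [← sum_trunc_eq_mm p M hM b hb _ _
      (isClassFunction_shift x (Cfsg.Agent.Lib.CT.Orth.irr_isClassFunction χ))
      (isClassFunction_shift x (Cfsg.Agent.Lib.CT.Orth.irr_isClassFunction χ))]
    rfl
  rw [sum_congr rfl (fun χ _ => hmm χ), sum_comm, blockRank_eq_sum p M hM b hb, sum_filter]
  refine sum_congr rfl fun ξ _ => ?_
  by_cases hξ : ξ ∈ b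
  · rw [if_pos hξ, if_pos hξ, sum_beta p M hM B x hx ξ ξ (hsec ξ hξ)]
  · rw [if_neg hξ, if_neg hξ]

include hM in
/-- The trace of the contribution matrix of the subsection `(x, b)`, for any subgroup equal to
`C_G(x)`. -/
theorem sum_mm_diag (B : Set (IrrCharacter G)) [DecidablePred (· ∈ B)] (x : G)
    (hx : ∃ k : ℕ, orderOf x = p ^ k) (C : Subgroup G)
    (hC : C = Subgroup.centralizer ({x} : Set G)) [Fintype C] [Fintype (IrrCharacter C)]
    (b : Set (IrrCharacter C)) [DecidablePred (· ∈ b)] (hind : IsInducedBlock M C b B) :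
    ∑ χ ∈ univ.filter (· ∈ B),
        mm p b (fun c : C => (χ : G → ℂ) (x * c)) (fun c : C => (χ : G → ℂ) (x * c))
      = (blockRank p b : ℂ) := by
  subst hC
  exact sum_mm_diag_aux p M hM B x hx b hind

end sums

end Cfsg.Agent.Lib.Helper82.SecCong
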