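import Mathlib
import Cfsg.Agent.Lib.Helper78.PRQDefs
import Cfsg.Agent.S4441
import Cfsg.Agent.S4606
import Cfsg.Agent.Lib.Helper80.DefOneCol
import Cfsg.Agent.Lib.CT.ThirdMain
import Cfsg.Agent.Lib.CT.Knorr

/-!
# Piece P2 of S0998: Brauer's package for a self-centralizing Sylow subgroup of odd prime order
-/

set_option autoImplicit false

namespace Cfsg.Agent.Lib.Helper82.PRQPkg

open Cfsg Cfsg.Agent.Lib.Helper78.PRQDefs
open scoped ComplexConjugate

universe u

/-- Characters outside the principal block vanish on `P ∖ 1` when `C_G(P) = P` has order `p`. -/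
theorem vanish_off {G : Type u} [Group G] [Fintype G] (p : ℕ) [Fact p.Prime]
    (M : Ideal AlgInt) (hM : IsPModular p M) (P : Sylow p G) (hP : Nat.card P = p)
    (hC : Subgroup.centralizer ((P : Subgroup G) : Set G) = (P : Subgroup G))
    (χ : IrrCharacter G) (hχ : χ ∉ principalBlock M G) (u : G) (hu : u ∈ (P : Subgroup G))
    (hu1 : u ≠ 1) : (χ : G → ℂ) u = 0 := by
  classical
  have hp : p.Prime := Fact.out
  have hMp := Cfsg.Agent.Lib.Helper77.LocalRing.isPrime_of_isPModular hM
  have hCfin : Fintype ↥(Subgroup.centralizer ((P : Subgroup G) : Set G)) := Fintype.ofFinite _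
  have hPfin : Fintype ↥(P : Subgroup G) := Fintype.ofFinite _
  have hordP : ∀ r : G, r ∈ (P : Subgroup G) → r ≠ 1 → orderOf r = p := by
    intro r hr hr1
    have h1 : orderOf r ∣ p := hP ▸ (P : Subgroup G).orderOf_dvd_natCard hr
    rcases (Nat.dvd_prime hp).mp h1 with h | h
    · exact absurd (orderOf_eq_one_iff.mp h) hr1
    · exact h
  have hind : IsInducedBlock M (Subgroup.centralizer ((P : Subgroup G) : Set G))
      (principalBlock M ↥(Subgroup.centralizer ((P : Subgroup G) : Set G)))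
      (principalBlock M G) :=
    Cfsg.Agent.S4606.induced_congr
      (Cfsg.Agent.Lib.Helper80.DefOneLoc.centralizer_eq P hP hu hu1).symm
      (Cfsg.Agent.S4606.induced_principal hM u ⟨1, by rw [pow_one]; exact hordP u hu hu1⟩)
  have hsec := Cfsg.Agent.Lib.Helper80.DefOneCol.sec_eq_zero_of_not_mem P hP M hM
    (principalBlock M G) (principalBlock M ↥(Subgroup.centralizer ((P : Subgroup G) : Set G)))
    hind (Cfsg.Agent.Lib.CT.ThirdMain.triv _)
    (Cfsg.Agent.Lib.CT.ThirdMain.triv_mem_principalBlock hMp) χ hχ hu hu1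
  unfold Cfsg.Agent.Lib.Helper80.DefOneCol.sec at hsec
  have hsum : ∑ r : ↥(Subgroup.centralizer ((P : Subgroup G) : Set G)),
      (if p ∣ orderOf r then 0 else (χ : G → ℂ) (u * (r : G)) *
        conj (((Cfsg.Agent.Lib.CT.ThirdMain.triv
          ↥(Subgroup.centralizer ((P : Subgroup G) : Set G)) :
            IrrCharacter ↥(Subgroup.centralizer ((P : Subgroup G) : Set G))) :
              ↥(Subgroup.centralizer ((P : Subgroup G) : Set G)) → ℂ) r)) =
      (χ : G → ℂ) u := by
    rw [Finset.sum_eq_single 1]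
    · have h1 : ¬ p ∣ orderOf (1 : ↥(Subgroup.centralizer ((P : Subgroup G) : Set G))) := by
        rw [orderOf_one]
        exact hp.one_lt.not_ge ∘ Nat.le_of_dvd Nat.one_pos
      rw [if_neg h1, Cfsg.Agent.Lib.CT.ThirdMain.coe_triv]
      simp
    · intro r _ hr1
      rw [if_pos]
      have hrP : (r : G) ∈ (P : Subgroup G) := hC.le r.2
      have hr1' : (r : G) ≠ 1 := fun h => hr1 (Subtype.ext h)
      rw [← Subgroup.orderOf_coe, hordP _ hrP hr1']
    · intro h
      exact absurd (Finset.mem_univ _) h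
  rw [hsum] at hsec
  rcases mul_eq_zero.mp hsec with h | h
  · exfalso
    have hpos : (Nat.card ↥(Subgroup.centralizer ((P : Subgroup G) : Set G)) : ℂ) ≠ 0 := by
      exact_mod_cast (Nat.card_pos (α := ↥(Subgroup.centralizer ((P : Subgroup G) : Set G)))).ne'
    exact hpos (inv_eq_zero.mp h)
  · exact h

/-- [P2] Brauer's package for a self-centralizing Sylow subgroup of odd prime order. -/
theorem exists_pkg {G : Type u} [Group G] [Finite G] (p : ℕ) [Fact p.Prime] (hodd : p ≠ 2)
    (P : Sylow p G) (hP : Nat.card P = p)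
    (hC : Subgroup.centralizer ((P : Subgroup G) : Set G) = (P : Subgroup G)) (e : ℕ)
    (he : (Subgroup.centralizer ((P : Subgroup G) : Set G)).relIndex
      (Subgroup.normalizer ((P : Subgroup G) : Set G)) = e) :
    ∃ (X Y : Finset (IrrCharacter G)) (εX : IrrCharacter G → ℤ) (ε : ℤ),
      Pkg p (P : Subgroup G) e X Y εX ε := by
  classical
  have hp : p.Prime := Fact.out
  have hGfin : Fintype G := Fintype.ofFinite G
  obtain ⟨M, hM⟩ := Cfsg.Agent.Lib.CT.Knorr.exists_isPModular p hp
  have hMp := Cfsg.Agent.Lib.Helper77.LocalRing.isPrime_of_isPModular hM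
  obtain ⟨X, Y, hXY, hdisj, hcX, hcY, εX, ε, hX, hε, hdegY, hagree, hrel⟩ :=
    Cfsg.Agent.S4441.result p M hM hodd P hP e he
  have hIrrFin : Finite (IrrCharacter G) := Cfsg.Agent.Lib.CT.Wedderburn.finite_irrCharacter G
  have hXfin : X.Finite := Set.toFinite X
  have hYfin : Y.Finite := Set.toFinite Y
  refine ⟨hXfin.toFinset, hYfin.toFinset, εX, ε, ?_⟩
  refine
    { disj := ?_
      cardX := ?_
      cardY := ?_
      triv_mem := ?_
      signX := ?_
      degX := ?_
      valX := ?_
      sign := hε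
      degY := ?_
      agreeY := ?_
      rel := ?_
      vanish := ?_ }
  · intro χ hχ hχY
    rw [Set.Finite.mem_toFinset] at hχ hχY
    exact Set.disjoint_left.mp hdisj hχ hχY
  · rw [← Set.ncard_eq_toFinset_card X hXfin, ← Nat.card_coe_set_eq]
    exact hcX
  · rw [← Set.ncard_eq_toFinset_card Y hYfin, ← Nat.card_coe_set_eq]
    exact hcY
  · intro τ hτ
    have h1 : τ ∈ principalBlock M G := by
      have h2 : τ = Cfsg.Agent.Lib.CT.ThirdMain.triv G := Subtype.ext (funext hτ)
      rw [h2]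
      exact Cfsg.Agent.Lib.CT.ThirdMain.triv_mem_principalBlock hMp
    rw [hXY] at h1
    rcases h1 with h1 | h1
    · exact Or.inl (hXfin.mem_toFinset.mpr h1)
    · exact Or.inr (hYfin.mem_toFinset.mpr h1)
  · intro χ hχ
    exact (hX χ (hXfin.mem_toFinset.mp hχ)).1
  · intro χ hχ
    exact (hX χ (hXfin.mem_toFinset.mp hχ)).2.1
  · intro χ hχ u hu hu1
    have h1 := (hX χ (hXfin.mem_toFinset.mp hχ)).2.2 u hu hu1 1 (one_mem _)
      (by rw [orderOf_one]; exact hp.one_lt.not_ge ∘ Nat.le_of_dvd Nat.one_pos)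
    rwa [mul_one] at h1
  · intro θ hθ
    exact hdegY θ (hYfin.mem_toFinset.mp hθ)
  · intro θ hθ θ' hθ' g hg
    exact hagree θ (hYfin.mem_toFinset.mp hθ) θ' (hYfin.mem_toFinset.mp hθ') g hg
  · intro θ hθ g hg
    rw [hrel θ (hYfin.mem_toFinset.mp hθ) g hg, finsum_mem_eq_finite_toFinset_sum _ hXfin]
  · intro χ hχX hχY u hu hu1
    apply vanish_off p M hM P hP hC χ _ u hu hu1
    rw [hXY]
    intro h
    rcases h with h | h
    · exact hχX (hXfin.mem_toFinset.mpr h)
    · exact hχY (hYfin.mem_toFinset.mpr h)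

end Cfsg.Agent.Lib.Helper82.PRQPkg
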