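import Mathlib
import Cfsg.Prelude.Def_Characters
import Cfsg.Agent.Lib.Helper81.OddIndex
import Cfsg.Agent.Lib.Helper81.CliffCorr
import Cfsg.Agent.Lib.Helper81.GlaubNormal
import Cfsg.Agent.S4518
import Cfsg.Agent.S4873
import Cfsg.Agent.Lib.Helper78.Gallagher
import Cfsg.Agent.Lib.CT.LinChar
import Cfsg.Agent.Lib.CT.Ops
import Cfsg.Agent.Lib.CT.FrobRec

/-!
Characters of a normal subgroup `N` of odd index in `G` and a power map `g ↦ g ^ k` that inverts
the elements of odd order (a "Galois automorphism" of 2-power order acting as complex conjugation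
on the odd roots of unity): parity lemma, uniqueness and existence of the fixed character over a
fixed character of `N`, and existence of fixed extensions.
-/

set_option autoImplicit false

namespace Cfsg.Agent.Lib.Helper82.OddGal

open Cfsg
open Cfsg.Agent.Lib.Helper81.Irr Cfsg.Agent.Lib.Helper81.Basic Cfsg.Agent.Lib.Helper81.Expand
  Cfsg.Agent.Lib.Helper81.Mult Cfsg.Agent.Lib.Helper81.Cliff Cfsg.Agent.Lib.Helper81.OddIndex
  Cfsg.Agent.Lib.Helper81.CliffCorr

universe u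

variable {G : Type u} [Group G]

/-- If the `k`-th power map inverts the elements of odd order, then `g ^ (k + 1)` lies in every
normal subgroup of odd index. -/
theorem pow_succ_mem [Finite G] (N : Subgroup G) [N.Normal] (hodd : Odd N.index) (k : ℕ)
    (hinv : ∀ g : G, Odd (orderOf g) → g ^ k = g⁻¹) (g : G) : g ^ (k + 1) ∈ N := by
  obtain ⟨a, m, hm, hcard⟩ := Nat.exists_eq_two_pow_mul_odd (Nat.card_pos (α := G)).ne'
  have hy : Odd (orderOf (g ^ 2 ^ a)) := by
    apply Odd.of_dvd_nat hm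
    apply orderOf_dvd_of_pow_eq_one
    rw [← pow_mul, ← hcard, pow_card_eq_one']
  have h1 := hinv _ hy
  have h2 : (g ^ (k + 1)) ^ 2 ^ a = 1 := by
    rw [← pow_mul, mul_comm, pow_mul, pow_succ, h1, inv_mul_cancel]
  set d : G ⧸ N := QuotientGroup.mk (g ^ (k + 1)) with hd
  have h3 : d ^ 2 ^ a = 1 := by
    rw [hd, ← QuotientGroup.mk_pow, h2, QuotientGroup.mk_one]
  have h4 : orderOf d ∣ 2 ^ a := orderOf_dvd_of_pow_eq_one h3
  have h5 : orderOf d ∣ N.index := by
    rw [Subgroup.index_eq_card]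
    exact orderOf_dvd_natCard d
  have hcop : Nat.Coprime (2 ^ a) N.index :=
    Nat.Coprime.pow_left a (Nat.coprime_two_left.mpr hodd)
  have h6 : orderOf d = 1 := Nat.eq_one_of_dvd_coprimes hcop h4 h5
  have h7 : d = 1 := orderOf_eq_one_iff.mp h6
  exact (QuotientGroup.eq_one_iff _).mp h7

/-- Parity lemma for a character fixed by the power map: the multiplicities of the trivial
character in `Θ` and in its restriction to a normal subgroup of odd index have the same
parity. -/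
theorem parity_res_pow [Fintype G] (N : Subgroup G) [N.Normal] [Fintype ↥N]
    (hodd : Odd N.index) (k : ℕ) (hk : k.Coprime (Nat.card G))
    (hinv : ∀ g : G, Odd (orderOf g) → g ^ k = g⁻¹)
    {Θ : G → ℂ} (hΘ : IsCharacter G Θ) (hfix : ∀ g, Θ (g ^ k) = Θ g) :
    mult (res N Θ) (trivChar ↥N) % 2 = mult Θ (trivChar G) % 2 := by
  classical
  have : Fintype (G ⧸ N) := Fintype.ofFinite _
  have := finite_irr (G := G ⧸ N)
  have : Fintype (IrrCharacter (G ⧸ N)) := Fintype.ofFinite _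
  have hoddQ : Odd (Nat.card (G ⧸ N)) := by rwa [← Subgroup.index_eq_card]
  choose d hd using fun μ : IrrCharacter (G ⧸ N) => irr_one_nat μ
  have hdinv : ∀ μ : IrrCharacter (G ⧸ N), d (invChar μ) = d μ := by
    intro μ
    have h1 : ((d (invChar μ) : ℕ) : ℂ) = d μ := by
      rw [← hd, ← hd, invChar_apply, inv_one]
    exact_mod_cast h1
  have hcinv : ∀ μ : IrrCharacter (G ⧸ N),
      mult Θ (infl N (invChar μ)) = mult Θ (infl N μ) := by
    intro μ
    have h1 : ((mult Θ (infl N (invChar μ)) : ℕ) : ℂ) = mult Θ (infl N μ) := by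
      rw [mult_cast hΘ, mult_cast hΘ, multC_def, multC_def]
      congr 1
      rw [← Equiv.sum_comp (powCoprime hk.symm) (fun g => Θ g * (infl N μ).1 g⁻¹)]
      apply Finset.sum_congr rfl
      intro g _
      rw [powCoprime_apply, hfix]
      congr 1
      rw [infl_apply, infl_apply, invChar_apply]
      have hq : ((QuotientGroup.mk' N) g⁻¹)⁻¹ = (QuotientGroup.mk' N) (g ^ k)⁻¹ := by
        rw [map_inv, inv_inv, map_inv, eq_inv_iff_mul_eq_one, ← map_mul, ← pow_succ']
        exact (QuotientGroup.eq_one_iff _).mpr (pow_succ_mem N hodd k hinv g)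
      rw [hq]
    exact_mod_cast h1
  have hL : mult (res N Θ) (trivChar ↥N) =
      ∑ μ : IrrCharacter (G ⧸ N), d μ * mult Θ (infl N μ) := by
    have h1 : ((mult (res N Θ) (trivChar ↥N) : ℕ) : ℂ) =
        ((∑ μ : IrrCharacter (G ⧸ N), d μ * mult Θ (infl N μ) : ℕ) : ℂ) := by
      rw [mult_cast (isCharacter_res N hΘ), mult_res_triv, Nat.cast_sum]
      apply Finset.sum_congr rfl
      intro μ _
      rw [Nat.cast_mul, hd μ, ← hcinv μ, mult_cast hΘ]
    exact_mod_cast h1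
  rw [← ZMod.natCast_eq_natCast_iff', hL, Nat.cast_sum]
  rw [← Finset.add_sum_erase Finset.univ _ (Finset.mem_univ (trivChar (G ⧸ N)))]
  have hz : ∑ μ ∈ Finset.univ.erase (trivChar (G ⧸ N)),
      ((d μ * mult Θ (infl N μ) : ℕ) : ZMod 2) = 0 := by
    apply Finset.sum_involution (fun μ _ => invChar μ)
    · intro μ _
      rw [hdinv μ, hcinv μ]
      exact CharTwo.add_self_eq_zero _
    · intro μ hμ _ hfix'
      have hne := Finset.ne_of_mem_erase hμ
      apply hne
      apply real_irr_eq_triv hoddQ μ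
      intro g
      have := congrArg (fun ψ : IrrCharacter (G ⧸ N) => ψ.1 g) hfix'
      simpa [invChar_apply] using this
    · intro μ hμ
      have hne := Finset.ne_of_mem_erase hμ
      apply Finset.mem_erase.mpr
      refine ⟨?_, Finset.mem_univ _⟩
      intro h
      apply hne
      rw [← invChar_invChar μ, h]
      rfl
    · intro μ _
      exact invChar_invChar μ
  rw [hz, add_zero, infl_triv]
  have hd1 : d (trivChar (G ⧸ N)) = 1 := by
    have h1 : ((d (trivChar (G ⧸ N)) : ℕ) : ℂ) = 1 := by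
      rw [← hd]
      rfl
    exact_mod_cast h1
  rw [hd1, one_mul]

/-- Multiplicity of the trivial character in `χ₁ * conj χ₂`. -/
theorem mult_mul_inv_triv [Fintype G] (χ₁ χ₂ : IrrCharacter G) :
    multC (χ₁.1 * (invChar χ₂).1) (trivChar G) = if χ₁ = χ₂ then 1 else 0 := by
  rw [← multC_irr χ₁ χ₂, multC_def, multC_def]
  congr 1
  apply Finset.sum_congr rfl
  intro g _
  simp [trivChar, invChar_apply]

/-- Multiplicity of the trivial character in the restriction of `χ₁ * conj χ₂`, by Parseval. -/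
theorem mult_res_mul_inv_triv (N : Subgroup G) [Fintype ↥N] [Fintype (IrrCharacter ↥N)]
    (χ₁ χ₂ : IrrCharacter G) :
    multC (res N (χ₁.1 * (invChar χ₂).1)) (trivChar ↥N) =
      ∑ θ : IrrCharacter ↥N, multC (res N χ₁.1) θ * multC (res N χ₂.1) θ := by
  rw [← parseval (res N χ₁.1) (res N χ₂.1) (by
    intro g h
    simp only [res_apply, Subgroup.coe_mul, Subgroup.coe_inv]
    exact irr_conj χ₁ _ _), multC_def]
  congr 1
  apply Finset.sum_congr rfl
  intro n _
  simp [trivChar, res_apply, invChar_apply]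

/-- The parity statement behind uniqueness. -/
theorem parity_over (N : Subgroup G) [N.Normal] [Fintype G] [Fintype ↥N]
    [Fintype (IrrCharacter G)] [Fintype (IrrCharacter ↥N)] [DecidableEq (IrrCharacter ↥N)]
    (hodd : Odd N.index) (k : ℕ)
    (hk : k.Coprime (Nat.card G)) (hinv : ∀ g : G, Odd (orderOf g) → g ^ k = g⁻¹)
    (φ : IrrCharacter ↥N) (a b : IrrCharacter G)
    (ha : ∀ g, a.1 (g ^ k) = a.1 g) (hb : ∀ g, b.1 (g ^ k) = b.1 g)
    (hab : multC (res N a.1) φ ≠ 0) :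
    ((Finset.univ.filter (fun θ : IrrCharacter ↥N => ∃ g : G, conjI N g φ = θ)).card *
        (mult (res N a.1) φ * mult (res N b.1) φ)) % 2 = (if a = b then 1 else 0) := by
  have hchar : IsCharacter G (a.1 * (invChar b).1) :=
    Cfsg.Agent.Lib.CT.Ops.isCharacter_mul (irr_isCharacter a) (irr_isCharacter (invChar b))
  have hfixmul : ∀ g, (a.1 * (invChar b).1) (g ^ k) = (a.1 * (invChar b).1) g := by
    intro g
    simp only [Pi.mul_apply, invChar_apply]
    rw [ha, ← inv_pow, hb]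
  have hp := parity_res_pow N hodd k hk hinv hchar hfixmul
  have e1 : mult (res N (a.1 * (invChar b).1)) (trivChar ↥N) =
      (Finset.univ.filter (fun θ : IrrCharacter ↥N => ∃ g : G, conjI N g φ = θ)).card *
      (mult (res N a.1) φ * mult (res N b.1) φ) := by
    have : ((mult (res N (a.1 * (invChar b).1)) (trivChar ↥N) : ℕ) : ℂ) =
        (((Finset.univ.filter (fun θ : IrrCharacter ↥N => ∃ g : G, conjI N g φ = θ)).card *
          (mult (res N a.1) φ * mult (res N b.1) φ) : ℕ) : ℂ) := by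
      rw [mult_cast (isCharacter_res N hchar), mult_res_mul_inv_triv N a b,
        Cfsg.Agent.S4873.clifford_sum N φ a b hab]
    exact_mod_cast this
  have e2 : mult (a.1 * (invChar b).1) (trivChar G) = if a = b then 1 else 0 := by
    have : ((mult (a.1 * (invChar b).1) (trivChar G) : ℕ) : ℂ) =
        ((if a = b then 1 else 0 : ℕ) : ℂ) := by
      rw [mult_cast hchar, mult_mul_inv_triv a b]
      split_ifs <;> simp
    exact_mod_cast this
  rw [e1, e2] at hp
  rw [hp]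
  split_ifs <;> rfl

/-- Among the irreducible characters of `G` fixed by the power map, at most one lies over a
given irreducible character of a normal subgroup of odd index. -/
theorem unique_fixed_over (N : Subgroup G) [N.Normal] [Fintype G] [Fintype ↥N]
    [Fintype (IrrCharacter G)] [Fintype (IrrCharacter ↥N)] (hodd : Odd N.index) (k : ℕ)
    (hk : k.Coprime (Nat.card G)) (hinv : ∀ g : G, Odd (orderOf g) → g ^ k = g⁻¹)
    (φ : IrrCharacter ↥N) (χ₁ χ₂ : IrrCharacter G)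
    (hr1 : ∀ g, χ₁.1 (g ^ k) = χ₁.1 g) (hr2 : ∀ g, χ₂.1 (g ^ k) = χ₂.1 g)
    (h1 : multC (res N χ₁.1) φ ≠ 0) (h2 : multC (res N χ₂.1) φ ≠ 0) : χ₁ = χ₂ := by
  classical
  by_contra hne
  have k11 := parity_over N hodd k hk hinv φ χ₁ χ₁ hr1 hr1 h1
  have k22 := parity_over N hodd k hk hinv φ χ₂ χ₂ hr2 hr2 h2
  have k12 := parity_over N hodd k hk hinv φ χ₁ χ₂ hr1 hr2 h1
  rw [if_pos rfl] at k11 k22
  rw [if_neg hne] at k12
  have o11 := Nat.odd_iff.mpr k11
  have o22 := Nat.odd_iff.mpr k22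
  have e12 := Nat.even_iff.mpr k12
  rw [Nat.odd_mul, Nat.odd_mul] at o11 o22
  rw [Nat.even_mul, Nat.even_mul] at e12
  rcases e12 with h | h | h
  · exact (Nat.not_even_iff_odd.mpr o11.1) h
  · exact (Nat.not_even_iff_odd.mpr o11.2.1) h
  · exact (Nat.not_even_iff_odd.mpr o22.2.1) h

/-- A permutation of 2-power order preserving a function with odd sum has a fixed point at which
the function does not vanish. -/
theorem exists_fixed_of_odd_sum {X : Type*} [Fintype X] (σ : Equiv.Perm X) (e : ℕ)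
    (hσ : σ ^ 2 ^ e = 1) (F : X → ℕ) (hF : ∀ x, F (σ x) = F x) (hodd : Odd (∑ x, F x)) :
    ∃ x, σ x = x ∧ F x ≠ 0 := by
  classical
  have : Fact (Nat.Prime 2) := ⟨Nat.prime_two⟩
  let S : Subgroup (Equiv.Perm X) :=
    { carrier := {τ | ∀ x, F (τ x) = F x}
      mul_mem' := by
        intro a b ha hb x
        rw [Equiv.Perm.mul_apply, ha, hb]
      one_mem' := fun x => rfl
      inv_mem' := by
        intro a ha x
        have h1 := ha (a⁻¹ x)
        rw [← h1]
        simp }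
  have hσS : σ ∈ S := hF
  have hQ : IsPGroup 2 (Subgroup.zpowers σ) := by
    rintro ⟨τ, hτ⟩
    obtain ⟨j, rfl⟩ := Subgroup.mem_zpowers_iff.mp hτ
    refine ⟨e, Subtype.ext ?_⟩
    show (σ ^ j) ^ 2 ^ e = 1
    rw [← zpow_natCast, ← zpow_mul, mul_comm, zpow_mul, zpow_natCast, hσ, one_zpow]
  have h3 := Cfsg.Agent.Lib.Helper81.GlaubNormal.sum_fixed_modEq 2 (Subgroup.zpowers σ) hQ F
    (fun τ hτ x => (Subgroup.zpowers_le.mpr hσS) hτ x)
  have h4 : (∑ x ∈ Finset.univ.filter (fun x : X => ∀ τ ∈ Subgroup.zpowers σ, τ x = x), F x)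
      ≠ 0 := by
    intro h0
    rw [h0] at h3
    have h5 := Nat.odd_iff.mp hodd
    have h6 : (∑ x, F x) % 2 = 0 % 2 := h3
    omega
  obtain ⟨x, hx, hx0⟩ := Finset.exists_ne_zero_of_sum_ne_zero h4
  exact ⟨x, (Finset.mem_filter.mp hx).2 σ (Subgroup.mem_zpowers σ), hx0⟩

/-- Existence: a character of a normal subgroup of odd index fixed by the power map of 2-power
order lies under a character of `G` fixed by the power map. -/
theorem exists_fixed_over [Fintype G] (N : Subgroup G) [N.Normal] [Fintype ↥N]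
    (hodd : Odd N.index) (k e : ℕ) (hk : k.Coprime (Nat.card G))
    (hke : k ^ (2 ^ e) ≡ 1 [MOD Nat.card G]) (θ : IrrCharacter ↥N)
    (hθ : ∀ n : ↥N, θ.1 (n ^ k) = θ.1 n) :
    ∃ χ : IrrCharacter G, (∀ g, χ.1 (g ^ k) = χ.1 g) ∧ multC (res N χ.1) θ ≠ 0 := by
  classical
  have : Finite (IrrCharacter G) := finite_irr
  have : Finite (IrrCharacter ↥N) := finite_irr
  let _ : Fintype (IrrCharacter G) := Fintype.ofFinite _
  let _ : Fintype (IrrCharacter ↥N) := Fintype.ofFinite _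
  have hkN : k.Coprime (Nat.card ↥N) :=
    Nat.Coprime.coprime_dvd_right (Subgroup.card_subgroup_dvd_card N) hk
  have hpe : 1 ≤ 2 ^ e := Nat.one_le_two_pow
  set kinv : ℕ := k ^ (2 ^ e - 1) with hkinv
  have hkinvG : kinv.Coprime (Nat.card G) := Nat.Coprime.pow_left _ hk
  have hkk : kinv * k = k ^ (2 ^ e) := by
    rw [hkinv, ← pow_succ, Nat.sub_add_cancel hpe]
  have hpow1 : ∀ g : G, g ^ (k ^ (2 ^ e)) = g := by
    intro g
    have h1 : k ^ (2 ^ e) ≡ 1 [MOD orderOf g] := hke.of_dvd (orderOf_dvd_natCard g)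
    have h2 := (pow_eq_pow_iff_modEq (x := g)).2 h1
    rw [h2, pow_one]
  let σ : Equiv.Perm (IrrCharacter G) :=
    { toFun := Cfsg.Agent.S4518.powI k hk
      invFun := Cfsg.Agent.S4518.powI kinv hkinvG
      left_inv := by
        intro ϑ
        apply Subtype.ext
        funext n
        rw [Cfsg.Agent.S4518.powI_apply, Cfsg.Agent.S4518.powI_apply, ← pow_mul, hkk, hpow1]
      right_inv := by
        intro ϑ
        apply Subtype.ext
        funext n
        rw [Cfsg.Agent.S4518.powI_apply, Cfsg.Agent.S4518.powI_apply, ← pow_mul, mul_comm, hkk,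
          hpow1] }
  have hσ : ∀ ϑ, σ ϑ = Cfsg.Agent.S4518.powI k hk ϑ := fun ϑ => rfl
  have hσpow : ∀ (j : ℕ) (ϑ : IrrCharacter G) (n : G), ((σ ^ j) ϑ).1 n = ϑ.1 (n ^ (k ^ j)) := by
    intro j
    induction j with
    | zero => intro ϑ n; simp
    | succ j ih =>
      intro ϑ n
      rw [pow_succ, Equiv.Perm.mul_apply, ih, hσ, Cfsg.Agent.S4518.powI_apply, ← pow_mul,
        pow_succ]
  have hσpe : σ ^ 2 ^ e = 1 := by
    ext ϑ : 1
    apply Subtype.ext
    funext n
    rw [hσpow, hpow1, Equiv.Perm.one_apply]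
  -- multiplicities
  let E : IrrCharacter G → ℕ := fun χ => mult (res N χ.1) θ
  have hresc : ∀ χ : IrrCharacter G, IsCharacter ↥N (res N χ.1) :=
    fun χ => isCharacter_res N (irr_isCharacter χ)
  have hEσ : ∀ χ, E (σ χ) = E χ := by
    intro χ
    have h1 : ((E (σ χ) : ℕ) : ℂ) = E χ := by
      show ((mult (res N (σ χ).1) θ : ℕ) : ℂ) = mult (res N χ.1) θ
      rw [mult_cast (hresc _), mult_cast (hresc _), multC_def, multC_def]
      congr 1
      rw [← Equiv.sum_comp (powCoprime hkN.symm) (fun n => res N χ.1 n * θ.1 n⁻¹)]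
      apply Finset.sum_congr rfl
      intro n _
      rw [powCoprime_apply, res_apply, res_apply, hσ, Cfsg.Agent.S4518.powI_apply, ← inv_pow,
        hθ, Subgroup.coe_pow]
    exact_mod_cast h1
  have hΨ : IsCharacter G (indFun N θ.1) :=
    Cfsg.Agent.Lib.CT.IndChar.isCharacter_indFun N θ.1 (irr_isCharacter θ)
  have hdΨ : charDegree (indFun N θ.1) = N.index * charDegree θ.1 := by
    have : ((charDegree (indFun N θ.1) : ℕ) : ℂ) = ((N.index * charDegree θ.1 : ℕ) : ℂ) := by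
      rw [← Cfsg.Agent.Lib.Helper80.Integrality.apply_one_eq_charDegree hΨ,
        Cfsg.Agent.Lib.CT.FrobRec.indFun_one, Nat.cast_mul, ← deg_cast θ]
    exact_mod_cast this
  have hmE : ∀ χ : IrrCharacter G, mult (indFun N θ.1) χ = E χ := by
    intro χ
    have : ((mult (indFun N θ.1) χ : ℕ) : ℂ) = E χ := by
      show _ = ((mult (res N χ.1) θ : ℕ) : ℂ)
      rw [mult_cast hΨ, mult_cast (hresc χ), multC_indFun]
    exact_mod_cast this
  have hexp := charDegree_expand hΨ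
  have hterm : ∀ χ : IrrCharacter G, mult (indFun N θ.1) χ * charDegree χ.1 =
      (E χ * E χ) * ((orb N θ).card * charDegree θ.1) := by
    intro χ
    rw [hmE]
    by_cases h0 : E χ = 0
    · rw [h0]; simp
    · rw [degree_over N χ θ h0]
      ring
  rw [hdΨ, Finset.sum_congr rfl (fun χ _ => hterm χ), ← Finset.sum_mul, ← mul_assoc] at hexp
  have hidx : N.index = (∑ χ : IrrCharacter G, E χ * E χ) * (orb N θ).card :=
    Nat.eq_of_mul_eq_mul_right (deg_pos θ) hexp
  have hoddsum : Odd (∑ χ : IrrCharacter G, E χ * E χ) := by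
    rw [hidx] at hodd
    exact (Nat.odd_mul.mp hodd).1
  obtain ⟨χ, hχfix, hχ0⟩ := exists_fixed_of_odd_sum σ e hσpe (fun χ => E χ * E χ)
    (fun χ => by show E (σ χ) * E (σ χ) = E χ * E χ; rw [hEσ]) hoddsum
  refine ⟨χ, ?_, ?_⟩
  · intro g
    have := congrFun (congrArg Subtype.val hχfix) g
    exact this
  · have hE0 : E χ ≠ 0 := fun h => hχ0 (by show E χ * E χ = 0; rw [h])
    rw [← mult_cast (hresc χ)]
    exact_mod_cast hE0

/-- A fixed irreducible character of a normal subgroup of odd index that extends to `G` has an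
extension fixed by the power map. -/
theorem exists_fixed_ext [Finite G] (N : Subgroup G) [hN : N.Normal] (hodd : Odd N.index)
    (k : ℕ) (hk : k.Coprime (Nat.card G)) (hinv : ∀ g : G, Odd (orderOf g) → g ^ k = g⁻¹)
    (θ : IrrCharacter ↥N) (hθ : ∀ n : ↥N, θ.1 (n ^ k) = θ.1 n)
    (χ₀ : IrrCharacter G) (h₀ : ∀ n : ↥N, χ₀.1 n = θ.1 n) :
    ∃ χ₁ : IrrCharacter G, (∀ n : ↥N, χ₁.1 n = θ.1 n) ∧ ∀ g : G, χ₁.1 (g ^ k) = χ₁.1 g := by
  classical
  let _ : Fintype G := Fintype.ofFinite G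
  let _ : Fintype ↥N := Fintype.ofFinite ↥N
  have hχ₀c : IsCharacter G χ₀.1 := Cfsg.Agent.Lib.CT.Wedderburn.isCharacter_of_irr χ₀.2
  let ψ : IrrCharacter G := Cfsg.Agent.S4518.powI k hk χ₀
  have hψ : ∀ g : G, ψ.1 g = χ₀.1 (g ^ k) := fun g => rfl
  have hprodeq : (fun n : ↥N => (fun _ : ↥N => (1 : ℂ)) n * χ₀.1 n) = θ.1 := by
    funext n
    simp [h₀ n]
  have hprod : IsIrrCharacter ↥N (fun n : ↥N => (fun _ : ↥N => (1 : ℂ)) n * χ₀.1 n) := by
    rw [hprodeq]; exact θ.2
  obtain ⟨-, -, h3⟩ := Cfsg.Agent.Lib.Helper78.Gallagher.gallagher_core N hN (fun _ => (1 : ℂ))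
    Cfsg.Agent.Lib.CT.Ops.isIrrCharacter_one (fun _ _ => rfl) χ₀.1 χ₀.2 hprod
  have hne : classInner (indFun N (fun n : ↥N => (fun _ : ↥N => (1 : ℂ)) n * χ₀.1 n))
      (ψ : G → ℂ) ≠ 0 := by
    rw [hprodeq, Cfsg.Agent.Lib.CT.FrobRec.frobenius_reciprocity N θ.1 ψ.1
      (Cfsg.Agent.Lib.CT.Orth.irr_isClassFunction ψ)]
    have e : (fun h : ↥N => ψ.1 h) = θ.1 := by
      funext n
      rw [hψ, ← Subgroup.coe_pow, h₀, hθ]
    rw [e, Cfsg.Agent.Lib.CT.Wedderburn.irr_orthonormal θ θ]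
    simp
  obtain ⟨β, hβ1, hβ2⟩ := h3 ψ hne
  have hβc : IsCharacter G β.1 := Cfsg.Agent.Lib.CT.Wedderburn.isCharacter_of_irr β.2
  have hχ1 : χ₀.1 1 ≠ 0 := Cfsg.Agent.Lib.CT.Wedderburn.irr_apply_one_ne_zero χ₀.2
  have hβone : β.1 1 = 1 := by
    have h := congr_fun hβ2 1
    simp only [Pi.mul_apply] at h
    have h' : ψ.1 1 = χ₀.1 1 := by rw [hψ, one_pow]
    rw [h'] at h
    exact mul_right_cancel₀ hχ1 (by rw [h, one_mul])
  -- β is trivial on N
  have hβN : ∀ n : ↥N, β.1 n = 1 := by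
    have hres : IsCharacter ↥N (fun n : ↥N => β.1 n) :=
      Cfsg.Agent.Lib.CT.Ops.isCharacter_restrict N hβc
    have hres1 : (fun n : ↥N => β.1 n) 1 = 1 := by
      show β.1 ((1 : ↥N) : G) = 1
      rw [Subgroup.coe_one]; exact hβone
    have hirr : IsIrrCharacter ↥N (fun n : ↥N => β.1 n) :=
      Cfsg.Agent.Lib.CT.LinChar.isIrrCharacter_of_linear hres hres1
    rw [Cfsg.Agent.Lib.CT.FrobRec.frobenius_reciprocity N (fun _ => (1 : ℂ)) β.1
      (Cfsg.Agent.Lib.CT.Orth.irr_isClassFunction β)] at hβ1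
    have ho := Cfsg.Agent.Lib.CT.Wedderburn.irr_orthonormal
      (⟨fun _ => (1 : ℂ), Cfsg.Agent.Lib.CT.Ops.isIrrCharacter_one⟩ : IrrCharacter ↥N)
      ⟨fun n : ↥N => β.1 n, hirr⟩
    rw [ho] at hβ1
    by_cases he : (⟨fun _ => (1 : ℂ), Cfsg.Agent.Lib.CT.Ops.isIrrCharacter_one⟩ :
        IrrCharacter ↥N) = ⟨fun n : ↥N => β.1 n, hirr⟩
    · intro n
      have := congr_arg (fun f : IrrCharacter ↥N => f.1 n) he
      exact this.symm
    · rw [if_neg he] at hβ1
      exact absurd rfl hβ1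
  obtain ⟨j, hj⟩ : ∃ j, j + j = N.index + 1 := by
    obtain ⟨i, hi⟩ := hodd
    exact ⟨i + 1, by omega⟩
  have hlin := Cfsg.Agent.Lib.CT.LinChar.isLinear_pow
    (⟨hβc, hβone⟩ : IsCharacter G β.1 ∧ β.1 1 = 1) j
  refine ⟨⟨χ₀.1 * β.1 ^ j,
    Cfsg.Agent.Lib.CT.LinChar.isIrrCharacter_mul_linear χ₀.2 hlin.1 hlin.2⟩, ?_, ?_⟩
  · intro n
    show χ₀.1 n * (β.1 n) ^ j = θ.1 n
    rw [hβN n, one_pow, mul_one, h₀ n]
  · intro g
    show χ₀.1 (g ^ k) * (β.1 (g ^ k)) ^ j = χ₀.1 g * (β.1 g) ^ j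
    have hb0 : β.1 g ≠ 0 := Cfsg.Agent.Lib.CT.LinChar.linear_ne_zero hβc hβone g
    have hbk : β.1 (g ^ k) = (β.1 g) ^ k := Cfsg.Agent.Lib.CT.LinChar.linear_pow hβc hβone g k
    have hbk1 : (β.1 g) ^ (k + 1) = 1 := by
      rw [← Cfsg.Agent.Lib.CT.LinChar.linear_pow hβc hβone g (k + 1)]
      exact hβN ⟨g ^ (k + 1), pow_succ_mem N hodd k hinv g⟩
    have hbidx : (β.1 g) ^ N.index = 1 := by
      rw [← Cfsg.Agent.Lib.CT.LinChar.linear_pow hβc hβone g N.index]
      exact hβN ⟨g ^ N.index, Subgroup.pow_index_mem N g⟩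
    have hjj : (β.1 g) ^ j * (β.1 g) ^ j = β.1 g := by
      rw [← pow_add, hj, pow_succ, hbidx, one_mul]
    have hkinv : (β.1 g) ^ k = (β.1 g)⁻¹ := by
      rw [pow_succ] at hbk1
      exact eq_inv_of_mul_eq_one_left hbk1
    have hcχ : χ₀.1 (g ^ k) = β.1 g * χ₀.1 g := by
      rw [← hψ g, ← hβ2]; rfl
    have hbj0 : (β.1 g) ^ j ≠ 0 := pow_ne_zero _ hb0
    rw [hcχ, hbk, hkinv, inv_pow]
    calc β.1 g * χ₀.1 g * ((β.1 g) ^ j)⁻¹
        = ((β.1 g) ^ j * (β.1 g) ^ j) * χ₀.1 g * ((β.1 g) ^ j)⁻¹ := by rw [hjj]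
      _ = χ₀.1 g * (β.1 g) ^ j := by field_simp

end Cfsg.Agent.Lib.Helper82.OddGal
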