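import Mathlib
import Cfsg.Prelude.Def_Characters
import Cfsg.Agent.Lib.Helper82.OddGal
import Cfsg.Agent.S0886
import Cfsg.Agent.Lib.Helper78.ProjExt

/-!
Extension of an invariant character of a normal subgroup of odd index that is fixed by a power
map inverting the elements of odd order: induction on the index through Sylow overgroups and
subgroups of prime index.
-/

set_option autoImplicit false

namespace Cfsg.Agent.Lib.Helper82.OddGalExt

open Cfsg
open Cfsg.Agent.Lib.Helper81.Irr Cfsg.Agent.Lib.Helper81.Basic Cfsg.Agent.Lib.Helper81.Expand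
  Cfsg.Agent.Lib.Helper81.Mult Cfsg.Agent.Lib.Helper81.Cliff
open Cfsg.Agent.Lib.Helper82.OddGal

universe u

variable {G : Type u} [Group G]

/-- The character of `N.subgroupOf H` corresponding to a character of `N ≤ H`. -/
noncomputable def subChar {N H : Subgroup G} (hNH : N ≤ H) (θ : IrrCharacter ↥N) :
    IrrCharacter ↥(N.subgroupOf H) :=
  ⟨fun x => θ.1 (Subgroup.subgroupOfEquivOfLe hNH x),
    isIrrCharacter_comp θ.2 (Subgroup.subgroupOfEquivOfLe hNH).toMonoidHom
      (MulEquiv.surjective _)⟩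

theorem subChar_apply {N H : Subgroup G} (hNH : N ≤ H) (θ : IrrCharacter ↥N)
    (x : ↥(N.subgroupOf H)) :
    (subChar hNH θ).1 x = θ.1 (Subgroup.subgroupOfEquivOfLe hNH x) := rfl

theorem sub_hyps [Finite G] {N H : Subgroup G} (hNH : N ≤ H) (k : ℕ)
    (hodd : Odd N.index) (hk : k.Coprime (Nat.card G))
    (hinv : ∀ g : G, Odd (orderOf g) → g ^ k = g⁻¹) :
    Odd (N.subgroupOf H).index ∧ k.Coprime (Nat.card ↥H) ∧
      (∀ h : ↥H, Odd (orderOf h) → h ^ k = h⁻¹) := by
  refine ⟨?_, ?_, ?_⟩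
  · have h1 : N.relIndex H * H.index = N.index := Subgroup.relIndex_mul_index hNH
    exact Odd.of_dvd_nat hodd (Dvd.intro _ h1)
  · exact Nat.Coprime.coprime_dvd_right (Subgroup.card_subgroup_dvd_card H) hk
  · intro h hh
    apply Subtype.ext
    rw [Subgroup.coe_pow, Subgroup.coe_inv]
    apply hinv
    rwa [Subgroup.orderOf_coe]

theorem subChar_fixed {N H : Subgroup G} (hNH : N ≤ H) (k : ℕ) (θ : IrrCharacter ↥N)
    (hθ : ∀ n : ↥N, θ.1 (n ^ k) = θ.1 n) (x : ↥(N.subgroupOf H)) :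
    (subChar hNH θ).1 (x ^ k) = (subChar hNH θ).1 x := by
  rw [subChar_apply, subChar_apply, map_pow, hθ]

theorem subChar_inv {N H : Subgroup G} [hN : N.Normal] (hNH : N ≤ H) (θ : IrrCharacter ↥N)
    (hθinv : ∀ (g : G) (n : ↥N), θ.1 ⟨g * n * g⁻¹, hN.conj_mem n n.2 g⟩ = θ.1 n)
    (h : ↥H) (x : ↥(N.subgroupOf H)) (hmem : h * x * h⁻¹ ∈ N.subgroupOf H) :
    (subChar hNH θ).1 ⟨h * x * h⁻¹, hmem⟩ = (subChar hNH θ).1 x := by
  rw [subChar_apply, subChar_apply]
  exact hθinv (h : G) (Subgroup.subgroupOfEquivOfLe hNH x)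

/-- Two extensions fixed by the power map are equal. -/
theorem unique_fixed_ext [Finite G] (N : Subgroup G) [N.Normal] (hodd : Odd N.index) (k : ℕ)
    (hk : k.Coprime (Nat.card G)) (hinv : ∀ g : G, Odd (orderOf g) → g ^ k = g⁻¹)
    (φ : IrrCharacter ↥N) (χ₁ χ₂ : IrrCharacter G)
    (hr1 : ∀ g, χ₁.1 (g ^ k) = χ₁.1 g) (hr2 : ∀ g, χ₂.1 (g ^ k) = χ₂.1 g)
    (h1 : ∀ n : ↥N, χ₁.1 n = φ.1 n) (h2 : ∀ n : ↥N, χ₂.1 n = φ.1 n) : χ₁ = χ₂ := by
  classical
  let _ : Fintype G := Fintype.ofFinite G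
  let _ : Fintype ↥N := Fintype.ofFinite ↥N
  have := finite_irr (G := G)
  let _ : Fintype (IrrCharacter G) := Fintype.ofFinite _
  have := finite_irr (G := ↥N)
  let _ : Fintype (IrrCharacter ↥N) := Fintype.ofFinite _
  have key : ∀ χ : IrrCharacter G, (∀ n : ↥N, χ.1 n = φ.1 n) → multC (res N χ.1) φ ≠ 0 := by
    intro χ h
    have h3 : res N χ.1 = φ.1 := funext h
    rw [h3, multC_irr, if_pos rfl]
    exact one_ne_zero
  exact unique_fixed_over N hodd k hk hinv φ χ₁ χ₂ hr1 hr2 (key χ₁ h1) (key χ₂ h2)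

/-- An invariant irreducible character of a normal subgroup of odd index, fixed by a power map
inverting the elements of odd order, extends to the whole group. -/
theorem exists_ext_aux (k : ℕ) : ∀ (m : ℕ) (G : Type u) [Group G] [Finite G] (N : Subgroup G)
    [hN : N.Normal], N.index = m → Odd N.index → k.Coprime (Nat.card G) →
    (∀ g : G, Odd (orderOf g) → g ^ k = g⁻¹) →
    ∀ θ : IrrCharacter ↥N, (∀ n : ↥N, θ.1 (n ^ k) = θ.1 n) →
    (∀ (g : G) (n : ↥N), θ.1 ⟨g * n * g⁻¹, hN.conj_mem n n.2 g⟩ = θ.1 n) →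
    ∃ χ : IrrCharacter G, ∀ n : ↥N, χ.1 n = θ.1 n := by
  intro m
  induction m using Nat.strong_induction_on with
  | _ m ih =>
  intro G _ _ N hN hm hodd hk hinv θ hθ hθinv
  classical
  -- extension to proper intermediate subgroups
  have hsub : ∀ (H : Subgroup G) (hNH : N ≤ H), H ≠ ⊤ →
      ∃ ψ : IrrCharacter ↥H, ∀ x : ↥(N.subgroupOf H), ψ.1 x = (subChar hNH θ).1 x := by
    intro H hNH hne
    obtain ⟨ho, hkH, hinvH⟩ := sub_hyps hNH k hodd hk hinv
    have h1 : N.relIndex H * H.index = N.index := Subgroup.relIndex_mul_index hNH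
    have h2 : H.index ≠ 1 := fun h => hne (Subgroup.index_eq_one.mp h)
    have h3 : H.index ≠ 0 := Subgroup.index_ne_zero_of_finite
    have h4 : (N.subgroupOf H).index < m := by
      show N.relIndex H < m
      rw [← hm, ← h1]
      have h5 : N.relIndex H ≠ 0 := by
        intro h0
        rw [h0, zero_mul] at h1
        exact Subgroup.index_ne_zero_of_finite h1.symm
      have h6 : 2 ≤ H.index := by omega
      calc N.relIndex H < N.relIndex H * 2 := by omega
        _ ≤ N.relIndex H * H.index := Nat.mul_le_mul_left _ h6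
    exact ih _ h4 ↥H (N.subgroupOf H) rfl ho hkH hinvH (subChar hNH θ)
      (subChar_fixed hNH k θ hθ) (fun h x => subChar_inv hNH θ hθinv h x _)
  by_cases htop : N = ⊤
  · let f : G →* ↥N :=
      { toFun := fun g => ⟨g, by rw [htop]; exact Subgroup.mem_top g⟩
        map_one' := rfl
        map_mul' := fun _ _ => rfl }
    have hf : Function.Surjective f := fun n => ⟨n, Subtype.ext rfl⟩
    refine ⟨⟨fun g => θ.1 (f g), isIrrCharacter_comp θ.2 f hf⟩, fun n => ?_⟩
    show θ.1 (f n) = θ.1 n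
    congr 1
  by_cases hpg : ∃ p : ℕ, p.Prime ∧ IsPGroup p (G ⧸ N)
  · obtain ⟨p, hp, hQ⟩ := hpg
    have : Fact p.Prime := ⟨hp⟩
    obtain ⟨n, hn⟩ := IsPGroup.iff_card.mp hQ
    have hn0 : n ≠ 0 := by
      intro h0
      rw [h0, pow_zero, ← Subgroup.index_eq_card, Subgroup.index_eq_one] at hn
      exact htop hn
    obtain ⟨K, hK⟩ := Sylow.exists_subgroup_card_pow_prime (G := G ⧸ N) p
      (n := n - 1) (by rw [hn]; exact pow_dvd_pow p (Nat.sub_le n 1))
    have hKidx : K.index = p := by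
      have h1 := K.card_mul_index
      rw [hK, hn] at h1
      have h2 : p ^ n = p ^ (n - 1) * p := by
        rw [← pow_succ, Nat.sub_add_cancel (Nat.one_le_iff_ne_zero.mpr hn0)]
      rw [h2] at h1
      exact Nat.eq_of_mul_eq_mul_left (pow_pos hp.pos _) h1
    have hKn : K.Normal := by
      apply Subgroup.normal_of_index_eq_minFac_card
      rw [hKidx, hn, hp.pow_minFac hn0]
    let H : Subgroup G := K.comap (QuotientGroup.mk' N)
    have hH : H.Normal := Subgroup.Normal.comap hKn _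
    have hHidx : H.index = p := by
      rw [← hKidx]
      exact Subgroup.index_comap_of_surjective K (QuotientGroup.mk'_surjective N)
    have hNH : N ≤ H := by
      intro x hx
      show QuotientGroup.mk' N x ∈ K
      have h1 : QuotientGroup.mk' N x = 1 := (QuotientGroup.eq_one_iff x).mpr hx
      rw [h1]
      exact Subgroup.one_mem K
    have hHne : H ≠ ⊤ := by
      intro h
      rw [← Subgroup.index_eq_one, hHidx] at h
      exact hp.one_lt.ne' h
    obtain ⟨ψ₀, hψ₀⟩ := hsub H hNH hHne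
    obtain ⟨ho, hkH, hinvH⟩ := sub_hyps hNH k hodd hk hinv
    obtain ⟨ψ₁, hψ₁, hψ₁fix⟩ := exists_fixed_ext (N.subgroupOf H) ho k hkH hinvH
      (subChar hNH θ) (subChar_fixed hNH k θ hθ) ψ₀ hψ₀
    -- invariance of the fixed extension
    have hinvψ : ∀ (g : G) (h : ↥H), ψ₁.1 ⟨g * h * g⁻¹, hH.conj_mem (h : G) h.2 g⟩ = ψ₁.1 h := by
      intro g h
      let ψ' : IrrCharacter ↥H := ⟨fun y => ψ₁.1 ((MulAut.conjNormal g : ↥H ≃* ↥H) y),
        isIrrCharacter_comp ψ₁.2 (MulAut.conjNormal g : ↥H ≃* ↥H).toMonoidHom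
          (MulEquiv.surjective _)⟩
      have hψ'fix : ∀ y : ↥H, ψ'.1 (y ^ k) = ψ'.1 y := by
        intro y
        show ψ₁.1 ((MulAut.conjNormal g : ↥H ≃* ↥H) (y ^ k)) =
          ψ₁.1 ((MulAut.conjNormal g : ↥H ≃* ↥H) y)
        rw [map_pow, hψ₁fix]
      have hψ'ext : ∀ x : ↥(N.subgroupOf H), ψ'.1 x = (subChar hNH θ).1 x := by
        intro x
        have hmem : (MulAut.conjNormal g : ↥H ≃* ↥H) (x : ↥H) ∈ N.subgroupOf H := by
          rw [Subgroup.mem_subgroupOf, MulAut.conjNormal_apply]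
          exact hN.conj_mem _ (Subgroup.mem_subgroupOf.mp x.2) g
        have h1 := hψ₁ ⟨(MulAut.conjNormal g : ↥H ≃* ↥H) (x : ↥H), hmem⟩
        show ψ₁.1 ((MulAut.conjNormal g : ↥H ≃* ↥H) (x : ↥H)) = (subChar hNH θ).1 x
        rw [h1, subChar_apply, subChar_apply, ← hθinv g (Subgroup.subgroupOfEquivOfLe hNH x)]
        congr 1
      have heq : ψ' = ψ₁ := unique_fixed_ext (N.subgroupOf H) ho k hkH hinvH (subChar hNH θ)
        ψ' ψ₁ hψ'fix hψ₁fix hψ'ext hψ₁
      have h2 := congrFun (congrArg Subtype.val heq) h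
      rw [← h2]
      show ψ₁.1 _ = ψ₁.1 ((MulAut.conjNormal g : ↥H ≃* ↥H) h)
      congr 1
    have hcyc : IsCyclic (G ⧸ H) := by
      apply isCyclic_of_prime_card (p := p)
      rw [← Subgroup.index_eq_card, hHidx]
    obtain ⟨χ, hχirr, hχ⟩ := Cfsg.Agent.S0886.result H hcyc ψ₁.1 ψ₁.2 hinvψ
    refine ⟨⟨χ, hχirr⟩, fun n => ?_⟩
    have h1 := hχ ⟨(n : G), hNH n.2⟩
    have h2 := hψ₁ ⟨⟨(n : G), hNH n.2⟩, Subgroup.mem_subgroupOf.mpr n.2⟩
    show χ (n : G) = θ.1 n
    rw [h1, h2, subChar_apply]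
    congr 1
  · -- Sylow overgroups
    have hsyl : ∀ p : ℕ, p.Prime → ∃ (P : Subgroup G) (hNP : N ≤ P) (η : ↥P → ℂ),
        Nat.Coprime P.index p ∧ IsIrrCharacter ↥P η ∧
          ∀ n : ↥N, η ⟨(n : G), hNP n.2⟩ = θ.1 n := by
      intro p hp
      have : Fact p.Prime := ⟨hp⟩
      obtain ⟨S⟩ : Nonempty (Sylow p (G ⧸ N)) := inferInstance
      let P : Subgroup G := (S : Subgroup (G ⧸ N)).comap (QuotientGroup.mk' N)
      have hNP : N ≤ P := by
        intro x hx
        show QuotientGroup.mk' N x ∈ (S : Subgroup (G ⧸ N))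
        have h1 : QuotientGroup.mk' N x = 1 := (QuotientGroup.eq_one_iff x).mpr hx
        rw [h1]
        exact Subgroup.one_mem _
      have hidx : P.index = (S : Subgroup (G ⧸ N)).index :=
        Subgroup.index_comap_of_surjective _ (QuotientGroup.mk'_surjective N)
      have hcop : Nat.Coprime P.index p := by
        rw [hidx, Nat.coprime_comm, hp.coprime_iff_not_dvd]
        exact S.not_dvd_index
      have hPne : P ≠ ⊤ := by
        intro hP
        apply hpg
        refine ⟨p, hp, ?_⟩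
        intro q
        obtain ⟨g, rfl⟩ := QuotientGroup.mk'_surjective N q
        have hg : g ∈ P := by rw [hP]; exact Subgroup.mem_top g
        have hg' : QuotientGroup.mk' N g ∈ (S : Subgroup (G ⧸ N)) := hg
        obtain ⟨j, hj⟩ := S.isPGroup' ⟨QuotientGroup.mk' N g, hg'⟩
        exact ⟨j, congrArg Subtype.val hj⟩
      obtain ⟨ψ, hψ⟩ := hsub P hNP hPne
      refine ⟨P, hNP, ψ.1, hcop, ψ.2, fun n => ?_⟩
      have h2 := hψ ⟨⟨(n : G), hNP n.2⟩, Subgroup.mem_subgroupOf.mpr n.2⟩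
      rw [subChar_apply] at h2
      rw [h2]
      congr 1
    obtain ⟨d, σ, hirr, hσ⟩ := θ.2
    have := hirr
    rw [← hσ] at hsyl hθinv
    obtain ⟨χ, hχirr, hχ⟩ := Cfsg.Agent.Lib.Helper78.ProjExt.exists_extension_of_sylow N σ
      hθinv hsyl
    refine ⟨⟨χ, hχirr⟩, fun n => ?_⟩
    show χ (n : G) = θ.1 n
    rw [hχ n, hσ]

/-- An invariant irreducible character of a normal subgroup of odd index, fixed by a power map
inverting the elements of odd order, has an extension fixed by the power map. -/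
theorem exists_fixed_extension {G : Type u} [Group G] [Finite G] (N : Subgroup G)
    [hN : N.Normal] (hodd : Odd N.index) (k : ℕ) (hk : k.Coprime (Nat.card G))
    (hinv : ∀ g : G, Odd (orderOf g) → g ^ k = g⁻¹)
    (θ : IrrCharacter ↥N) (hθ : ∀ n : ↥N, θ.1 (n ^ k) = θ.1 n)
    (hθinv : ∀ (g : G) (n : ↥N), θ.1 ⟨g * n * g⁻¹, hN.conj_mem n n.2 g⟩ = θ.1 n) :
    ∃ χ : IrrCharacter G, (∀ n : ↥N, χ.1 n = θ.1 n) ∧ ∀ g : G, χ.1 (g ^ k) = χ.1 g := by
  obtain ⟨χ₀, h₀⟩ := exists_ext_aux k N.index G N rfl hodd hk hinv θ hθ hθinv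
  exact exists_fixed_ext N hodd k hk hinv θ hθ χ₀ h₀

end Cfsg.Agent.Lib.Helper82.OddGalExt
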