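import Mathlib
import Cfsg.Agent.Lib.Helper44.BCStmt
import Cfsg.Agent.Lib.Helper42.SpOrdD

/-!
# S2362 piece PSPELT (helper82)

`PSp(2n, q)`, `q` odd, `n ≥ 3`, has an element of order `p * (q ^ (n-1) + 1)`: the image of
`blk U X` with `U` a transvection of `Sp_2` and `X` of order `q ^ (n-1) + 1` in `Sp_{2n-2}`.
-/

set_option autoImplicit false

namespace Cfsg.Agent.Lib.Helper82.BCPSPELT

open Matrix
open Cfsg.Agent.Lib.Helper44.BCStmt
open Cfsg.Agent.Lib.Helper42.SpOrdC Cfsg.Agent.Lib.Helper42.SpOrdD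
open Cfsg.Agent.Lib.Helper43.SpBasic
open Cfsg.Agent.Lib.Helper13.SympMat

universe u

section
variable {F : Type u} [Field F]

/-- the basic unipotent element of `Sp_2` -/
noncomputable def U0 : Matrix.symplecticGroup (Fin 1) F := t (e (0 : Fin 1)) 1

theorem U0_pow_scalar (p : ℕ) [CharP F p] (j : ℕ) (c : F)
    (h : ((U0 : Matrix.symplecticGroup (Fin 1) F) :
      Matrix (Fin 1 ⊕ Fin 1) (Fin 1 ⊕ Fin 1) F) ^ j = c • 1) :
    c = 1 ∧ p ∣ j := by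
  have h1 : ((U0 ^ j : Matrix.symplecticGroup (Fin 1) F) :
      Matrix (Fin 1 ⊕ Fin 1) (Fin 1 ⊕ Fin 1) F) = c • 1 := by
    rw [SubmonoidClass.coe_pow]; exact h
  unfold U0 at h1
  rw [t_pow, mul_one] at h1
  have h2 : ((t (e (0 : Fin 1)) (j : F) : Matrix.symplecticGroup (Fin 1) F) :
      Matrix (Fin 1 ⊕ Fin 1) (Fin 1 ⊕ Fin 1) F) *ᵥ (e (0 : Fin 1)) =
      (c • (1 : Matrix (Fin 1 ⊕ Fin 1) (Fin 1 ⊕ Fin 1) F)) *ᵥ (e (0 : Fin 1)) := by rw [h1]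
  rw [t_mulVec, form_self, mul_zero, zero_smul, add_zero, Matrix.smul_mulVec,
    Matrix.one_mulVec] at h2
  have hc : c = 1 := by
    have h3 := congrFun h2 (Sum.inl 0)
    rw [Pi.smul_apply, e_apply_inl, if_pos rfl, smul_eq_mul, mul_one] at h3
    exact h3.symm
  refine ⟨hc, ?_⟩
  rw [hc, one_smul] at h1
  have h3 : (((t (e (0 : Fin 1)) (j : F) : Matrix.symplecticGroup (Fin 1) F) :
      Matrix (Fin 1 ⊕ Fin 1) (Fin 1 ⊕ Fin 1) F) *ᵥ (f (0 : Fin 1))) (Sum.inl 0) =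
      ((1 : Matrix (Fin 1 ⊕ Fin 1) (Fin 1 ⊕ Fin 1) F) *ᵥ (f (0 : Fin 1))) (Sum.inl 0) := by
    rw [h1]
  rw [t_mulVec, form_e_right, f_apply_inr, if_pos rfl, mul_one, Matrix.one_mulVec, Pi.add_apply,
    Pi.smul_apply, f_apply_inl, e_apply_inl, if_pos rfl, zero_add, smul_eq_mul, mul_one] at h3
  exact (CharP.cast_eq_zero_iff F p j).mp h3

theorem U0_pow_of_dvd (p : ℕ) [CharP F p] (j : ℕ) (h : p ∣ j) :
    ((U0 : Matrix.symplecticGroup (Fin 1) F) :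
      Matrix (Fin 1 ⊕ Fin 1) (Fin 1 ⊕ Fin 1) F) ^ j = 1 := by
  have h1 : (U0 : Matrix.symplecticGroup (Fin 1) F) ^ j = 1 := by
    unfold U0
    rw [t_pow, mul_one, (CharP.cast_eq_zero_iff F p j).mpr h, t_zero]
  exact (sp_pow_eq_one_iff _ j).mp h1

end

theorem main : PspElt.{u} := by
  intro F _ _ p _ _ hp2 n hn
  obtain ⟨m, rfl⟩ : ∃ m, n = 1 + m := ⟨n - 1, by omega⟩
  have hm : 2 ≤ m := by omega
  rw [Nat.add_sub_cancel_left]
  have hp : p.Prime := Fact.out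
  have h2 : (2 : F) ≠ 0 := by
    intro h
    have h1 : ((2 : ℕ) : F) = 0 := by exact_mod_cast h
    have h3 := (CharP.cast_eq_zero_iff F p 2).mp h1
    exact hp2 ((Nat.prime_dvd_prime_iff_eq hp Nat.prime_two).mp h3)
  have hq : 1 < Fintype.card F := Fintype.one_lt_card
  have hqm : 1 < Fintype.card F ^ m := Nat.one_lt_pow (by omega) hq
  obtain ⟨X, hX⟩ := torus_plus_n (F := F) (n := m) p (by omega) h2 (Fintype.card F ^ m + 1)
    dvd_rfl (by omega)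
  have hpq : p ∣ Fintype.card F := by
    have h1 : ((Fintype.card F : ℕ) : F) = 0 := Nat.cast_card_eq_zero F
    exact (CharP.cast_eq_zero_iff F p _).mp h1
  have hcop : Nat.Coprime p (Fintype.card F ^ m + 1) := by
    rw [Nat.Prime.coprime_iff_not_dvd hp]
    intro h
    have h1 : p ∣ Fintype.card F ^ m := dvd_pow hpq (by omega)
    have h3 : p ∣ 1 := (Nat.dvd_add_right h1).mp h
    exact hp.one_lt.ne' (Nat.dvd_one.mp h3)
  have hXj : ∀ j : ℕ, (X : Matrix (Fin m ⊕ Fin m) (Fin m ⊕ Fin m) F) ^ j = 1 ↔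
      (Fintype.card F ^ m + 1) ∣ j := by
    intro j
    rw [← sp_pow_eq_one_iff, ← hX, orderOf_dvd_iff_pow_eq_one]
  refine ⟨pr ⟨blk (U0 : Matrix.symplecticGroup (Fin 1) F).1 X.1, blk_mem _ _ U0.2 X.2⟩, ?_⟩
  apply orderOf_eq_of_pow_iff
  intro j
  rw [pr_pow_eq_one_iff (by omega)]
  show (∃ c : F, c * c = 1 ∧ blk (U0 : Matrix.symplecticGroup (Fin 1) F).1 X.1 ^ j = c • 1) ↔ _
  rw [blk_pow]
  constructor
  · rintro ⟨c, -, hc⟩
    rw [← blk_one, ← blk_smul] at hc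
    obtain ⟨h1, h3⟩ := blk_inj _ _ _ _ hc
    obtain ⟨hc1, hpj⟩ := U0_pow_scalar p j c h1
    rw [hc1, one_smul] at h3
    exact Nat.Coprime.mul_dvd_of_dvd_of_dvd hcop hpj ((hXj j).mp h3)
  · intro h
    refine ⟨1, one_mul 1, ?_⟩
    rw [U0_pow_of_dvd p j ((dvd_mul_right _ _).trans h),
      (hXj j).mpr ((dvd_mul_left _ _).trans h), blk_one, one_smul]

end Cfsg.Agent.Lib.Helper82.BCPSPELT
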