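import Mathlib
import Cfsg.Agent.Lib.Helper88.CEStmt
import Cfsg.Agent.Lib.Helper88.FSBase
import Cfsg.Agent.H85.FullyNorm
import Cfsg.Agent.H85.Sat

/-!
# S5127 piece JEXT (helper82)

For `P` `E`-centric and fully normalized in `E`, every `κ ∈ K_X(P)` extends to an element of
`Aut_F(N_T(P) X)`: KCONJS gives `χ` on `N_S(P X)` and `h ∈ S` with `χ κ = c_h χ` on `P X`; `h`
centralizes `χ(P)`, so it normalizes `N_T(χ(P)) = χ(N_T(P))` (JCARD) and `χ(P X)`, hence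
`χ(N_T(P) X)`; the extension is `χ⁻¹ c_h χ`.
-/

set_option autoImplicit false

namespace Cfsg.Agent.Lib.Helper82.CEJEXT

open Cfsg Cfsg.FusionSystem Cfsg.Agent.Lib.Helper88.CEStmt Cfsg.Agent.Lib.Helper88.FCStmt
open Cfsg.Agent.Lib.Helper88

universe u

/-- the elements of the join of two commuting subgroups are products -/
theorem mem_sup_comm {G : Type u} [Group G] (A B : Subgroup G)
    (hcomm : ∀ a ∈ A, ∀ b ∈ B, a * b = b * a) {y : G} (hy : y ∈ A ⊔ B) :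
    ∃ a ∈ A, ∃ b ∈ B, y = a * b := by
  let M : Subgroup G :=
    { carrier := {y | ∃ a ∈ A, ∃ b ∈ B, y = a * b}
      one_mem' := ⟨1, A.one_mem, 1, B.one_mem, by simp⟩
      mul_mem' := by
        rintro _ _ ⟨x, hx, c, hc, rfl⟩ ⟨x', hx', c', hc', rfl⟩
        refine ⟨x * x', A.mul_mem hx hx', c * c', B.mul_mem hc hc', ?_⟩
        have e := hcomm x' hx' c hc
        calc x * c * (x' * c') = x * (c * x') * c' := by group
          _ = x * (x' * c) * c' := by rw [e]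
          _ = x * x' * (c * c') := by group
      inv_mem' := by
        rintro _ ⟨x, hx, c, hc, rfl⟩
        refine ⟨x⁻¹, A.inv_mem hx, c⁻¹, B.inv_mem hc, ?_⟩
        have e := hcomm x⁻¹ (A.inv_mem hx) c⁻¹ (B.inv_mem hc)
        rw [mul_inv_rev, e] }
  have hle : A ⊔ B ≤ M :=
    sup_le (fun x hx => ⟨x, hx, 1, B.one_mem, by simp⟩)
      (fun c hc => ⟨1, A.one_mem, c, hc, by simp⟩)
  exact hle hy

theorem main (hK : KConjS.{u}) (hC : JCard.{u}) (hM : KMem.{u}) : JExt.{u} := by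
  intro Ω _ S _ p _ hS F hF T E hE P hPc hfn X hX κ hκ
  obtain ⟨⟨-, -, hInv⟩, -⟩ := hE
  have hT : F.StronglyClosed T := hInv.2.1
  have hTS : T ≤ S := hT.1
  have hPT : P ≤ T := hPc.1
  have hcen : centralizerIn T P ≤ P := hPc.2 P (H85.isConj_refl E hPT)
  have hXS : X ≤ S := fun x hx => (hX hx).1
  have hcomm : ∀ t ∈ T, ∀ c ∈ X, t * c = c * t := fun t ht c hc =>
    Subgroup.mem_centralizer_iff.mp (hX hc).2 t ht
  have hPXc : ∀ a ∈ P, ∀ b ∈ X, a * b = b * a := fun a ha b hb => hcomm a (hPT ha) b hb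
  have hRS : P ⊔ X ≤ S := sup_le (hPT.trans hTS) hXS
  have hNT : normalizerIn T P ≤ T := inf_le_left
  have hPN : P ≤ normalizerIn T P := fun u hu => ⟨hPT hu, Subgroup.le_normalizer hu⟩
  have hR₁S : normalizerIn T P ⊔ X ≤ S := sup_le (hNT.trans hTS) hXS
  have hRR₁ : P ⊔ X ≤ normalizerIn T P ⊔ X := sup_le_sup_right hPN X
  have hfinR₁ : Finite ↥(normalizerIn T P ⊔ X) := H85.finite_of_le hR₁S
  -- `(P X) ∩ T = P`
  have hRT : ∀ y ∈ P ⊔ X, y ∈ T → y ∈ P := by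
    intro y hy hyT
    obtain ⟨a, ha, b, hb, rfl⟩ := mem_sup_comm P X hPXc hy
    have hbT : b ∈ T := by
      have e : b = a⁻¹ * (a * b) := by group
      rw [e]
      exact T.mul_mem (T.inv_mem (hPT ha)) hyT
    have hbP : b ∈ P :=
      hcen ⟨hbT, Subgroup.mem_centralizer_iff.mpr (fun u hu => hcomm u (hPT hu) b hb)⟩
    exact P.mul_mem ha hbP
  obtain ⟨hκF, hκP, hκT⟩ := hκ
  -- the displacements lie in `Z(P)`
  have hdisp : ∀ y : ↥(P ⊔ X), (y : Ω)⁻¹ * ((κ y : ↥(P ⊔ X)) : Ω) ∈ P ∧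
      ∀ u ∈ P, u * ((y : Ω)⁻¹ * ((κ y : ↥(P ⊔ X)) : Ω)) =
        (y : Ω)⁻¹ * ((κ y : ↥(P ⊔ X)) : Ω) * u := by
    intro y
    obtain ⟨a, ha, b, hb, hab⟩ := mem_sup_comm P X hPXc y.2
    have hy : y = (⟨a, Subgroup.mem_sup_left ha⟩ : ↥(P ⊔ X)) *
        ⟨b, Subgroup.mem_sup_right hb⟩ := Subtype.ext hab
    have h1 := hM F T hTS P hPT hcen X hX κ ⟨hκF, hκP, hκT⟩ ⟨b, Subgroup.mem_sup_right hb⟩ hb
    have h2 : (y : Ω)⁻¹ * ((κ y : ↥(P ⊔ X)) : Ω) =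
        b⁻¹ * ((κ ⟨b, Subgroup.mem_sup_right hb⟩ : ↥(P ⊔ X)) : Ω) := by
      rw [hy, map_mul, hκP ⟨a, Subgroup.mem_sup_left ha⟩ ha]
      show (a * b)⁻¹ * (a * ((κ ⟨b, Subgroup.mem_sup_right hb⟩ : ↥(P ⊔ X)) : Ω)) = _
      group
    rw [h2]
    exact h1
  obtain ⟨χ, hχ, h, hhS, hχκ⟩ := hK p hS F hF T hT (P ⊔ X) hRS κ hκF
    (fun x hx => hκP x (hRT x x.2 hx))
    (fun y => ⟨hPT (hdisp y).1, fun x hx => ((hdisp y).2 x (hRT x x.2 hx)).symm⟩)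
  -- `N_T(P) X ≤ N_S(P X)`
  have hR₁NS : normalizerIn T P ⊔ X ≤ normalizerIn S (P ⊔ X) := by
    refine sup_le ?_ ?_
    · intro k hk
      refine ⟨hTS hk.1, ?_⟩
      have key : ∀ g ∈ normalizerIn T P, ∀ y ∈ P ⊔ X, g * y * g⁻¹ ∈ P ⊔ X := by
        intro g hg y hy
        obtain ⟨a, ha, b, hb, rfl⟩ := mem_sup_comm P X hPXc hy
        have e : g * (a * b) * g⁻¹ = (g * a * g⁻¹) * b := by
          have e1 := hcomm g⁻¹ (T.inv_mem hg.1) b hb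
          calc g * (a * b) * g⁻¹ = g * a * (b * g⁻¹) := by group
            _ = g * a * (g⁻¹ * b) := by rw [e1]
            _ = (g * a * g⁻¹) * b := by group
        rw [e]
        exact Subgroup.mul_mem _
          (Subgroup.mem_sup_left ((Subgroup.mem_normalizer_iff.mp hg.2 a).mp ha))
          (Subgroup.mem_sup_right hb)
      refine H85.mem_normalizer_of_forall (key k hk) (fun y hy => ?_)
      have h1 := key k⁻¹ (Subgroup.inv_mem _ hk) y hy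
      rwa [inv_inv] at h1
    · intro c hc
      exact ⟨hXS hc, Subgroup.le_normalizer (Subgroup.mem_sup_right hc)⟩
  have hRNS : P ⊔ X ≤ normalizerIn S (P ⊔ X) := hRR₁.trans hR₁NS
  have hPNS : P ≤ normalizerIn S (P ⊔ X) := le_sup_left.trans hRNS
  have hNNS : normalizerIn T P ≤ normalizerIn S (P ⊔ X) := le_sup_left.trans hR₁NS
  -- the restrictions of `χ`
  obtain ⟨χR, hχRdef⟩ : ∃ χR : ↥(P ⊔ X) →* Ω, χR = χ.comp (Subgroup.inclusion hRNS) := ⟨_, rfl⟩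
  obtain ⟨ψ, hψdef⟩ : ∃ ψ : P →* Ω, ψ = χ.comp (Subgroup.inclusion hPNS) := ⟨_, rfl⟩
  obtain ⟨χN, hχNdef⟩ : ∃ χN : ↥(normalizerIn T P) →* Ω,
      χN = χ.comp (Subgroup.inclusion hNNS) := ⟨_, rfl⟩
  obtain ⟨χ₁, hχ₁def⟩ : ∃ χ₁ : ↥(normalizerIn T P ⊔ X) →* Ω,
      χ₁ = χ.comp (Subgroup.inclusion hR₁NS) := ⟨_, rfl⟩
  have hψ : ψ ∈ F.Hom P := by rw [hψdef]; exact FSBase.restrict_mem F hPNS hχ
  have hχN : χN ∈ F.Hom (normalizerIn T P) := by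
    rw [hχNdef]; exact FSBase.restrict_mem F hNNS hχ
  have hχ₁ : χ₁ ∈ F.Hom (normalizerIn T P ⊔ X) := by
    rw [hχ₁def]; exact FSBase.restrict_mem F hR₁NS hχ
  have hχκ' : ∀ y : ↥(P ⊔ X), χR (κ y) = h * χR y * h⁻¹ := by
    intro y
    rw [hχRdef]
    exact hχκ y (hRNS y.2) (hRNS (κ y).2)
  have hψR : ∀ u : P, ψ u = χR (Subgroup.inclusion (le_sup_left : P ≤ P ⊔ X) u) := by
    intro u; rw [hψdef, hχRdef]; rfl
  have hψN : ∀ u : P, ψ u = χN (Subgroup.inclusion hPN u) := by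
    intro u; rw [hψdef, hχNdef]; rfl
  have h1N : ∀ n : ↥(normalizerIn T P),
      χ₁ (Subgroup.inclusion (le_sup_left : normalizerIn T P ≤ normalizerIn T P ⊔ X) n) =
        χN n := by
    intro n; rw [hχ₁def, hχNdef]; rfl
  have h1R : ∀ y : ↥(P ⊔ X), χ₁ (Subgroup.inclusion hRR₁ y) = χR y := by
    intro y; rw [hχ₁def, hχRdef]; rfl
  -- `χ(N_T(P)) ≤ N_T(χ(P))`
  have hχN_le : χN.range ≤ normalizerIn T ψ.range := by
    rintro _ ⟨w, rfl⟩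
    refine ⟨hT.2 _ hNT χN hχN w, ?_⟩
    have key : ∀ w : ↥(normalizerIn T P), ∀ y ∈ ψ.range, χN w * y * (χN w)⁻¹ ∈ ψ.range := by
      rintro w _ ⟨u, rfl⟩
      have hu' : (w : Ω) * u * (w : Ω)⁻¹ ∈ P :=
        (Subgroup.mem_normalizer_iff.mp w.2.2 u).mp u.2
      refine ⟨⟨_, hu'⟩, ?_⟩
      rw [hψN, hψN, ← map_inv, ← map_mul, ← map_mul]
      exact congrArg χN (Subtype.ext rfl)
    refine H85.mem_normalizer_of_forall (key w) (fun y hy => ?_)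
    have h1 := key w⁻¹ y hy
    rwa [map_inv, inv_inv] at h1
  have hcard : Nat.card (normalizerIn T ψ.range) ≤ Nat.card (normalizerIn T P) :=
    hC F E hInv P hfn ψ hψ
  have hcardχN : Nat.card χN.range = Nat.card (normalizerIn T P) :=
    (Nat.card_congr (MonoidHom.ofInjective (F.injective_of_mem hχN)).toEquiv).symm
  have hfinN' : Finite ↥(normalizerIn T ψ.range) :=
    H85.finite_of_le ((inf_le_left : normalizerIn T ψ.range ≤ T).trans hTS)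
  have hNeq : χN.range = normalizerIn T ψ.range :=
    Subgroup.eq_of_le_of_card_ge hχN_le (by rw [hcardχN]; exact hcard)
  -- `h` normalizes `N_T(χ(P))`
  have hhT : ∀ t ∈ T, h * t * h⁻¹ ∈ T := by
    intro t ht
    exact hT.2 T le_rfl (conjHom T h) (F.conj_mem hTS hhS) ⟨t, ht⟩
  have hhcent : ∀ y ∈ ψ.range, h * y * h⁻¹ = y := by
    rintro _ ⟨u, rfl⟩
    have h1 := hχκ' (Subgroup.inclusion (le_sup_left : P ≤ P ⊔ X) u)
    rw [hκP _ u.2] at h1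
    rw [hψR]
    exact h1.symm
  have hhnorm : h ∈ Subgroup.normalizer (ψ.range : Set Ω) := by
    refine H85.mem_normalizer_of_forall (fun y hy => by rw [hhcent y hy]; exact hy)
      (fun y hy => ?_)
    have h1 := hhcent y hy
    have h2 : h⁻¹ * y * h = y := by
      calc h⁻¹ * y * h = h⁻¹ * (h * y * h⁻¹) * h := by rw [h1]
        _ = y := by group
    rw [h2]
    exact hy
  have hhN' : ∀ n ∈ normalizerIn T ψ.range, h * n * h⁻¹ ∈ normalizerIn T ψ.range := by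
    intro n hn
    exact ⟨hhT n hn.1,
      Subgroup.mul_mem _ (Subgroup.mul_mem _ hhnorm hn.2) (Subgroup.inv_mem _ hhnorm)⟩
  -- `h` normalizes `χ(N_T(P) X)`
  have hstab : ∀ w : ↥(normalizerIn T P ⊔ X), h * χ₁ w * h⁻¹ ∈ χ₁.range := by
    have h0 := H85.sup_all (P := normalizerIn T P) (Q := X)
      (χ₁.range.comap ((MulAut.conj h).toMonoidHom.comp χ₁)) ?_ ?_
    · intro w
      exact h0 w
    · intro n
      show h * χ₁ (Subgroup.inclusion le_sup_left n) * h⁻¹ ∈ χ₁.range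
      rw [h1N]
      have h2 : χN n ∈ normalizerIn T ψ.range := hχN_le ⟨n, rfl⟩
      have h3 := hhN' _ h2
      rw [← hNeq] at h3
      obtain ⟨n', hn'⟩ := h3
      refine ⟨Subgroup.inclusion le_sup_left n', ?_⟩
      rw [h1N]
      exact hn'
    · intro c
      show h * χ₁ (Subgroup.inclusion le_sup_right c) * h⁻¹ ∈ χ₁.range
      have h1 : χ₁ (Subgroup.inclusion (le_sup_right : X ≤ normalizerIn T P ⊔ X) c) =
          χR (Subgroup.inclusion (le_sup_right : X ≤ P ⊔ X) c) :=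
        h1R (Subgroup.inclusion (le_sup_right : X ≤ P ⊔ X) c)
      rw [h1, ← hχκ', ← h1R]
      exact ⟨_, rfl⟩
  -- the extension
  have hQ₁S : χ₁.range ≤ S := FSBase.range_le F hχ₁
  obtain ⟨ρ, hρ, hρχ, hρr⟩ := FSBase.inv_mem' F hχ₁ (rfl : χ₁.range = χ₁.range)
  have hconj : conjHom χ₁.range h ∈ F.Hom χ₁.range := F.conj_mem hQ₁S hhS
  obtain ⟨θ₁, hθ₁, hθ₁x⟩ := FSBase.comp_mem' F hχ₁ hconj (fun x => ⟨x, rfl⟩)
  have hθ₁v : ∀ x, θ₁ x = h * χ₁ x * h⁻¹ := fun x => hθ₁x x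
  have hθ₁Q : ∀ x, θ₁ x ∈ χ₁.range := fun x => by rw [hθ₁v]; exact hstab x
  obtain ⟨θ₂, hθ₂, hθ₂x⟩ := FSBase.comp_mem' F hθ₁ hρ hθ₁Q
  have hθ₂v : ∀ x, θ₂ x ∈ normalizerIn T P ⊔ X := by
    intro x
    rw [hθ₂x]
    have h1 : ρ ⟨θ₁ x, hθ₁Q x⟩ ∈ ρ.range := ⟨_, rfl⟩
    rwa [hρr] at h1
  have hθ₂r := FSBase.range_eq_of_finite F hθ₂ hθ₂v
  obtain ⟨α, hα, hαx⟩ := FSBase.exists_aut_of_mem F hθ₂ hθ₂r
  refine ⟨α, hα, fun u hu => ?_⟩
  rw [hαx, hθ₂x]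
  have h1 : θ₁ ⟨u, hu⟩ = χ₁ (Subgroup.inclusion hRR₁ (κ u)) := by
    rw [hθ₁v, h1R, hχκ', ← h1R]
    rfl
  have key : ∀ (a b : Ω) (ha : a ∈ χ₁.range) (hb : b ∈ χ₁.range), a = b →
      ρ ⟨a, ha⟩ = ρ ⟨b, hb⟩ := by
    intro a b ha hb hab
    subst hab
    rfl
  rw [key _ _ (hθ₁Q ⟨u, hu⟩) ⟨_, rfl⟩ h1]
  exact hρχ _ _

end Cfsg.Agent.Lib.Helper82.CEJEXT
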