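import Mathlib
import Cfsg.Agent.Lib.Helper88.CESStmt
import Cfsg.Agent.Lib.Helper88.WNStmt
import Cfsg.Agent.Lib.Helper88.FSBase
import Cfsg.Agent.Lib.Helper87.FSSat

/-!
# S5127 piece MU (helper82)

Let `X` centralize `E`, `R' = φ(X)` an `F`-conjugate of `X` and `C₁ ≤ C_T(R')`. Then there is a
map `μ` of `F` on `R' C₁` that is the identity on `C₁` and maps `R'` into `C_S(T)`:
`μ = e^ ∘ γ^⁻¹ ∘ σ^` with `σ` from `R'` onto a receptive subgroup, extended to `R' C₁`,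
`σ^|C₁ = γ ∘ e` (Frattini clause), `γ^` an extension of `γ` to `T C_S(T)`, and `e^` the extension
of the inverse of `e` fixing `γ^⁻¹(σ(R'))` elementwise.
-/

set_option autoImplicit false

namespace Cfsg.Agent.Lib.Helper82.CEMU

open Cfsg Cfsg.FusionSystem Cfsg.Agent.Lib.Helper88.CESStmt Cfsg.Agent.Lib.Helper88.FCStmt
open Cfsg.Agent.Lib.Helper88

universe u

theorem val_congr {Ω : Type u} [Group Ω] {A : Subgroup Ω} (f : A →* Ω) {a b : Ω} (ha : a ∈ A)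
    (hb : b ∈ A) (hab : a = b) : f ⟨a, ha⟩ = f ⟨b, hb⟩ := by
  subst hab
  rfl

theorem main (hRecv : RecvCentral.{u}) (hTrans : TransCentral.{u}) (hAX : WNStmt.AutExt.{u}) :
    MuExists.{u} := by
  intro Ω _ S _ p _ hS F hF T E hE X hX hXc φ hφ C₁ hC₁
  have hInv : E.IsInvariantIn F := hE.1.2.2
  have hT : F.StronglyClosed T := hInv.2.1
  have hTS : T ≤ S := hT.1
  have hfrat := hInv.2.2.2
  have hR'S : φ.range ≤ S := FSBase.range_le F hφ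
  have hC₁T : C₁ ≤ T := fun c hc => (hC₁ hc).1
  have hC₁S : C₁ ≤ centralizerIn S φ.range := fun c hc => ⟨hTS (hC₁ hc).1, (hC₁ hc).2⟩
  -- step 1: `σ` from `R'` onto a receptive subgroup
  obtain ⟨σ, hσ, -, hrec⟩ := Helper87.FSSat.exists_far F hF hR'S
  -- step 2: `σ(R')` centralizes `E`
  obtain ⟨ρ, hρ, hρx⟩ := FSBase.comp_mem' F hφ hσ (fun x => ⟨x, rfl⟩)
  have hρr : ρ.range = σ.range := by
    ext y
    constructor
    · rintro ⟨x, rfl⟩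
      rw [hρx]
      exact ⟨_, rfl⟩
    · rintro ⟨⟨_, ⟨x, rfl⟩⟩, rfl⟩
      exact ⟨x, hρx x⟩
  have hrec' : F.IsReceptive ρ.range := by rw [hρr]; exact hrec
  obtain ⟨hR''C, hR''c⟩ := hRecv p hS F hF E hE X hX hXc ρ hρ hrec'
  rw [hρr] at hR''C hR''c
  -- step 3: extension of `σ` to `R' C₁`
  obtain ⟨σh, hσh, hσhx⟩ := H85.receptive_extend_sup F hrec hσ rfl
  have hYD : φ.range ⊔ C₁ ≤ φ.range ⊔ centralizerIn S φ.range := sup_le_sup_left hC₁S _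
  obtain ⟨σY, hσYdef⟩ : ∃ σY : ↥(φ.range ⊔ C₁) →* Ω,
      σY = σh.comp (Subgroup.inclusion hYD) := ⟨_, rfl⟩
  have hσY : σY ∈ F.Hom (φ.range ⊔ C₁) := by
    rw [hσYdef]; exact FSBase.restrict_mem F hYD hσh
  have hσYr : ∀ r : φ.range, σY (Subgroup.inclusion le_sup_left r) = σ r := by
    intro r
    rw [hσYdef]
    exact hσhx r
  -- step 4: Frattini decomposition on `C₁`
  have hC₁Y : C₁ ≤ φ.range ⊔ C₁ := le_sup_right
  obtain ⟨σC, hσCdef⟩ : ∃ σC : C₁ →* Ω, σC = σY.comp (Subgroup.inclusion hC₁Y) := ⟨_, rfl⟩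
  have hσC : σC ∈ F.Hom C₁ := by
    rw [hσCdef]; exact FSBase.restrict_mem F hC₁Y hσY
  obtain ⟨γ, hγ, e, he, hγe⟩ := hfrat C₁ hC₁T σC hσC
  have heT : ∀ x : C₁, e x ∈ T := (E.le_of_mem he).2
  have hσYc : ∀ c : C₁, σY (Subgroup.inclusion le_sup_right c) =
      ((γ ⟨e c, heT c⟩ : T) : Ω) := by
    intro c
    rw [← hγe c (heT c), hσCdef]
    rfl
  -- step 5: extension of `γ` to `T C_S(T)` and its inverse
  obtain ⟨γh, hγh, hγhx⟩ := hAX p hS F hF T hT γ hγ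
  have hWS : T ⊔ centralizerIn S T ≤ S := sup_le hTS inf_le_left
  obtain ⟨δ, hδdef⟩ : ∃ δ : ↥(T ⊔ centralizerIn S T) →* Ω,
      δ = (T ⊔ centralizerIn S T).subtype.comp (γh⁻¹).toMonoidHom := ⟨_, rfl⟩
  have hδ : δ ∈ F.Hom (T ⊔ centralizerIn S T) := by
    rw [hδdef]
    exact (H85.mem_autGroup_iff F hWS γh⁻¹).mp (Subgroup.inv_mem _ hγh)
  have hδγ : ∀ x : T, δ (Subgroup.inclusion le_sup_left (γ x)) = (x : Ω) := by
    intro x
    have h1 : γh (Subgroup.inclusion le_sup_left x) = Subgroup.inclusion le_sup_left (γ x) :=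
      Subtype.ext (hγhx x)
    rw [hδdef, ← h1]
    show ((γh⁻¹ (γh (Subgroup.inclusion le_sup_left x)) : ↥(T ⊔ centralizerIn S T)) : Ω) = x
    rw [MulAut.inv_apply_self]
    rfl
  -- step 6: `X₂ = γ^⁻¹(σ(R'))` centralizes `E`
  have hle6 : T ⊔ σ.range ≤ T ⊔ centralizerIn S T := sup_le_sup_left hR''C T
  obtain ⟨β, hβdef⟩ : ∃ β : ↥(T ⊔ σ.range) →* Ω, β = δ.comp (Subgroup.inclusion hle6) :=
    ⟨_, rfl⟩
  have hβ : β ∈ F.Hom (T ⊔ σ.range) := by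
    rw [hβdef]; exact FSBase.restrict_mem F hle6 hδ
  obtain ⟨X₂, hX₂def⟩ : ∃ X₂ : Subgroup Ω,
      X₂ = (σ.range.subgroupOf (T ⊔ σ.range)).map β := ⟨_, rfl⟩
  have hX₂mem : ∀ y : Ω, y ∈ X₂ ↔ ∃ x : ↥(T ⊔ σ.range), (x : Ω) ∈ σ.range ∧ β x = y := by
    intro y
    rw [hX₂def, Subgroup.mem_map]
    constructor
    · rintro ⟨x, hx, rfl⟩
      exact ⟨x, Subgroup.mem_subgroupOf.mp hx, rfl⟩
    · rintro ⟨x, hx, rfl⟩
      exact ⟨x, Subgroup.mem_subgroupOf.mpr hx, rfl⟩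
  obtain ⟨hX₂C, hX₂c⟩ := hTrans p hS F hF E hE σ.range hR''C hR''c β hβ X₂ hX₂mem
  -- step 7: the inverse of `e`, extended so as to fix `X₂`
  obtain ⟨ε, hε, hεx⟩ := E.inv_mem he
  obtain ⟨-, -, -, εh, hεh, hεhl, hεhr⟩ := hX₂c e.range hε
  -- step 8: the composite
  have hσYmem : ∀ y : ↥(φ.range ⊔ C₁), σY y ∈ T ⊔ σ.range := by
    have h0 := H85.sup_all (P := φ.range) (Q := C₁) ((T ⊔ σ.range).comap σY) ?_ ?_
    · exact h0
    · intro r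
      show σY (Subgroup.inclusion le_sup_left r) ∈ T ⊔ σ.range
      rw [hσYr]
      exact Subgroup.mem_sup_right ⟨r, rfl⟩
    · intro c
      show σY (Subgroup.inclusion le_sup_right c) ∈ T ⊔ σ.range
      rw [hσYc]
      exact Subgroup.mem_sup_left (γ ⟨e c, heT c⟩).2
  obtain ⟨θ₁, hθ₁, hθ₁x⟩ := FSBase.comp_mem' F hσY hβ hσYmem
  have hθ₁r : ∀ r : φ.range, θ₁ (Subgroup.inclusion le_sup_left r) ∈ X₂ := by
    intro r
    rw [hθ₁x, hX₂mem]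
    refine ⟨⟨σY (Subgroup.inclusion le_sup_left r), hσYmem _⟩, ?_, rfl⟩
    show σY (Subgroup.inclusion le_sup_left r) ∈ σ.range
    rw [hσYr]
    exact ⟨r, rfl⟩
  have hθ₁c : ∀ c : C₁, θ₁ (Subgroup.inclusion le_sup_right c) = e c := by
    intro c
    have h2 : β ⟨σY (Subgroup.inclusion le_sup_right c), hσYmem _⟩ =
        δ ⟨((γ ⟨e c, heT c⟩ : T) : Ω), Subgroup.mem_sup_left (γ ⟨e c, heT c⟩).2⟩ := by
      rw [hβdef]
      exact val_congr δ _ _ (hσYc c)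
    rw [hθ₁x, h2]
    exact hδγ ⟨e c, heT c⟩
  have hθ₁mem : ∀ y : ↥(φ.range ⊔ C₁), θ₁ y ∈ e.range ⊔ X₂ := by
    have h0 := H85.sup_all (P := φ.range) (Q := C₁) ((e.range ⊔ X₂).comap θ₁) ?_ ?_
    · exact h0
    · intro r
      exact Subgroup.mem_sup_right (hθ₁r r)
    · intro c
      show θ₁ (Subgroup.inclusion le_sup_right c) ∈ e.range ⊔ X₂
      rw [hθ₁c]
      exact Subgroup.mem_sup_left ⟨c, rfl⟩
  obtain ⟨μ, hμ, hμx⟩ := FSBase.comp_mem' F hθ₁ hεh hθ₁mem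
  refine ⟨μ, hμ, fun c => ?_, fun r => ?_⟩
  · rw [hμx, val_congr εh (hθ₁mem _) (Subgroup.mem_sup_left ⟨c, rfl⟩ : e c ∈ e.range ⊔ X₂)
      (hθ₁c c)]
    exact (hεhl ⟨e c, ⟨c, rfl⟩⟩).trans (hεx c)
  · have hx₂ := hθ₁r r
    have h2 : μ (Subgroup.inclusion le_sup_left r) = θ₁ (Subgroup.inclusion le_sup_left r) := by
      rw [hμx]
      exact hεhr ⟨θ₁ (Subgroup.inclusion le_sup_left r), hx₂⟩
    rw [h2]
    exact hX₂C hx₂

end Cfsg.Agent.Lib.Helper82.CEMU
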