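import Mathlib
import Cfsg.Prelude.Def_Characters
import Cfsg.Prelude.Def_Blocks
import Cfsg.Prelude.Def_CharExt
import Cfsg.Prelude.Def_Transfer
import Cfsg.Agent.Lib.Helper82.DetPow
import Cfsg.Agent.Lib.Helper74.IndexP
import Cfsg.Agent.Lib.Helper80.NormB0
import Cfsg.Agent.Lib.Helper80.PNilB0
import Cfsg.Agent.Lib.Helper16.PSection
import Cfsg.Agent.Lib.Helper77.LocalRing
import Cfsg.Agent.S0886
import Cfsg.Agent.S4518

/-!
Extensions of an invariant irreducible character of a normal subgroup `N` with `G / N` a cyclic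
`p`-group: the extensions are parametrised by the value of the determinantal character at a
generator, they all lie in the principal block when the character of `N` does, and the
Galois-fixed ones are counted.
-/

set_option autoImplicit false

namespace Cfsg.Agent.Lib.Helper82.CycExt

open Cfsg Cfsg.Agent.Lib.Helper82.DetPow Cfsg.Agent.Lib.Helper77.LocalRing

universe u

variable {G : Type u} [Group G] [Finite G]

/-- An exponent acting as `1 + p` on `p`-elements and trivially on `p'`-elements is prime to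
the group order. -/
theorem coprime_card_of_pow (p : ℕ) [Fact p.Prime] (k : ℕ)
    (hk₁ : ∀ g : G, (∃ j : ℕ, orderOf g = p ^ j) → g ^ k = g ^ (1 + p))
    (hk₂ : ∀ g : G, Nat.Coprime (orderOf g) p → g ^ k = g) : k.Coprime (Nat.card G) := by
  have hp : p.Prime := Fact.out
  by_contra h
  obtain ⟨r, hr, hrk, hrG⟩ := Nat.Prime.not_coprime_iff_dvd.mp h
  have := Fact.mk hr
  obtain ⟨g, hg⟩ := exists_prime_orderOf_dvd_card' r hrG
  have hg1 : g ≠ 1 := by
    rintro rfl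
    rw [orderOf_one] at hg
    exact hr.one_lt.ne hg
  have hgk : g ^ k = 1 := by
    obtain ⟨t, rfl⟩ := hrk
    rw [pow_mul, ← hg, pow_orderOf_eq_one, one_pow]
  by_cases hrp : r = p
  · subst hrp
    have h1 := hk₁ g ⟨1, by rw [hg, pow_one]⟩
    rw [hgk, pow_add, pow_one, ← hg, pow_orderOf_eq_one, mul_one] at h1
    exact hg1 h1.symm
  · have h1 := hk₂ g (by rw [hg]; exact (Nat.coprime_primes hr hp).mpr hrp)
    rw [hgk] at h1
    exact hg1 h1.symm

/-- If `G / N` is an abelian `p`-group, every irreducible character of `G` extending a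
principal block character of `N` lies in the principal block. -/
theorem mem_principalBlock_of_ext (p : ℕ) [Fact p.Prime] (M : Ideal AlgInt)
    (hM : IsPModular p M) (N : Subgroup G) [N.Normal]
    (hab : ∀ x y : G, x * y * x⁻¹ * y⁻¹ ∈ N) (hpq : ∀ g : G, ∃ j : ℕ, g ^ p ^ j ∈ N)
    (θ : IrrCharacter N) (hθ : θ ∈ principalBlock M N) (χ : IrrCharacter G)
    (hext : ∀ n : N, χ.1 n = θ.1 n) : χ ∈ principalBlock M G := by
  classical
  have hMp := isPrime_of_isPModular hM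
  have : Fintype G := Fintype.ofFinite G
  have : Fintype N := Fintype.ofFinite N
  obtain ⟨χ', hχ', hne⟩ :=
    Cfsg.Agent.Lib.Helper80.NormB0.exists_principalBlock_over p M hM N θ hθ
  have hne' : classInner (fun m : N => χ'.1 m) (fun m : N => χ.1 m) ≠ 0 := by
    have e : (fun m : N => χ.1 m) = θ.1 := funext hext
    rw [e]
    exact hne
  obtain ⟨β, hβ1, hβ2⟩ :=
    Cfsg.Agent.Lib.Helper74.IndexP.gallagher_top N hab χ'.1 χ.1 χ'.2 χ.2 hne'
  show SameBlock M (fun _ : G => (1 : ℂ)) χ.1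
  intro g
  have h1 : SameBlock M (fun x => ((β x : ℂˣ) : ℂ) * (fun _ : G => (1 : ℂ)) x)
      (fun x => ((β x : ℂˣ) : ℂ) * χ'.1 x) :=
    Cfsg.Agent.Lib.Helper80.PNilB0.sameBlock_linear_mul hMp β (fun _ => 1) χ'.1 hχ'
  have h2 := h1 g
  rw [← hβ2] at h2
  obtain ⟨j, hj⟩ := hpq g
  have hβg : ((β g : ℂˣ) : ℂ) ^ p ^ j = 1 := by
    have h3 := hβ1 _ hj
    rw [map_pow] at h3
    rw [← Units.val_pow_eq_pow_val, h3, Units.val_one]
  have h3 : MemLocalIdeal M (((β g : ℂˣ) : ℂ) - 1) :=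
    Cfsg.Agent.Lib.Helper16.PSection.memLocalIdeal_sub_one_of_pow_eq_one hM _ j hβg
  have h4 : MemLocalIdeal M (centralChar (fun _ : G => (1 : ℂ)) g
      - centralChar (fun x => ((β x : ℂˣ) : ℂ) * (fun _ : G => (1 : ℂ)) x) g) := by
    have e : centralChar (fun _ : G => (1 : ℂ)) g
        - centralChar (fun x => ((β x : ℂˣ) : ℂ) * (fun _ : G => (1 : ℂ)) x) g
        = -(((Subgroup.centralizer ({g} : Set G)).index : ℂ) * (((β g : ℂˣ) : ℂ) - 1)) := by
      simp only [centralChar, map_one, Units.val_one, mul_one, div_one]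
      ring
    rw [e]
    exact memLocalIdeal_neg (memLocalIdeal_mul_left hMp (memLocalRing_natCast hMp _) h3)
  have h5 := memLocalIdeal_add hMp h4 h2
  have e : centralChar (fun _ : G => (1 : ℂ)) g - centralChar χ.1 g
      = (centralChar (fun _ : G => (1 : ℂ)) g
        - centralChar (fun x => ((β x : ℂˣ) : ℂ) * (fun _ : G => (1 : ℂ)) x) g)
        + (centralChar (fun x => ((β x : ℂˣ) : ℂ) * (fun _ : G => (1 : ℂ)) x) g
        - centralChar χ.1 g) := by ring
  rw [e]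
  exact h5

omit [Finite G] in
/-- A linear character trivial on `N` and on a generator of `G` modulo `N` is trivial. -/
theorem hom_eq_one_of_gen (N : Subgroup G) (u : G)
    (hgen : ∀ g : G, ∃ i : ℕ, ∃ n ∈ N, g = u ^ i * n) (β : G →* ℂˣ)
    (hβ : ∀ n ∈ N, β n = 1) (hu : β u = 1) (g : G) : β g = 1 := by
  obtain ⟨i, n, hn, rfl⟩ := hgen g
  rw [map_mul, map_pow, hu, one_pow, one_mul, hβ n hn]

/-- Linear characters of `G` trivial on `N` with prescribed value on a generator modulo `N`. -/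
theorem exists_hom_of_gen (N : Subgroup G) [N.Normal] (u : G)
    (hgen : ∀ g : G, ∃ i : ℕ, ∃ n ∈ N, g = u ^ i * n) (ζ : ℂ)
    (hζ : ζ ^ orderOf (QuotientGroup.mk u : G ⧸ N) = 1) :
    ∃ β : G →* ℂˣ, (∀ n ∈ N, β n = 1) ∧ ((β u : ℂˣ) : ℂ) = ζ := by
  have hq : 0 < orderOf (QuotientGroup.mk u : G ⧸ N) := orderOf_pos _
  have hζ0 : ζ ≠ 0 := by
    intro h
    rw [h, zero_pow hq.ne'] at hζ
    exact zero_ne_one hζ
  have hg : ∀ x : G ⧸ N, x ∈ Subgroup.zpowers (QuotientGroup.mk u : G ⧸ N) := by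
    intro x
    obtain ⟨g, rfl⟩ := QuotientGroup.mk_surjective x
    obtain ⟨i, n, hn, rfl⟩ := hgen g
    rw [Subgroup.mem_zpowers_iff]
    refine ⟨i, ?_⟩
    rw [QuotientGroup.mk_mul, QuotientGroup.mk_pow, (QuotientGroup.eq_one_iff n).mpr hn,
      mul_one, zpow_natCast]
  have hg' : orderOf (Units.mk0 ζ hζ0) ∣ orderOf (QuotientGroup.mk u : G ⧸ N) := by
    apply orderOf_dvd_of_pow_eq_one
    apply Units.ext
    rw [Units.val_pow_eq_pow_val, Units.val_mk0, hζ, Units.val_one]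
  refine ⟨(monoidHomOfForallMemZpowers hg hg').comp (QuotientGroup.mk' N), ?_, ?_⟩
  · intro n hn
    rw [MonoidHom.comp_apply, QuotientGroup.mk'_apply, (QuotientGroup.eq_one_iff n).mpr hn,
      map_one]
  · rw [MonoidHom.comp_apply, QuotientGroup.mk'_apply, monoidHomOfForallMemZpowers_apply_gen,
      Units.val_mk0]

/-- Two extensions of `θ` with the same determinant at the generator coincide. -/
theorem ext_unique (p : ℕ) [Fact p.Prime] (N : Subgroup G) [N.Normal]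
    (hab : ∀ x y : G, x * y * x⁻¹ * y⁻¹ ∈ N) (u : G)
    (hgen : ∀ g : G, ∃ i : ℕ, ∃ n ∈ N, g = u ^ i * n) (hu : ∃ a : ℕ, u ^ p ^ a ∈ N)
    (θ : IrrCharacter N) (hdeg : ¬ p ∣ charDegree θ.1) (χ χ' : IrrCharacter G)
    (h : ∀ n : N, χ.1 n = θ.1 n) (h' : ∀ n : N, χ'.1 n = θ.1 n)
    (hD : detChar χ.1 u = detChar χ'.1 u) : χ = χ' := by
  classical
  have hp : p.Prime := Fact.out
  have : Fintype G := Fintype.ofFinite G
  have : Fintype N := Fintype.ofFinite N
  have hne : classInner (fun m : N => χ.1 m) (fun m : N => χ'.1 m) ≠ 0 := by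
    have e : (fun m : N => χ.1 m) = θ.1 := funext h
    have e' : (fun m : N => χ'.1 m) = θ.1 := funext h'
    rw [e, e', Cfsg.Agent.Lib.CT.Wedderburn.irr_orthonormal, if_pos rfl]
    exact one_ne_zero
  obtain ⟨β, hβ1, hβ2⟩ :=
    Cfsg.Agent.Lib.Helper74.IndexP.gallagher_top N hab χ.1 χ'.1 χ.2 χ'.2 hne
  have hdet : detChar χ'.1 u = ((β u : ℂˣ) : ℂ) ^ charDegree χ.1 * detChar χ.1 u := by
    rw [hβ2]
    exact detChar_twist χ.2 β u
  have hne0 := detChar_ne_zero χ.2 u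
  have h1 : ((β u : ℂˣ) : ℂ) ^ charDegree χ.1 = 1 := by
    rw [← hD] at hdet
    exact mul_right_cancel₀ hne0 (hdet.symm.trans (one_mul _).symm)
  have hdeg' : charDegree χ.1 = charDegree θ.1 := by
    show ⌊(χ.1 1).re⌋₊ = ⌊(θ.1 1).re⌋₊
    rw [← h 1]
    rfl
  obtain ⟨a, ha⟩ := hu
  have h2 : ((β u : ℂˣ) : ℂ) ^ p ^ a = 1 := by
    have h3 := hβ1 _ ha
    rw [map_pow] at h3
    rw [← Units.val_pow_eq_pow_val, h3, Units.val_one]
  have hcop : (charDegree χ.1).Coprime (p ^ a) := by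
    rw [hdeg']
    exact Nat.Coprime.pow_right a ((Nat.Prime.coprime_iff_not_dvd hp).mpr hdeg).symm
  have h3 := pow_gcd_eq_one.mpr ⟨h1, h2⟩
  rw [hcop, pow_one] at h3
  have hβu : β u = 1 := Units.ext h3
  have hβ : ∀ g, β g = 1 := hom_eq_one_of_gen N u hgen β hβ1 hβu
  apply Subtype.ext
  rw [hβ2]
  funext g
  rw [hβ g, Units.val_one, one_mul]

/-- Existence of a Galois-fixed principal block extension with prescribed determinant value
at the generator. -/
theorem exists_ext (p : ℕ) [Fact p.Prime] (M : Ideal AlgInt) (hM : IsPModular p M)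
    (N : Subgroup G) [hN : N.Normal] (hcyc : IsCyclic (G ⧸ N))
    (hab : ∀ x y : G, x * y * x⁻¹ * y⁻¹ ∈ N) (hpq : ∀ g : G, ∃ j : ℕ, g ^ p ^ j ∈ N)
    (u : G) (hgen : ∀ g : G, ∃ i : ℕ, ∃ n ∈ N, g = u ^ i * n) (hup : ∃ j : ℕ, u ^ p ^ j = 1)
    (huN : u ∉ N)
    (hdet : ∀ (θ : IrrCharacter N) (v : N), (∃ j : ℕ, v ^ p ^ j = 1) → detChar θ.1 v = 1)
    (k : ℕ) (hk : k.Coprime (Nat.card G)) (huk : u ^ k = u ^ (1 + p))
    (θ : IrrCharacter N) (hθB : θ ∈ principalBlock M N) (hdeg : ¬ p ∣ charDegree θ.1)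
    (hinv : ∀ (g : G) (n : N), θ.1 ⟨g * n * g⁻¹, hN.conj_mem n n.2 g⟩ = θ.1 n)
    (hθk : ∀ n : N, θ.1 (n ^ k) = θ.1 n) (w : ℂ) (hw : w ^ p = 1) :
    ∃ χ : IrrCharacter G, χ ∈ principalBlock M G ∧ (∀ n : N, χ.1 n = θ.1 n) ∧
      (∀ g : G, χ.1 (g ^ k) = χ.1 g) ∧ detChar χ.1 u = w := by
  classical
  have hp : p.Prime := Fact.out
  obtain ⟨χ₀f, hχ₀, hext₀⟩ := Cfsg.Agent.S0886.result N hcyc θ.1 θ.2 hinv
  set q := orderOf (QuotientGroup.mk u : G ⧸ N) with hq
  have hqpos : 0 < q := orderOf_pos _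
  obtain ⟨j, hj⟩ := hup
  have hqdvd : q ∣ p ^ j := by
    apply orderOf_dvd_of_pow_eq_one
    rw [← QuotientGroup.mk_pow, hj]
    rfl
  have hq1 : q ≠ 1 := by
    intro h1
    apply huN
    rw [← QuotientGroup.eq_one_iff]
    exact orderOf_eq_one_iff.mp h1
  have hpq' : p ∣ q := by
    obtain ⟨i, -, hi⟩ := (Nat.dvd_prime_pow hp).mp hqdvd
    rw [hi] at hq1 ⊢
    cases i with
    | zero => exact absurd (pow_zero p) hq1
    | succ i => exact dvd_pow_self p (Nat.succ_ne_zero i)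
  have huq : u ^ q ∈ N := by
    rw [← QuotientGroup.eq_one_iff, QuotientGroup.mk_pow]
    exact pow_orderOf_eq_one _
  have hres₀ : IsIrrCharacter N (fun n : N => χ₀f n) := by
    have e : (fun n : N => χ₀f n) = θ.1 := funext hext₀
    rw [e]
    exact θ.2
  have hD₀ : detChar χ₀f u ^ q = 1 := by
    rw [← detChar_pow hχ₀]
    have h1 := detChar_res N hχ₀ hres₀ ⟨u ^ q, huq⟩
    rw [← h1]
    have e : (fun n : N => χ₀f n) = θ.1 := funext hext₀
    rw [e]
    apply hdet θ _ ⟨j, ?_⟩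
    apply Subtype.ext
    rw [Subgroup.coe_pow, Subgroup.coe_one]
    show (u ^ q) ^ p ^ j = 1
    rw [← pow_mul, mul_comm, pow_mul, hj, one_pow]
  have hD₀ne := detChar_ne_zero hχ₀ u
  set w' := w / detChar χ₀f u with hw'
  have hwq : w ^ q = 1 := by
    obtain ⟨c, hc⟩ := hpq'
    rw [hc, pow_mul, hw, one_pow]
  have hw'q : w' ^ q = 1 := by
    rw [hw', div_pow, hwq, hD₀, div_one]
  set n := charDegree θ.1 with hn
  have hcop : n.Coprime q := Nat.Coprime.coprime_dvd_right hqdvd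
    (Nat.Coprime.pow_right j ((Nat.Prime.coprime_iff_not_dvd hp).mpr hdeg).symm)
  have hq1' : 1 < q := by omega
  obtain ⟨c, -, hc⟩ := Nat.exists_mul_mod_eq_one_of_coprime hcop hq1'
  set ζ := w' ^ c with hζ
  have hζq : ζ ^ q = 1 := by rw [hζ, ← pow_mul, mul_comm, pow_mul, hw'q, one_pow]
  have hζn : ζ ^ n = w' := by
    rw [hζ, ← pow_mul, mul_comm, pow_eq_pow_mod (n * c) hw'q, hc, pow_one]
  obtain ⟨β, hβ1, hβu⟩ := exists_hom_of_gen N u hgen ζ hζq
  have hirr : IsIrrCharacter G (fun g => ((β g : ℂˣ) : ℂ) * χ₀f g) :=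
    Cfsg.Agent.Lib.CT.LinChar.isIrrCharacter_linear_mul
      (Cfsg.Agent.Lib.CT.LinChar.isCharacter_of_hom β) (by simp) hχ₀
  let χ : IrrCharacter G := ⟨fun g => ((β g : ℂˣ) : ℂ) * χ₀f g, hirr⟩
  have hext : ∀ m : N, χ.1 m = θ.1 m := by
    intro m
    show ((β m : ℂˣ) : ℂ) * χ₀f m = θ.1 m
    rw [hβ1 m m.2, Units.val_one, one_mul, hext₀]
  have hdeg₀ : charDegree χ₀f = n := by
    show ⌊(χ₀f 1).re⌋₊ = ⌊(θ.1 1).re⌋₊
    rw [← hext₀ 1]
    rfl
  have hDχ : detChar χ.1 u = w := by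
    show detChar (fun g => ((β g : ℂˣ) : ℂ) * χ₀f g) u = w
    rw [detChar_twist hχ₀ β u, hβu, hdeg₀, hζn, hw']
    field_simp
  have hB : χ ∈ principalBlock M G := mem_principalBlock_of_ext p M hM N hab hpq θ hθB χ hext
  refine ⟨χ, hB, hext, ?_, hDχ⟩
  let χ' : IrrCharacter G := Cfsg.Agent.S4518.powI k hk χ
  have hext' : ∀ m : N, χ'.1 m = θ.1 m := by
    intro m
    show χ.1 ((m : G) ^ k) = θ.1 m
    rw [← Subgroup.coe_pow, hext, hθk]
  have hDχ' : detChar χ.1 u = detChar χ'.1 u := by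
    have h1 : detChar χ'.1 u = detChar χ.1 u ^ (1 + p) := by
      rw [detChar_galois χ.2 χ'.2 k (fun g => rfl) u, huk, detChar_pow χ.2]
    rw [h1, hDχ, pow_add, pow_one, hw, mul_one]
  have heq := ext_unique p N hab u hgen (hpq u) θ hdeg χ χ' hext hext' hDχ'
  intro g
  have h2 := congrFun (congrArg Subtype.val heq) g
  exact h2.symm

end Cfsg.Agent.Lib.Helper82.CycExt
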