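import Mathlib
import Cfsg.Agent.Lib.Helper74.DixStmt
import Cfsg.Agent.Lib.Helper76.CycField
import Cfsg.Agent.S4488

/-!
# S4472 / RATCRIT (helper82)

A character fixed by the power maps `j ≡ 1 (mod r)` (`|T| = r p ^ e`, `p ∤ r`) has values in
`ℚ(ζ_r)`.
-/

set_option autoImplicit false

namespace Cfsg.Agent.Lib.Helper82.DixRATCRIT

open Cfsg Cfsg.Agent.Lib.Helper74.DixStmt

universe u

theorem root_mem_Cyc (m : ℕ) (hm : m ≠ 0) {η : ℂ} (hη : η ^ m = 1) : η ∈ Cyc m := by
  have hne : NeZero m := ⟨hm⟩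
  obtain ⟨i, -, hi⟩ := (Complex.isPrimitiveRoot_exp m hm).eq_pow_of_pow_eq_one hη
  rw [← hi]
  exact pow_mem (IntermediateField.subset_adjoin ℚ _ (Set.mem_singleton _)) i

theorem main : RatCrit.{u} := by
  intro T _ _ p hp ψ hψ r e hpr hcard hfix g
  have hr0 : r ≠ 0 := by
    rintro rfl
    rw [zero_mul] at hcard
    exact Nat.card_pos.ne' hcard
  obtain ⟨d, μ, hμ, hpow⟩ := Cfsg.Agent.Lib.Helper76.CycField.char_pow_eq_sum ψ hψ g
  have hμn : ∀ i, μ i ^ (r * p ^ e) = 1 := by
    intro i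
    rw [← hcard]
    obtain ⟨m, hm⟩ := orderOf_dvd_natCard g
    rw [hm, pow_mul, hμ i, one_pow]
  rcases Nat.eq_zero_or_pos e with he | he
  · subst he
    rw [pow_zero, mul_one] at hμn
    have h1 := hpow 1
    rw [pow_one] at h1
    rw [h1]
    exact sum_mem (fun i _ => by simpa using root_mem_Cyc r hr0 (hμn i))
  · obtain ⟨k, rfl⟩ : ∃ k, e = k + 1 := ⟨e - 1, by omega⟩
    have hco : Nat.Coprime r (p ^ (k + 1)) := by
      apply Nat.Coprime.pow_right
      exact Nat.Coprime.symm ((Nat.Prime.coprime_iff_not_dvd hp.out).mpr hpr)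
    obtain ⟨A, hA1, hA0⟩ := Nat.chineseRemainder hco 1 0
    obtain ⟨B, hB0, hB1⟩ := Nat.chineseRemainder hco 0 1
    have ha : ∀ i, (μ i ^ A) ^ r = 1 := by
      intro i
      obtain ⟨m, hm⟩ := (Nat.modEq_zero_iff_dvd).mp hA0
      rw [← pow_mul, hm, show p ^ (k + 1) * m * r = (r * p ^ (k + 1)) * m by ring, pow_mul,
        hμn i, one_pow]
    have hb : ∀ i, (μ i ^ B) ^ (p ^ (k + 1)) = 1 := by
      intro i
      obtain ⟨m, hm⟩ := (Nat.modEq_zero_iff_dvd).mp hB0
      rw [← pow_mul, hm, show r * m * p ^ (k + 1) = (r * p ^ (k + 1)) * m by ring, pow_mul,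
        hμn i, one_pow]
    have hval : ∀ c : ℕ, ¬ p ∣ c → ψ g = ∑ i, μ i ^ A * (μ i ^ B) ^ c := by
      intro c hc
      have hj1 : A + B * c ≡ 1 [MOD r] := by
        have h := hA1.add (hB0.mul_right c)
        simpa using h
      have hjc : A + B * c ≡ c [MOD p ^ (k + 1)] := by
        have h := hA0.add (hB1.mul_right c)
        simpa using h
      have hcop : (A + B * c).Coprime (Nat.card T) := by
        rw [hcard]
        apply Nat.Coprime.mul_right
        · have h := hj1.gcd_eq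
          unfold Nat.Coprime
          rw [h]
          exact Nat.gcd_one_left r
        · apply Nat.Coprime.pow_right
          apply Nat.Coprime.symm
          rw [Nat.Prime.coprime_iff_not_dvd hp.out]
          intro hdiv
          have hjp : A + B * c ≡ c [MOD p] := hjc.of_dvd (dvd_pow_self p (Nat.succ_ne_zero k))
          exact hc ((hjp.dvd_iff dvd_rfl).mp hdiv)
      have h2 := hfix (A + B * c) hcop hj1 g
      rw [← h2, hpow]
      apply Finset.sum_congr rfl
      intro i _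
      rw [pow_add, pow_mul]
    have hsum : ∑ c ∈ (Finset.range (p ^ (k + 1))).filter (fun j => ¬ p ∣ j), ψ g
        = ∑ i, μ i ^ A * ∑ c ∈ (Finset.range (p ^ (k + 1))).filter (fun j => ¬ p ∣ j),
            (μ i ^ B) ^ c := by
      rw [Finset.sum_congr rfl (fun c hc => hval c (Finset.mem_filter.mp hc).2), Finset.sum_comm]
      apply Finset.sum_congr rfl
      intro i _
      rw [Finset.mul_sum]
    have hcardS : ∑ c ∈ (Finset.range (p ^ (k + 1))).filter (fun j => ¬ p ∣ j), ψ g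
        = ((p : ℂ) ^ (k + 1) - (p : ℂ) ^ k) * ψ g := by
      have h1 := Cfsg.Agent.S4488.sum_coprime_pow p hp.out k 1 (one_pow _)
      simp only [one_pow, if_true] at h1
      rw [← h1, Finset.sum_mul]
      simp only [one_mul]
    have hN : ((p : ℂ) ^ (k + 1) - (p : ℂ) ^ k) ≠ 0 := by
      have h1 : (p : ℂ) ^ (k + 1) - (p : ℂ) ^ k = (p : ℂ) ^ k * ((p : ℂ) - 1) := by ring
      rw [h1]
      apply mul_ne_zero
      · exact pow_ne_zero _ (Nat.cast_ne_zero.mpr hp.out.ne_zero)
      · rw [sub_ne_zero]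
        exact_mod_cast hp.out.ne_one
    have hmem : (∑ i, μ i ^ A * ∑ c ∈ (Finset.range (p ^ (k + 1))).filter (fun j => ¬ p ∣ j),
        (μ i ^ B) ^ c) ∈ Cyc r := by
      apply sum_mem
      intro i _
      apply mul_mem (root_mem_Cyc r hr0 (ha i))
      rw [Cfsg.Agent.S4488.sum_coprime_pow p hp.out k _ (hb i)]
      apply sub_mem <;> split_ifs <;>
        first | exact zero_mem _ | exact pow_mem (natCast_mem _ p) _
    have hψg : ψ g = (∑ i, μ i ^ A * ∑ c ∈ (Finset.range (p ^ (k + 1))).filter (fun j => ¬ p ∣ j),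
        (μ i ^ B) ^ c) / ((p : ℂ) ^ (k + 1) - (p : ℂ) ^ k) := by
      rw [← hsum, hcardS]
      field_simp
    rw [hψg]
    exact div_mem hmem (sub_mem (pow_mem (natCast_mem _ p) _) (pow_mem (natCast_mem _ p) _))

end Cfsg.Agent.Lib.Helper82.DixRATCRIT
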