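import Mathlib
import Cfsg.Agent.Lib.Helper31.ECStmt

set_option autoImplicit false

/-! S2860, piece [IMLE]: comparison of images in `E / (C ∩ E)`. -/

namespace Cfsg.Agent.Lib.Helper82.ECIMLE

open Cfsg.Agent.Lib.Helper31.ECStmt

universe u

/-- piece [IMLE] -/
theorem main : IMLE.{u} := by
  intro G _ E C _ A B hA hB
  have hsup : (B ⊔ (E ⊓ C)).subgroupOf E = B.subgroupOf E ⊔ C.subgroupOf E := by
    rw [Subgroup.subgroupOf_sup hB inf_le_left, Subgroup.inf_subgroupOf_left]
  have h1 : im E C A ≤ im E C B ↔ A.subgroupOf E ≤ B.subgroupOf E ⊔ C.subgroupOf E := by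
    unfold im
    rw [Subgroup.map_le_iff_le_comap, Subgroup.comap_map_eq, QuotientGroup.ker_mk']
  rw [h1, ← hsup]
  constructor
  · intro h a ha
    have h2 : (⟨a, hA ha⟩ : ↥E) ∈ A.subgroupOf E := ha
    exact h h2
  · intro h x hx
    exact h hx

end Cfsg.Agent.Lib.Helper82.ECIMLE
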