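import Mathlib
import Cfsg.Prelude.Def_GeometricClasses
import Cfsg.Agent.Lib.Helper82.EPUCARDE

/-!
# Counting elliptic subspaces of a small nondegenerate subspace, for an arbitrary quadratic form
on `ι → F` (all `q`)

Form-generic version of `Cfsg.Agent.Lib.Helper82.EPUCARDE.main` (S5988 / UCARDE), written for the
minus-form port (S5990 / UCARDE).  `GE Q m W`: `W` is an elliptic `m`-space for `Q`;
`ucard_gen`: for a nondegenerate `U` with `dim U < c` containing an elliptic `m`-space (`m ≥ 2`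
even), `r` does not divide the number of elliptic `m`-spaces inside `U`.
-/

set_option autoImplicit false

universe u

namespace Cfsg.Agent.Lib.Helper82.GenUCard

open Module QuadraticMap
open Cfsg.Agent.Lib.Helper37.HypStmt (cc)
open Cfsg.Agent.Lib.Helper94.OPStmt (AMem)
open Cfsg.Agent.Lib.Helper44.QSpace Cfsg.Agent.Lib.Helper44.QClass Cfsg.Agent.Lib.Helper44.OTyp1
open Cfsg.Agent.Lib.Helper44.QBasis Cfsg.Agent.Lib.Helper44.SpinCount

variable {F : Type u} [Field F] {ι : Type} [Finite ι]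

/-- `W` is an elliptic `m`-space for `Q` -/
def GE (Q : QuadraticForm F (ι → F)) (m : ℕ) (W : Submodule F (ι → F)) : Prop :=
  Module.finrank F ↥W = m ∧ Cfsg.Geo.IsNondegenerateOn (QuadraticMap.polar ⇑Q) W ∧
    ¬ Cfsg.Geo.IsPlusTypeOn ⇑Q W

/-- `W` is a nondegenerate `m`-space isometric to `W₀` -/
def GM (Q : QuadraticForm F (ι → F)) (m : ℕ) (W₀ W : Submodule F (ι → F)) : Prop :=
  Module.finrank F ↥W = m ∧ Cfsg.Geo.IsNondegenerateOn (QuadraticMap.polar ⇑Q) W ∧
    Cfsg.Geo.AreIsometricFor ⇑Q W W₀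

omit [Finite ι] in
/-- transfer of membership -/
theorem amem_iff_gen (Q : QuadraticForm F (ι → F)) (U : Submodule F (ι → F)) (m : ℕ)
    (W₀ : Submodule F (ι → F)) (hW₀ : Module.finrank F ↥W₀ = m) (W' : Submodule F ↥U) :
    AMem (res Q U) (res Q W₀) W' ↔ GM Q m W₀ (W'.map U.subtype) := by
  have hfr : Module.finrank F ↥(W'.map U.subtype) = Module.finrank F ↥W' :=
    Submodule.finrank_map_subtype_eq U W'
  unfold AMem GM
  constructor
  · rintro ⟨hnd, e, he⟩
    refine ⟨?_, ?_, ?_⟩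
    · rw [hfr, ← hW₀]
      exact e.finrank_eq
    · intro w hw hw0
      obtain ⟨w₀, hw₀, rfl⟩ := Submodule.mem_map.mp hw
      have hw₀0 : w₀ ≠ 0 := by
        rintro rfl
        exact hw0 (map_zero _)
      have hex : ∃ y ∈ W', QuadraticMap.polar (res Q U) w₀ y ≠ 0 := by
        by_contra hc
        push Not at hc
        exact hw₀0 (hnd w₀ hw₀ hc)
      obtain ⟨y, hy, hy0⟩ := hex
      rw [polar_res] at hy0
      refine ⟨⟨U.subtype y, Submodule.mem_map_of_mem hy, ?_⟩,
        ⟨U.subtype y, Submodule.mem_map_of_mem hy, ?_⟩⟩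
      · rw [QuadraticMap.polar_comm]
        exact hy0
      · exact hy0
    · refine ⟨(Submodule.equivSubtypeMap U W').symm.trans e, ?_⟩
      intro w
      have h1 := he ((Submodule.equivSubtypeMap U W').symm w)
      have h2 : ((((Submodule.equivSubtypeMap U W').symm w : ↥W') : ↥U) : ι → F)
          = (w : ι → F) := Submodule.equivSubtypeMap_symm_apply w
      show Q ((e ((Submodule.equivSubtypeMap U W').symm w) : ↥W₀) : ι → F)
        = Q (w : ι → F)
      rw [← h2]
      exact h1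
  · rintro ⟨-, hnd, e, he⟩
    refine ⟨?_, ?_⟩
    · intro x hx hxy
      by_contra hx0
      have hx0' : U.subtype x ≠ 0 := by
        intro h0
        exact hx0 (Subtype.ext h0)
      obtain ⟨-, z, hz, hz0⟩ := hnd (U.subtype x) (Submodule.mem_map_of_mem hx) hx0'
      obtain ⟨y, hy, rfl⟩ := Submodule.mem_map.mp hz
      exact hz0 (hxy y hy)
    · refine ⟨(Submodule.equivSubtypeMap U W').trans e, ?_⟩
      intro w
      exact he (Submodule.equivSubtypeMap U W' w)

omit [Finite ι] in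
theorem sep_of_ge {Q : QuadraticForm F (ι → F)} {W : Submodule F (ι → F)}
    (hW : Cfsg.Geo.IsNondegenerateOn (QuadraticMap.polar ⇑Q) W) : Sep (res Q W) := by
  intro x hx
  by_contra hx0
  have hx0' : (x : ι → F) ≠ 0 := fun h0 => hx0 (Subtype.ext h0)
  obtain ⟨-, z, hz, hz0⟩ := hW (x : ι → F) x.2 hx0'
  exact hz0 (hx ⟨z, hz⟩)

variable [Fintype F]

/-- the number of singular vectors of an elliptic subspace (all `q`) -/
theorem card_of_ge {Q : QuadraticForm F (ι → F)} {k : ℕ} {W : Submodule F (ι → F)}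
    (hW : GE Q (2 * (k + 1)) W) :
    Nat.card {v : W // res Q W v = 0} * Fintype.card F
      = Fintype.card F ^ (k + 1)
        + Fintype.card F ^ 2 * ((Fintype.card F ^ k - 1) * Fintype.card F ^ k) := by
  have hS : Sep (res Q W) := sep_of_ge hW.2.1
  rcases exists_hyp_even k W (res Q W) hW.1 hS with
    ⟨e, f, hH⟩ | ⟨e, f, x, y, ζ, hH, hE, horth⟩
  · exfalso
    apply hW.2.2
    have hli : LinearIndependent F e := by
      have h := linearIndependent_hyp hH (fun t : Fin 0 => t.elim0)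
        linearIndependent_empty_type (fun _ t => t.elim0) (fun _ t => t.elim0)
      exact h.comp (Sum.inl ∘ Sum.inl) (Sum.inl_injective.comp Sum.inl_injective)
    refine ⟨(Submodule.span F (Set.range e)).map W.subtype, Submodule.map_subtype_le _ _,
      ?_, ?_⟩
    · rintro w ⟨u, hu, rfl⟩
      obtain ⟨c, rfl⟩ := (Submodule.mem_span_range_iff_exists_fun F).mp hu
      have h := q_hyp_sum hH c (fun _ => 0) Finset.univ
      simp only [zero_smul, add_zero, mul_zero, Finset.sum_const_zero] at h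
      exact h
    · rw [Submodule.finrank_map_subtype_eq, finrank_span_eq_card hli, Fintype.card_fin, hW.1]
  · exact card_M (res Q W) hH hE horth hW.1

/-- two elliptic `m`-spaces are isometric (all `q`) -/
theorem iso_of_ge {Q : QuadraticForm F (ι → F)} {m : ℕ} (hm2 : 2 ≤ m) (hme : Even m)
    {W W₀ : Submodule F (ι → F)} (hW : GE Q m W) (hW₀ : GE Q m W₀) :
    Cfsg.Geo.AreIsometricFor ⇑Q W W₀ := by
  obtain ⟨k, rfl⟩ : ∃ k, m = 2 * (k + 1) := by
    obtain ⟨j, hj⟩ := hme
    exact ⟨j - 1, by omega⟩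
  have c1 := card_of_ge hW
  have c2 := card_of_ge hW₀
  have hq0 : 0 < Fintype.card F := Fintype.card_pos
  have hc : Nat.card {v : W // res Q W v = 0} = Nat.card {v : W₀ // res Q W₀ v = 0} :=
    Nat.eq_of_mul_eq_mul_right hq0 (c1.trans c2.symm)
  have hS1 : Sep (res Q W) := sep_of_ge hW.2.1
  have hS2 : Sep (res Q W₀) := sep_of_ge hW₀.2.1
  obtain ⟨j, hj⟩ := exists_iso (res Q W) (res Q W₀) hS1 hS2 hW.1 hW₀.1 hc
  have hjinj := Cfsg.Agent.Lib.Helper8.HypHYPSUB.isom_inj hS1 j hj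
  have hdim : finrank F W = finrank F W₀ := by rw [hW.1, hW₀.1]
  exact ⟨LinearMap.linearEquivOfInjective j hjinj hdim, fun w => hj w⟩

/-- elliptic `m`-spaces are the nondegenerate `m`-spaces isometric to a fixed elliptic one -/
theorem ge_iff_gm {Q : QuadraticForm F (ι → F)} {m : ℕ} (hm2 : 2 ≤ m) (hme : Even m)
    {W₀ : Submodule F (ι → F)} (hW₀ : GE Q m W₀) (W : Submodule F (ι → F)) :
    GE Q m W ↔ GM Q m W₀ W := by
  constructor
  · intro hW
    exact ⟨hW.1, hW.2.1, iso_of_ge hm2 hme hW hW₀⟩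
  · rintro ⟨h1, h2, e, he⟩
    refine ⟨h1, h2, ?_⟩
    rintro ⟨T, hTW, hTs, hTd⟩
    apply hW₀.2.2
    refine ⟨((T.comap W.subtype).map (e : ↥W →ₗ[F] ↥W₀)).map W₀.subtype,
      Submodule.map_subtype_le _ _, ?_, ?_⟩
    · rintro w ⟨w₁, ⟨t, ht, rfl⟩, rfl⟩
      show Q ((e t : ↥W₀) : ι → F) = 0
      rw [he t]
      exact hTs _ ht
    · rw [Submodule.finrank_map_subtype_eq, LinearEquiv.finrank_map_eq,
        (Submodule.comapSubtypeEquivOfLe hTW).finrank_eq, hTd, h1, hW₀.1]

/-- for a nondegenerate `U` with `dim U < c` containing an elliptic `m`-space, `r` does not divide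
the number of elliptic `m`-spaces inside `U` (all `q`, any quadratic form on `ι → F`) -/
theorem ucard_gen (Q : QuadraticForm F (ι → F)) (p : ℕ) [Fact p.Prime] [CharP F p]
    (m : ℕ) (hm2 : 2 ≤ m) (hme : Even m) (r : ℕ) [Fact r.Prime] (hr2 : r ≠ 2) (hrp : r ≠ p)
    (U : Submodule F (ι → F)) (hU : Cfsg.Geo.IsNondegenerateOn (QuadraticMap.polar ⇑Q) U)
    (hUc : Module.finrank F ↥U < cc (orderOf ((Fintype.card F : ℕ) : ZMod r)))
    (hex : ∃ W₀ : Submodule F (ι → F), W₀ ≤ U ∧ GE Q m W₀) :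
    ¬ r ∣ Nat.card {W : Submodule F (ι → F) // GE Q m W ∧ W ≤ U} := by
  classical
  obtain ⟨W₀, hW₀U, hW₀E⟩ := hex
  have hW₀m : Module.finrank F ↥W₀ = m := hW₀E.1
  have hSep : ∀ x : ↥U, (∀ y : ↥U, QuadraticMap.polar (res Q U) x y = 0) → x = 0 :=
    sep_of_ge hU
  have hne : ∃ W' : Submodule F ↥U, AMem (res Q U) (res Q W₀) W' := by
    refine ⟨W₀.comap U.subtype, ?_⟩
    rw [amem_iff_gen Q U m W₀ hW₀m, Submodule.map_comap_subtype, inf_eq_right.mpr hW₀U]
    exact (ge_iff_gm hm2 hme hW₀E W₀).mp hW₀E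
  have key := Cfsg.Agent.Lib.Helper82.EPUCARDE.acardi_all F p ↥U (res Q U) hSep ↥W₀ (res Q W₀)
    r hr2 hrp hUc hne
  have hcard : Nat.card {W : Submodule F (ι → F) // GE Q m W ∧ W ≤ U} =
      Nat.card {W' : Submodule F ↥U // AMem (res Q U) (res Q W₀) W'} := by
    refine Nat.card_congr
      { toFun := fun W => ⟨W.1.comap U.subtype, ?_⟩
        invFun := fun W' => ⟨W'.1.map U.subtype,
          ⟨(ge_iff_gm hm2 hme hW₀E _).mpr ((amem_iff_gen Q U m W₀ hW₀m W'.1).mp W'.2),
          Submodule.map_subtype_le U W'.1⟩⟩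
        left_inv := ?_
        right_inv := ?_ }
    · rw [amem_iff_gen Q U m W₀ hW₀m, Submodule.map_comap_subtype, inf_eq_right.mpr W.2.2]
      exact (ge_iff_gm hm2 hme hW₀E _).mp W.2.1
    · intro W
      apply Subtype.ext
      show (W.1.comap U.subtype).map U.subtype = W.1
      rw [Submodule.map_comap_subtype, inf_eq_right.mpr W.2.2]
    · intro W'
      apply Subtype.ext
      show (W'.1.map U.subtype).comap U.subtype = W'.1
      exact Submodule.comap_map_eq_of_injective (Submodule.injective_subtype U) W'.1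
  rw [hcard]
  exact key

end Cfsg.Agent.Lib.Helper82.GenUCard
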