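import Mathlib
import Cfsg.Agent.Lib.Helper41.EMStmt
import Cfsg.Agent.Lib.Helper82.GenUCard

/-!
# S5990 / UCARDE (call by helper41): minus-form port of `Helper82.EPUCARDE` via the form-generic
`Helper82.GenUCard.ucard_gen`.
-/

set_option autoImplicit false

universe u

open scoped Matrix

namespace Cfsg.Agent.Lib.Helper82.EMUCARDE

open Cfsg.Agent.Lib.Helper41.EMStmt
open Cfsg.Agent.Lib.Helper37.HypStmt (cc)
open Cfsg.Agent.Lib.Helper45.OMiStmt (M Aniso FxM NDegM StabM)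
open Cfsg.Agent.Lib.Helper41.TMTwoStmt (PlusM)
open Cfsg.Agent.Lib.Helper44.NegPairs (minusQ)

theorem main (hSub : SubTypeE.{u}) : UCardE.{u} := by
  intro F _ _ a₀ b₀ hA p _ _ d m hm2 hme r _ hr2 hrp U hU hmU hUc
  obtain ⟨W₀, hW₀U, hW₀E⟩ := (hSub F a₀ b₀ hA d m U hU hme hmU).2 hm2
  exact Cfsg.Agent.Lib.Helper82.GenUCard.ucard_gen (minusQ (d - 1) F a₀ b₀) p m hm2 hme r hr2 hrp
    U hU hUc ⟨W₀, hW₀U, hW₀E⟩

end Cfsg.Agent.Lib.Helper82.EMUCARDE
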