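import Mathlib
import Cfsg.Agent.Lib.Helper88.FCStmt

set_option autoImplicit false

/-! S5293, piece [COMM]: the commutator subgroup of `C_S(T)` centralizes the normal subsystem. -/

namespace Cfsg.Agent.Lib.Helper82.FCCOMM

open Cfsg Cfsg.FusionSystem Cfsg.Agent.Lib.Helper88.WNStmt Cfsg.Agent.Lib.Helper88.FCStmt
open scoped commutatorElement

universe u

/-- a commutator is not changed by factors that commute with everything in sight -/
theorem comm_central {G : Type*} [Group G] (c d z w : G) (hzd : Commute z d)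
    (hwc : Commute w c) (hzw : Commute z w) :
    c * z * (d * w) * (c * z)⁻¹ * (d * w)⁻¹ = c * d * c⁻¹ * d⁻¹ := by
  rw [mul_inv_eq_iff_eq_mul, mul_inv_eq_iff_eq_mul, hzd.mul_mul_mul_comm c w]
  have e1 : c * d * c⁻¹ * d⁻¹ * (d * w) * (c * z) = c * d * (c⁻¹ * (w * c) * z) := by
    simp only [mul_assoc, inv_mul_cancel_left]
  rw [e1, hwc.eq, inv_mul_cancel_left, hzw.eq]

/-- piece [COMM] -/
theorem main (hGA : GoodAll.{u}) (hCC : CentCrit.{u}) : CommCentral.{u} := by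
  intro Ω _ S _ p _ hS F hF T E hE
  have hXle : ⁅centralizerIn S T, centralizerIn S T⁆ ≤ centralizerIn S T := by
    rw [Subgroup.commutator_le]
    intro a ha b hb
    rw [commutatorElement_def]
    exact Subgroup.mul_mem _ (Subgroup.mul_mem _ (Subgroup.mul_mem _ ha hb)
      (Subgroup.inv_mem _ ha)) (Subgroup.inv_mem _ hb)
  refine hCC p hS F hF E hE _ hXle ?_
  intro P hP φ hφ
  obtain ⟨ψ, hψ, hψP, hψC⟩ := hGA p hS F hF E hE P hP φ hφ
  have hPT : P ≤ T := hP.1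
  have hφT : ∀ x : P, φ x ∈ T := (E.le_of_mem hφ).2
  have hcent : centralizerIn T φ.range ≤ φ.range := hP.2 φ.range ⟨φ, hφ, rfl⟩
  have hC0 : ∀ c : Ω, c ∈ centralizerIn S T → ∀ t ∈ T, t * c = c * t := by
    intro c hc t ht
    exact (Subgroup.mem_centralizer_iff.mp hc.2) t ht
  -- the defect `z(c) = c⁻¹ ψ(c)` lies in `T`, centralizes `φ(P)` and lies in `φ(P)`
  have key : ∀ c : ↥(P ⊔ centralizerIn S T), (c : Ω) ∈ centralizerIn S T →
      ((c : Ω)⁻¹ * ψ c ∈ T) ∧ (∀ t ∈ φ.range, t * ((c : Ω)⁻¹ * ψ c) = ((c : Ω)⁻¹ * ψ c) * t) ∧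
        (c : Ω)⁻¹ * ψ c ∈ φ.range := by
    intro c hc
    have h1 : (c : Ω)⁻¹ * ψ c ∈ T := hψC c hc
    have h2 : ∀ t ∈ φ.range, t * ((c : Ω)⁻¹ * ψ c) = ((c : Ω)⁻¹ * ψ c) * t := by
      rintro t ⟨x, rfl⟩
      have e1 : φ x * (c : Ω) = (c : Ω) * φ x := hC0 c hc _ (hφT x)
      have e2 : (Subgroup.inclusion le_sup_left x : ↥(P ⊔ centralizerIn S T)) * c =
          c * Subgroup.inclusion le_sup_left x := by
        apply Subtype.ext
        exact hC0 c hc _ (hPT x.2)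
      have e3 : φ x * ψ c = ψ c * φ x := by
        rw [← hψP x, ← map_mul, ← map_mul, e2]
      have e4 : φ x * (c : Ω)⁻¹ = (c : Ω)⁻¹ * φ x := by
        rw [eq_inv_mul_iff_mul_eq, ← mul_assoc, ← e1, mul_inv_cancel_right]
      rw [← mul_assoc, e4, mul_assoc, e3, mul_assoc]
    exact ⟨h1, h2, hcent ⟨h1, Subgroup.mem_centralizer_iff.mpr h2⟩⟩
  -- the subgroup of fixed points of `ψ`
  let Fix : Subgroup Ω :=
    { carrier := {x | ∃ hx : x ∈ P ⊔ centralizerIn S T, ψ ⟨x, hx⟩ = x}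
      mul_mem' := by
        rintro x y ⟨hx, ex⟩ ⟨hy, ey⟩
        refine ⟨Subgroup.mul_mem _ hx hy, ?_⟩
        show ψ (⟨x, hx⟩ * ⟨y, hy⟩) = x * y
        rw [map_mul, ex, ey]
      one_mem' := ⟨Subgroup.one_mem _, map_one ψ⟩
      inv_mem' := by
        rintro x ⟨hx, ex⟩
        refine ⟨Subgroup.inv_mem _ hx, ?_⟩
        show ψ (⟨x, hx⟩⁻¹) = x⁻¹
        rw [map_inv, ex] }
  have hfix : ⁅centralizerIn S T, centralizerIn S T⁆ ≤ Fix := by
    rw [Subgroup.commutator_le]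
    intro c hc d hd
    have hc' : c ∈ P ⊔ centralizerIn S T := le_sup_right (a := P) hc
    have hd' : d ∈ P ⊔ centralizerIn S T := le_sup_right (a := P) hd
    obtain ⟨kc1, kc2, kc3⟩ := key ⟨c, hc'⟩ hc
    obtain ⟨kd1, kd2, kd3⟩ := key ⟨d, hd'⟩ hd
    have hcd : ⁅c, d⁆ ∈ P ⊔ centralizerIn S T := by
      rw [commutatorElement_def]
      exact Subgroup.mul_mem _ (Subgroup.mul_mem _ (Subgroup.mul_mem _ hc' hd')
        (Subgroup.inv_mem _ hc')) (Subgroup.inv_mem _ hd')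
    refine ⟨hcd, ?_⟩
    have e0 : (⟨⁅c, d⁆, hcd⟩ : ↥(P ⊔ centralizerIn S T)) =
        ⟨c, hc'⟩ * ⟨d, hd'⟩ * ⟨c, hc'⟩⁻¹ * ⟨d, hd'⟩⁻¹ := by
      apply Subtype.ext
      exact commutatorElement_def c d
    have ec : ψ ⟨c, hc'⟩ = c * (c⁻¹ * ψ ⟨c, hc'⟩) := (mul_inv_cancel_left c _).symm
    have ed : ψ ⟨d, hd'⟩ = d * (d⁻¹ * ψ ⟨d, hd'⟩) := (mul_inv_cancel_left d _).symm
    rw [e0, map_mul, map_mul, map_mul, map_inv, map_inv, ec, ed, commutatorElement_def]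
    exact comm_central c d _ _ (hC0 d hd _ kc1) (hC0 c hc _ kd1) (kd2 _ kc3)
  refine ⟨ψ.comp (Subgroup.inclusion (sup_le_sup_left hXle P)),
    Cfsg.Agent.H85.restrict_mem F hψ _, fun x => ?_, fun x => ?_⟩
  · exact hψP x
  · obtain ⟨hx, ex⟩ := hfix x.2
    exact ex

end Cfsg.Agent.Lib.Helper82.FCCOMM
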