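import Mathlib
import Cfsg.Agent.Lib.Helper75.NDStmt
import Cfsg.Agent.Lib.Helper16.Reynolds
import Cfsg.Agent.Lib.Helper16.MaxPair
import Cfsg.Agent.Lib.Helper16.Cover

/-!
# Piece EQD1 of S4890: a nilpotent block with normal defect group has trivial inertial quotient

`L = D C_G(D)`, `b` a block of `L` with defect group `D` covered by `B`, `T` the stabilizer of `b`.
* `p ∤ |T : L|` (defect of the unique covering block), so `p`-elements of `T` lie in `L`;
* `b` has the same idempotent as a block `e` of `C_G(D)`, `(D, e)` is a Brauer pair of `B`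
  (`e^L = b`, `b^G = B`), and `T` stabilizes `e`; nilpotency puts the `p`-regular elements of `T`
  into `C_G(D)`.
-/

set_option autoImplicit false

namespace Cfsg.Agent.Lib.Helper82.NdEQD1

open Cfsg Cfsg.Agent.Lib.Helper75.NDStmt
  Cfsg.Agent.Lib.Helper77.LocalRing Cfsg.Agent.Lib.Helper77.CentralChar
  Cfsg.Agent.Lib.Helper77.ClassSum Cfsg.Agent.Lib.Helper77.BlockIdem
  Cfsg.Agent.Lib.CT.Wedderburn Cfsg.Agent.Lib.Helper16.ZR
  Cfsg.Agent.Lib.Helper16.MinMax Cfsg.Agent.Lib.Helper16.Normal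
  Cfsg.Agent.Lib.Helper16.Fong Cfsg.Agent.Lib.Helper16.Defect
  Cfsg.Agent.Lib.Helper16.Transfer Cfsg.Agent.Lib.Helper16.Fong2
  Cfsg.Agent.Lib.Helper16.ExtFirst Cfsg.Agent.Lib.Helper16.ExtFirst2
  Cfsg.Agent.Lib.Helper77.BPTransport Cfsg.Agent.Lib.Helper77.BPStab
  Cfsg.Agent.Lib.Helper77.BPConj Cfsg.Agent.Lib.Helper77.BPBasic
  Cfsg.Agent.Lib.Helper16.UniqueCover Cfsg.Agent.Lib.Helper16.SylowBlocks
  Cfsg.Agent.Lib.Helper16.MaxPair Cfsg.Agent.Lib.Helper16.Reynolds

universe u

/-- an element with two coprime powers in a subgroup lies in it -/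
theorem mem_of_pow_mem_of_coprime {G : Type u} [Group G] (L : Subgroup G) (x : G) {a b : ℕ}
    (hab : Nat.Coprime a b) (ha : x ^ a ∈ L) (hb : x ^ b ∈ L) : x ∈ L := by
  have h := Nat.gcd_eq_gcd_ab a b
  rw [Nat.Coprime.gcd_eq_one hab] at h
  have hx : x = (x ^ a) ^ (Nat.gcdA a b) * (x ^ b) ^ (Nat.gcdB a b) := by
    rw [← zpow_natCast, ← zpow_natCast, ← zpow_mul, ← zpow_mul, ← zpow_add, ← h]
    simp
  rw [hx]
  exact L.mul_mem (L.zpow_mem ha _) (L.zpow_mem hb _)

theorem main : EQD1.{u} := by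
  intro G _ _ p _ M hM B hB D hDn _ hD hnil b hb hbD hcov t hst
  classical
  have hpp : p.Prime := Fact.out
  have hMp := isPrime_of_isPModular hM
  let _ : Fintype G := Fintype.ofFinite G
  have hDp : IsPGroup p D := by
    obtain ⟨g, -, hg⟩ := isDefectGroup_iff.mp hD
    exact hg.2.1
  have hDL : D ≤ D ⊔ Subgroup.centralizer (D : Set G) := le_sup_left
  have hCL : Subgroup.centralizer (D : Set G) ≤ D ⊔ Subgroup.centralizer (D : Set G) :=
    le_sup_right
  have hCn : (Subgroup.centralizer (D : Set G)).Normal := inferInstance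
  have hL : (D ⊔ Subgroup.centralizer (D : Set G)).Normal := inferInstance
  have hcomm : ∀ q ∈ D, ∀ c ∈ Subgroup.centralizer (D : Set G), q * c = c * q :=
    fun q hq c hc => Subgroup.mem_centralizer_iff.mp hc q hq
  obtain ⟨χ₀, hχ₀, θ₀, hθ₀, hcon₀⟩ := hcov
  -- the stabilizer of `b`
  obtain ⟨T, hT⟩ := exists_stab (D ⊔ Subgroup.centralizer (D : Set G)) hL b
  have hLT : D ⊔ Subgroup.centralizer (D : Set G) ≤ T := fun g hg => (hT g).mpr (fun θ hθ => by
    rw [cI_of_mem _ hL g hg θ]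
    exact hθ)
  let _ : Fintype T := Fintype.ofFinite T
  let _ : Fintype ((D ⊔ Subgroup.centralizer (D : Set G)).subgroupOf T) := Fintype.ofFinite _
  have hindL : IsInducedBlock M (D ⊔ Subgroup.centralizer (D : Set G)) b B :=
    Cfsg.Agent.Lib.Helper16.Cover2.isInducedBlock_of_cover hM D hDp _ hCL b hb B hB χ₀ hχ₀
      θ₀ hθ₀ hcon₀
  have huniq : ∀ C' : Set (IrrCharacter G), IsPBlock M C' →
      (∃ χ ∈ C', ∃ θ ∈ b, classInner (fun n : ↥(D ⊔ Subgroup.centralizer (D : Set G)) =>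
        (χ : G → ℂ) n) (θ : ↥(D ⊔ Subgroup.centralizer (D : Set G)) → ℂ) ≠ 0) → C' = B := by
    rintro C' hC' ⟨χ, hχ, θ, hθ, hne⟩
    exact induced_unique hMp _ b C' B
      (Cfsg.Agent.Lib.Helper16.Cover2.isInducedBlock_of_cover hM D hDp _ hCL b hb C' hC' χ hχ
        θ hθ hne) hindL
  have hdef := defect_of_unique_cover p hM _ hL T hLT b hb hT B hB
    ⟨χ₀, hχ₀, θ₀, hθ₀, hcon₀⟩ huniq
  have hcard1 := card_defectGroup p hM B hB D hD
  have hcard2 := card_defectGroup p hM b hb _ hbD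
  have hcard3 : Nat.card (D.subgroupOf (D ⊔ Subgroup.centralizer (D : Set G))) = Nat.card D :=
    Nat.card_congr (sIso D _ hDL).toEquiv
  have hdeq : blockDefect p B = blockDefect p b := by
    rw [hcard3, hcard1] at hcard2
    exact Nat.pow_right_injective hpp.two_le hcard2
  have hrel : ¬ p ∣ (D ⊔ Subgroup.centralizer (D : Set G)).relIndex T := by
    have h0 : ((D ⊔ Subgroup.centralizer (D : Set G)).relIndex T).factorization p = 0 := by omega
    have hne : (D ⊔ Subgroup.centralizer (D : Set G)).relIndex T ≠ 0 := by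
      intro h0'
      have h2 : (D ⊔ Subgroup.centralizer (D : Set G)).index
          = (D ⊔ Subgroup.centralizer (D : Set G)).relIndex T * T.index :=
        (Subgroup.relIndex_mul_index hLT).symm
      exact (Subgroup.index_ne_zero_of_finite (H := D ⊔ Subgroup.centralizer (D : Set G)))
        (by rw [h2, h0', zero_mul])
    intro hdvd
    have := hpp.factorization_pos_of_dvd hne hdvd
    omega
  -- `t ∈ T`
  have htT : t ∈ T := by
    have h1 : t⁻¹ ∈ T := by
      rw [hT]
      intro θ hθ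
      obtain ⟨θ', hθ', hconj⟩ := hst.2 θ hθ
      have h : cI _ hL t⁻¹ θ = θ' := by
        apply Subtype.ext
        funext n
        rw [cI_apply]
        have h1 := hconj ⟨t⁻¹ * n * t⁻¹⁻¹, hL.conj_mem n n.2 t⁻¹⟩ n (by simp [mul_assoc])
        exact h1.symm
      rw [h]
      exact hθ'
    have := T.inv_mem h1
    rwa [inv_inv] at this
  -- the block `e` of `C_G(D)` with the same idempotent as `b`
  have hn : ((Subgroup.centralizer (D : Set G)).subgroupOf
      (D ⊔ Subgroup.centralizer (D : Set G))).Normal := inferInstance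
  have hDn' : (D.subgroupOf (D ⊔ Subgroup.centralizer (D : Set G))).Normal := inferInstance
  have hDp' : IsPGroup p (D.subgroupOf (D ⊔ Subgroup.centralizer (D : Set G))) :=
    isPGroup_subgroupOf D _ hDp
  let _ : Fintype ↥((Subgroup.centralizer (D : Set G)).subgroupOf
      (D ⊔ Subgroup.centralizer (D : Set G))) := Fintype.ofFinite _
  obtain ⟨k, hk⟩ := index_pow D (Subgroup.centralizer (D : Set G)) _ hDp hDL hCL rfl
  obtain ⟨ξ', hξ'⟩ := Cfsg.Agent.Lib.Helper16.Cover.exists_constituent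
    ((Subgroup.centralizer (D : Set G)).subgroupOf (D ⊔ Subgroup.centralizer (D : Set G))) θ₀
  have hc : IsPBlock M (blockOf M ξ'.1) := isPBlock_blockOf ξ'
  have hξ'c : ξ' ∈ blockOf M ξ'.1 := mem_blockOf_self hMp ξ'
  have hstc := gstable_sup D (Subgroup.centralizer (D : Set G)) _ hDL hCL rfl hcomm hn
    (blockOf M ξ'.1)
  obtain ⟨b₀, hb₀, hidem, -, huniq₀⟩ :=
    exists_block_of_pow_index p hM _ hk (blockOf M ξ'.1) hc hstc
  have hbb : b = b₀ := huniq₀ b hb ⟨θ₀, hθ₀, ξ', hξ'c, hξ'⟩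
  subst hbb
  obtain ⟨e, he_def⟩ : ∃ e : Set (IrrCharacter (Subgroup.centralizer (D : Set G))),
      e = pull (sIso (Subgroup.centralizer (D : Set G)) _ hCL).symm '' blockOf M ξ'.1 :=
    ⟨_, rfl⟩
  have he : IsPBlock M e := by
    rw [he_def]
    exact isPBlock_pull _ hc
  have hce : pull (sIso (Subgroup.centralizer (D : Set G)) _ hCL) '' e
      = blockOf M ξ'.1 := by
    rw [he_def]
    exact pull_image_pull_symm_image _ _
  have hext : ext (D ⊔ Subgroup.centralizer (D : Set G)) (blockIdem b)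
      = ext (Subgroup.centralizer (D : Set G)) (blockIdem e) := by
    apply MonoidAlgebra.coeff_injective
    ext g
    rw [coeff_ext, coeff_ext]
    by_cases hgC : g ∈ Subgroup.centralizer (D : Set G)
    · have hgL : g ∈ D ⊔ Subgroup.centralizer (D : Set G) := hCL hgC
      rw [dif_pos hgL, dif_pos hgC, ← hidem]
      have h1 := coeff_iota_coe ((Subgroup.centralizer (D : Set G)).subgroupOf
        (D ⊔ Subgroup.centralizer (D : Set G))) (blockIdem (blockOf M ξ'.1))
        ⟨⟨g, hgL⟩, Subgroup.mem_subgroupOf.mpr hgC⟩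
      rw [h1, coeff_blockIdem, coeff_blockIdem, ← hce, blockCoeff_pull]
      congr 1
    · rw [dif_neg hgC]
      by_cases hgL : g ∈ D ⊔ Subgroup.centralizer (D : Set G)
      · rw [dif_pos hgL, ← hidem]
        exact coeff_iota_of_not_mem _ _ _ (fun h => hgC (Subgroup.mem_subgroupOf.mp h))
      · rw [dif_neg hgL]
  -- `(D, e)` is a Brauer pair of `B`
  have hindC' : IsInducedBlock M ((Subgroup.centralizer (D : Set G)).subgroupOf
      (D ⊔ Subgroup.centralizer (D : Set G))) (blockOf M ξ'.1) b := by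
    apply Cfsg.Agent.Lib.Helper16.Cover2.isInducedBlock_of_cover hM
      (D.subgroupOf (D ⊔ Subgroup.centralizer (D : Set G))) hDp' _ ?_ _ hc b hb θ₀ hθ₀ ξ' hξ'c hξ'
    intro l hl
    rw [Subgroup.mem_subgroupOf, Subgroup.mem_centralizer_iff]
    intro q hq
    have h1 := Subgroup.mem_centralizer_iff.mp hl ⟨q, hDL hq⟩ (Subgroup.mem_subgroupOf.mpr hq)
    exact congrArg Subtype.val h1
  have hindC : IsInducedBlock M (Subgroup.centralizer (D : Set G)) e B := by
    rw [he_def]
    exact isInducedBlock_trans hMp _ _ hCL _ b B hindC' hindL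
  have hpair : IsBrauerPairOf p M B D e :=
    (Cfsg.Agent.Lib.Helper77.BPInd.isBrauerPairOf_iff_isInducedBlock hM D hDp e B).mpr hindC
  have hNtop : ∀ x : G, x ∈ Subgroup.normalizer (D : Set G) := by
    intro x
    rw [Subgroup.normalizer_eq_top D]
    exact Subgroup.mem_top x
  -- `p`-regular elements of `T` centralize `D`
  have hreg : ∀ x ∈ T, IsPRegular p x → x ∈ D ⊔ Subgroup.centralizer (D : Set G) := by
    intro x hx hxr
    apply hCL
    refine hnil.2 D e hpair x (hNtop x) ?_ hxr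
    rw [← stab_iff D e b hext x (hNtop x)]
    intro θ hθ θ' hθ'
    have h1 : cI _ hL x⁻¹ θ ∈ b := (hT x⁻¹).mp (T.inv_mem hx) θ hθ
    have h2 : θ' = cI _ hL x⁻¹ θ := by
      apply Subtype.ext
      funext n
      rw [cI_apply]
      exact hθ' ⟨x⁻¹ * n * x⁻¹⁻¹, hL.conj_mem n n.2 x⁻¹⟩ n (by simp [mul_assoc])
    rw [h2]
    exact h1
  -- powers
  have hpow : ∀ x ∈ T, x ^ ((D ⊔ Subgroup.centralizer (D : Set G)).relIndex T)
      ∈ D ⊔ Subgroup.centralizer (D : Set G) := by
    intro x hx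
    have hnT : ((D ⊔ Subgroup.centralizer (D : Set G)).subgroupOf T).Normal := inferInstance
    have h1 := Subgroup.pow_index_mem ((D ⊔ Subgroup.centralizer (D : Set G)).subgroupOf T)
      (⟨x, hx⟩ : T)
    rw [Subgroup.mem_subgroupOf] at h1
    exact h1
  obtain ⟨a, m, hm, hord⟩ := Nat.exists_eq_pow_mul_and_not_dvd (orderOf_pos t).ne' p hpp.ne_one
  have hcop : Nat.Coprime m (p ^ a) :=
    Nat.Coprime.pow_right a ((Nat.Prime.coprime_iff_not_dvd hpp).mpr hm).symm
  -- the `p`-part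
  have h1 : t ^ m ∈ D ⊔ Subgroup.centralizer (D : Set G) := by
    have hcop' : Nat.Coprime ((D ⊔ Subgroup.centralizer (D : Set G)).relIndex T) (p ^ a) :=
      Nat.Coprime.pow_right a ((Nat.Prime.coprime_iff_not_dvd hpp).mpr hrel).symm
    apply mem_of_pow_mem_of_coprime _ _ hcop' (hpow _ (T.pow_mem htT m))
    rw [← pow_mul, mul_comm, ← hord, pow_orderOf_eq_one]
    exact Subgroup.one_mem _
  -- the `p'`-part
  have h2 : t ^ (p ^ a) ∈ D ⊔ Subgroup.centralizer (D : Set G) := by
    apply hreg _ (T.pow_mem htT _)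
    intro hdvd
    apply hm
    apply hdvd.trans
    apply orderOf_dvd_of_pow_eq_one
    rw [← pow_mul, ← hord, pow_orderOf_eq_one]
  exact mem_of_pow_mem_of_coprime _ _ hcop h1 h2

end Cfsg.Agent.Lib.Helper82.NdEQD1
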