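import Mathlib
import Cfsg.Agent.Lib.Helper56.PEStmt

/-!
# S2276 / ARITH: distinct powers `p ^ i`, `i < a`, `p ≥ 3`, sum to less than `p ^ a / 2`
-/

set_option autoImplicit false

namespace Cfsg.Agent.Lib.Helper82.PEARITH

open Cfsg.Agent.Lib.Helper56

theorem main : PEStmt.Arith := by
  intro p hp a
  induction a with
  | zero =>
    intro m _ hm
    have h0 : m = 0 := by
      apply Multiset.eq_zero_of_forall_notMem
      intro x hx
      obtain ⟨i, hi, -⟩ := hm x hx
      omega
    rw [h0]
    simp
  | succ a ih =>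
    intro m hnd hm
    by_cases hmem : p ^ a ∈ m
    · have h1 := ih (m.erase (p ^ a)) (hnd.erase _) (by
        intro x hx
        obtain ⟨i, hi, rfl⟩ := hm x (Multiset.mem_of_mem_erase hx)
        refine ⟨i, ?_, rfl⟩
        have hne : p ^ i ≠ p ^ a := ((Multiset.Nodup.mem_erase_iff hnd).mp hx).1
        have hia : i ≠ a := fun h => hne (by rw [h])
        omega)
      have h2 : p ^ a + (m.erase (p ^ a)).sum = m.sum := Multiset.sum_erase hmem
      have h3 : p ^ a * 3 ≤ p ^ a * p := Nat.mul_le_mul_left _ hp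
      rw [← h2, pow_succ]
      omega
    · have h1 := ih m hnd (by
        intro x hx
        obtain ⟨i, hi, rfl⟩ := hm x hx
        refine ⟨i, ?_, rfl⟩
        have hia : i ≠ a := fun h => hmem (h ▸ hx)
        omega)
      calc 2 * m.sum < p ^ a := h1
        _ ≤ p ^ (a + 1) := Nat.pow_le_pow_right (by omega) (by omega)

end Cfsg.Agent.Lib.Helper82.PEARITH
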