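import Mathlib
import Cfsg.Agent.Lib.Helper56.PEStmt

/-!
# S2276 / FIX: a `p`-element has `#Fix ≡ card (mod p)`
-/

set_option autoImplicit false

namespace Cfsg.Agent.Lib.Helper82.PEFIX

open Cfsg.Agent.Lib.Helper56

theorem main : PEStmt.FixCert := by
  intro α _ _ p hp f ⟨k, hk⟩
  have hfact : Fact p.Prime := ⟨hp⟩
  have hf : f ^ p ^ k = 1 := by
    rw [← hk]
    exact pow_orderOf_eq_one f
  have h1 := Equiv.Perm.card_compl_support_modEq (p := p) (n := k) hf
  have h2 : f.supportᶜ = Finset.univ.filter (fun x => f x = x) := by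
    ext x
    simp [Equiv.Perm.mem_support]
  rw [h2] at h1
  exact h1

end Cfsg.Agent.Lib.Helper82.PEFIX
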