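import Mathlib
import Cfsg.Agent.Lib.Helper56.PEStmt

/-!
# S2276 / GREEDY: powers of `p` dividing `p ^ a` with total at least `p ^ a` contain a
sub-multiset of sum exactly `p ^ a`
-/

set_option autoImplicit false

namespace Cfsg.Agent.Lib.Helper82.PEGREEDY

open Cfsg.Agent.Lib.Helper56

theorem main : PEStmt.Greedy := by
  intro p hp a m
  induction m using Multiset.strongInductionOn with
  | ih m ih =>
    intro hm hsum
    by_cases heq : m.sum = p ^ a
    · exact ⟨m, le_refl _, heq⟩
    · have hlt : p ^ a < m.sum := lt_of_le_of_ne hsum (Ne.symm heq)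
      have hne : m ≠ 0 := by
        rintro rfl
        simp at hlt
      obtain ⟨q, hq', hmin'⟩ := m.toFinset.exists_min_image (fun x : ℕ => x)
        (Multiset.toFinset_nonempty.mpr hne)
      have hq : q ∈ m := Multiset.mem_toFinset.mp hq'
      have hmin : ∀ x ∈ m, q ≤ x := fun x hx => hmin' x (Multiset.mem_toFinset.mpr hx)
      have hlt' : m.erase q < m := Multiset.erase_lt.mpr hq
      have hsum' : q + (m.erase q).sum = m.sum := Multiset.sum_erase hq
      by_cases hge : p ^ a ≤ (m.erase q).sum
      · obtain ⟨m₁, hm₁, hs₁⟩ := ih (m.erase q) hlt'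
          (fun x hx => hm x (Multiset.mem_of_mem_erase hx)) hge
        exact ⟨m₁, hm₁.trans (Multiset.erase_le q m), hs₁⟩
      · exfalso
        have hge' : (m.erase q).sum < p ^ a := Nat.lt_of_not_le hge
        obtain ⟨j, hj, hqj⟩ := hm q hq
        have hd1 : q ∣ (m.erase q).sum := by
          apply Multiset.dvd_sum
          intro x hx
          have hxm := Multiset.mem_of_mem_erase hx
          obtain ⟨i, hi, rfl⟩ := hm x hxm
          have hle : p ^ j ≤ p ^ i := hqj ▸ hmin _ hxm
          rw [hqj]
          exact pow_dvd_pow p ((Nat.pow_le_pow_iff_right hp.one_lt).mp hle)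
        have hd2 : q ∣ p ^ a := by
          rw [hqj]
          exact pow_dvd_pow p hj
        obtain ⟨s, hs⟩ := hd1
        obtain ⟨t, ht⟩ := hd2
        have hpos : 0 < q := by
          rw [hqj]
          exact pow_pos hp.pos j
        rw [← hsum', hs, ht] at hlt
        rw [hs, ht] at hge'
        have h1 : s < t := Nat.lt_of_mul_lt_mul_left hge'
        have h2 : q * t < q * (s + 1) := by
          rw [Nat.mul_succ]
          omega
        have h3 : t < s + 1 := Nat.lt_of_mul_lt_mul_left h2
        omega

end Cfsg.Agent.Lib.Helper82.PEGREEDY
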