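import Mathlib
import Cfsg.Agent.Lib.Helper56.PEStmt

/-!
# S2276 / ODDC: an odd permutation in the centralizer of `τ` (repeated cycle length or two fixed
points)
-/

set_option autoImplicit false

namespace Cfsg.Agent.Lib.Helper82.PEODDC

open Cfsg.Agent.Lib.Helper56

theorem main : PEStmt.OddCent := by
  intro α _ _ τ h
  have hnot : ¬ (Subgroup.centralizer {τ} ≤ alternatingGroup α) := by
    rw [Equiv.Perm.centralizer_le_alternating_iff]
    rintro ⟨-, h2, h3⟩
    rcases h with h | h
    · exact h (Multiset.nodup_iff_count_le_one.mpr h3)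
    · omega
  rw [SetLike.not_le_iff_exists] at hnot
  obtain ⟨κ, hκ, hκA⟩ := hnot
  refine ⟨κ, ?_, Subgroup.mem_centralizer_singleton_iff.mp hκ⟩
  rw [Equiv.Perm.mem_alternatingGroup] at hκA
  exact (Int.units_eq_one_or _).resolve_left hκA

end Cfsg.Agent.Lib.Helper82.PEODDC
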