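import Mathlib
import Cfsg.Agent.Lib.Helper44.PGStmt
import Cfsg.Agent.Lib.Helper42.SpOrdD
import Cfsg.Agent.Lib.Helper82.BCPSPELT

/-!
# S2474 piece CSUF2 (helper82)

`PSp(2n, q)`, `q` odd, has an element of order `p * s` when `s` lives in a torus block of rank
`k ≤ n - 1`: the image of the block sum of a transvection of `Sp_2` and a torus element.
-/

set_option autoImplicit false

namespace Cfsg.Agent.Lib.Helper82.PGCSUF2

open Matrix
open Cfsg.Agent.Lib.Helper44.PGStmt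
open Cfsg.Agent.Lib.Helper42.SpOrdC Cfsg.Agent.Lib.Helper42.SpOrdD
open Cfsg.Agent.Lib.Helper43.SpBasic
open Cfsg.Agent.Lib.Helper82.BCPSPELT

universe u

/-- the projective order of the block sum of the transvection `U0` of `Sp_2` with a symplectic
matrix `X₂` whose powers are trivial exactly for the multiples of `M`, `M` prime to `p` -/
theorem order_sum (hS : SpSum.{u}) (F : Type u) [Field F] (p : ℕ) [CharP F p]
    (n b : ℕ) (hb : 1 + b ≤ n) (X₂ : Matrix.symplecticGroup (Fin b) F) (M : ℕ)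
    (hX : ∀ j : ℕ, (X₂ : Matrix (Fin b ⊕ Fin b) (Fin b ⊕ Fin b) F) ^ j = 1 ↔ M ∣ j)
    (hcop : Nat.Coprime p M) : ∃ g : Cfsg.PSp n F, orderOf g = p * M := by
  obtain ⟨Y, hY1, hY2⟩ := hS F 1 b n hb U0 X₂
  refine ⟨pr Y, ?_⟩
  apply orderOf_eq_of_pow_iff
  intro j
  rw [pr_pow_eq_one_iff (by omega)]
  constructor
  · rintro ⟨c, -, hc⟩
    obtain ⟨h1, h3⟩ := hY2 j c hc
    obtain ⟨hc1, hpj⟩ := U0_pow_scalar p j c h1
    rw [hc1, one_smul] at h3
    exact Nat.Coprime.mul_dvd_of_dvd_of_dvd hcop hpj ((hX j).mp h3)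
  · intro h
    refine ⟨1, one_mul 1, ?_⟩
    rw [one_smul]
    have h1 : (U0 : Matrix.symplecticGroup (Fin 1) F) ^ j = 1 :=
      (sp_pow_eq_one_iff _ j).mpr (U0_pow_of_dvd p j ((dvd_mul_right _ _).trans h))
    have h3 : X₂ ^ j = 1 :=
      (sp_pow_eq_one_iff _ j).mpr ((hX j).mpr ((dvd_mul_left _ _).trans h))
    exact (sp_pow_eq_one_iff _ j).mp ((hY1 j).mpr ⟨h1, h3⟩)

theorem two_ne_zero_of_char {F : Type u} [Field F] (p : ℕ) [Fact p.Prime] [CharP F p]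
    (hp2 : p ≠ 2) : (2 : F) ≠ 0 := by
  intro h
  have hp : p.Prime := Fact.out
  have h1 : ((2 : ℕ) : F) = 0 := by exact_mod_cast h
  have h3 := (CharP.cast_eq_zero_iff F p 2).mp h1
  exact hp2 ((Nat.prime_dvd_prime_iff_eq hp Nat.prime_two).mp h3)

theorem main (hS : SpSum.{u}) : CSufII.{u} := by
  intro F _ _ p _ _ hp2 n hn s hs hs2 hsp hcrit
  obtain ⟨k, hk1, hkn, htor⟩ := hcrit
  have hp : p.Prime := Fact.out
  have h2 : (2 : F) ≠ 0 := two_ne_zero_of_char p hp2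
  have hs3 : 3 ≤ s := by
    have := hs.two_le
    omega
  obtain ⟨b, hb1, hbk, X₂, hX₂⟩ : ∃ b, 1 ≤ b ∧ b ≤ k ∧
      ∃ X : Matrix.symplecticGroup (Fin b) F, orderOf X = s := by
    rcases htor with h | h
    · obtain ⟨X, hX⟩ := exists_torus_minus p k hk1 s h
      exact ⟨k, hk1, le_rfl, X, hX⟩
    · exact exists_torus_plus p h2 k hk1 s h hs3
  have hcop : Nat.Coprime p s := (Nat.coprime_primes hp hs).mpr (Ne.symm hsp)
  obtain ⟨g, hg⟩ := order_sum hS F p n b (by omega) X₂ s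
    (fun j => by rw [← sp_pow_eq_one_iff, ← hX₂, orderOf_dvd_iff_pow_eq_one]) hcop
  exact ⟨g, hg⟩

end Cfsg.Agent.Lib.Helper82.PGCSUF2
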