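import Mathlib
import Cfsg.Agent.Lib.Helper44.PGStmt
import Cfsg.Agent.Lib.Helper82.PGCSUF2

/-!
# S2474 piece CSUF3 (helper82)

`PSp(2n, q)`, `q` odd, `n ≥ 3`, has an element of order `2 * p`: the image of the block sum of a
transvection of `Sp_2` and `-1 ∈ Sp_2`.
-/

set_option autoImplicit false

namespace Cfsg.Agent.Lib.Helper82.PGCSUF3

open Matrix
open Cfsg.Agent.Lib.Helper44.PGStmt

universe u

theorem main (hS : SpSum.{u}) : CIII.{u} := by
  intro F _ _ p _ _ hp2 n hn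
  have hp : p.Prime := Fact.out
  have h2 : (2 : F) ≠ 0 := Cfsg.Agent.Lib.Helper82.PGCSUF2.two_ne_zero_of_char p hp2
  have hcop : Nat.Coprime p 2 := (Nat.coprime_primes hp Nat.prime_two).mpr hp2
  have hneg : (-1 : Matrix (Fin 1 ⊕ Fin 1) (Fin 1 ⊕ Fin 1) F) ∈
      Matrix.symplecticGroup (Fin 1) F := SymplecticGroup.neg_mem (one_mem _)
  have hX : ∀ j : ℕ, (-1 : Matrix (Fin 1 ⊕ Fin 1) (Fin 1 ⊕ Fin 1) F) ^ j = 1 ↔ 2 ∣ j := by
    intro j
    constructor
    · intro h
      by_contra hodd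
      have hodd' : Odd j := Nat.not_even_iff_odd.mp (fun he => hodd (even_iff_two_dvd.mp he))
      rw [hodd'.neg_one_pow] at h
      have h1 := congrFun (congrFun h (Sum.inl 0)) (Sum.inl 0)
      rw [Matrix.neg_apply, Matrix.one_apply_eq] at h1
      apply h2
      have h3 : (1 : F) + 1 = 0 := by
        nth_rewrite 1 [← h1]
        exact neg_add_cancel 1
      rw [← one_add_one_eq_two]
      exact h3
    · intro h
      exact (even_iff_two_dvd.mpr h).neg_one_pow
  obtain ⟨g, hg⟩ := Cfsg.Agent.Lib.Helper82.PGCSUF2.order_sum hS F p n 1 (by omega)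
    ⟨-1, hneg⟩ 2 hX hcop
  exact ⟨g, by rw [hg, mul_comm]⟩

end Cfsg.Agent.Lib.Helper82.PGCSUF3
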