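import Mathlib
import Cfsg.Agent.Lib.Helper85.PPStmt
import Cfsg.Agent.H85.Basic
import Cfsg.Agent.H85.Aut
import Cfsg.Agent.S5077

set_option autoImplicit false

/-! S5113, piece [HB]: from the induction hypothesis on fully normalized subgroups to all bigger
subgroups of `T` containing `Q`. -/

namespace Cfsg.Agent.Lib.Helper82.PPHB

open Cfsg Cfsg.FusionSystem Cfsg.Agent.Lib.Helper85.PPStmt

universe u v

/-- piece [HB] -/
theorem main (hRC : RigidConj.{u, v}) (hDI : DegInv.{u, v}) : BigRigid.{u, v} := by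
  intro Ω _ S _ p _ hS F hF A _ δ T hD Q hQ hQT hCQ hIH M hMT hQM hcard
  have hMS : M ≤ S := hMT.trans hD.le
  obtain ⟨M', hMM', hM'⟩ := Cfsg.Agent.S5077.exists_fullyNormalized F hMS
  obtain ⟨lam, hlam, hrange⟩ := hMM'
  have hlamT : ∀ x : M, lam x ∈ T := by
    intro x
    have h1 := hDI Ω S p hS F hF A δ T hD M lam hlam x
    have h2 : δ ⟨x, (F.le_of_mem hlam).1 x.2⟩ = 1 := (hD.ker _).mpr (hMT x.2)
    rw [h2] at h1
    exact (hD.ker _).mp h1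
  have hM'T : M' ≤ T := by
    rw [← hrange]
    rintro _ ⟨x, rfl⟩
    exact hlamT x
  have hcardM' : Nat.card M' = Nat.card M := by
    rw [← hrange]
    exact (Nat.card_congr (Equiv.ofInjective lam (F.injective_of_mem hlam))).symm
  have hCM' : centralizerIn S M' ≤ T := by
    intro c hc
    obtain ⟨lamQ, hlamQdef⟩ : ∃ lamQ : Q →* Ω, lamQ = lam.comp (Subgroup.inclusion hQM) :=
      ⟨_, rfl⟩
    have hlamQ : lamQ ∈ F.Hom Q := by
      rw [hlamQdef]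
      exact Cfsg.Agent.H85.restrict_mem F hlam hQM
    obtain ⟨χ, hχ, hχx⟩ := F.inv_mem hlamQ
    have hχrange : χ.range = Q := by
      ext y
      constructor
      · rintro ⟨⟨_, ⟨x, rfl⟩⟩, rfl⟩
        rw [hχx x]
        exact x.2
      · intro hy
        exact ⟨⟨lamQ ⟨y, hy⟩, ⟨⟨y, hy⟩, rfl⟩⟩, hχx ⟨y, hy⟩⟩
    have hsat := (Cfsg.Agent.S5077.result p hS F).mp hF
    have hrecQ : F.IsReceptive Q := hsat.2 Q (hsat.1 Q hQ).1
    obtain ⟨ψ, hψ, hψx⟩ := Cfsg.Agent.H85.receptive_extend_sup F hrecQ hχ hχrange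
    have hcQ1 : c ∈ centralizerIn S lamQ.range := by
      refine ⟨hc.1, Subgroup.mem_centralizer_iff.mpr ?_⟩
      rintro _ ⟨x, rfl⟩
      have hx : lamQ x ∈ M' := by
        rw [← hrange, hlamQdef]
        exact ⟨_, rfl⟩
      exact (Subgroup.mem_centralizer_iff.mp hc.2) _ hx
    have hc' : c ∈ lamQ.range ⊔ centralizerIn S lamQ.range :=
      (le_sup_right : centralizerIn S lamQ.range ≤ lamQ.range ⊔ centralizerIn S lamQ.range) hcQ1
    have h3 : ψ ⟨c, hc'⟩ ∈ centralizerIn S Q :=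
      Cfsg.Agent.H85.map_centralizer_mem F (Q := Q) hψ
        (fun y hy => ⟨⟨lamQ ⟨y, hy⟩, ⟨⟨y, hy⟩, rfl⟩⟩, by rw [hψx]; exact hχx ⟨y, hy⟩⟩)
        ⟨c, hc'⟩ hcQ1
    have h4 : ψ ⟨c, hc'⟩ ∈ T := hCQ h3
    have h5 := hDI Ω S p hS F hF A δ T hD _ ψ hψ ⟨c, hc'⟩
    have h6 : δ ⟨ψ ⟨c, hc'⟩, (F.le_of_mem hψ).2 ⟨c, hc'⟩⟩ = 1 := (hD.ker _).mpr h4
    rw [h6] at h5
    exact (hD.ker _).mp h5.symm
  have hRM' : Rigid F p δ M' := hIH M' hM' hM'T hCM' (by rw [hcardM']; exact hcard)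
  obtain ⟨χ, hχ, hχx⟩ := F.inv_mem hlam
  subst hrange
  refine hRC Ω S p hS F hF A δ lam.range M χ hχ ?_ (fun y => ⟨⟨lam y, ⟨y, rfl⟩⟩, hχx y⟩) hRM'
  rintro ⟨_, ⟨y, rfl⟩⟩
  rw [hχx y]
  exact y.2

end Cfsg.Agent.Lib.Helper82.PPHB
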