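import Mathlib
import Cfsg.Agent.Lib.Helper85.PPStmt

set_option autoImplicit false

/-! S5113, piece [LU]: the local degree on `Aut_F(Q)` is unique. -/

namespace Cfsg.Agent.Lib.Helper82.PPLU

open Cfsg Cfsg.FusionSystem Cfsg.Agent.Lib.Helper85.PPStmt

universe u v

/-- piece [LU] -/
theorem main (hLK : LocalKer.{u, v}) : LDegUniq.{u, v} := by
  intro Ω _ S _ p _ hS F hF A _ δ T hD Q hQ hC γ a b ha hb
  obtain ⟨n, r, hn, hr, hra, hγ⟩ := ha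
  obtain ⟨n', r', hn', hr', hrb, hγ'⟩ := hb
  have hmem : n' * n⁻¹ ∈ pResidual p (F.autGroup Q) :=
    Subgroup.mul_mem _ hn' (Subgroup.inv_mem _ hn)
  have hact : ∀ x : Q, ((((n' * n⁻¹ : F.autGroup Q) : MulAut Q) x : Q) : Ω) =
      ((r'⁻¹ * r : S) : Ω) * (x : Ω) * ((r'⁻¹ * r : S) : Ω)⁻¹ := by
    intro x
    obtain ⟨y, hy⟩ : ∃ y : Q, y = ((n⁻¹ : F.autGroup Q) : MulAut Q) x := ⟨_, rfl⟩
    have hx : x = (n : MulAut Q) y := by
      rw [hy]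
      show x = (n : MulAut Q) (((n : MulAut Q)⁻¹) x)
      rw [MulAut.apply_inv_self]
    have e1 : (((n' * n⁻¹ : F.autGroup Q) : MulAut Q) x : Q) = (n' : MulAut Q) y := by
      rw [hy]
      rfl
    have e2 : (r : Ω) * (((n : MulAut Q) y : Q) : Ω) * (r : Ω)⁻¹ =
        (r' : Ω) * (((n' : MulAut Q) y : Q) : Ω) * (r' : Ω)⁻¹ := by
      rw [← hγ y, ← hγ' y]
    rw [e1, hx]
    have e3 : (((n' : MulAut Q) y : Q) : Ω) =
        (r' : Ω)⁻¹ * ((r : Ω) * (((n : MulAut Q) y : Q) : Ω) * (r : Ω)⁻¹) * (r' : Ω) := by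
      rw [e2]
      group
    rw [e3]
    show _ = ((r' : Ω)⁻¹ * (r : Ω)) * _ * ((r' : Ω)⁻¹ * (r : Ω))⁻¹
    group
  have h1 := hLK Ω S p hS F hF A δ T hD Q hQ hC (r'⁻¹ * r) (n' * n⁻¹) hmem hact
  rw [map_mul, map_inv, hra, hrb, inv_mul_eq_one] at h1
  exact h1.symm

end Cfsg.Agent.Lib.Helper82.PPLU
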