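import Mathlib
import Cfsg.Agent.Lib.Helper82.FratSZ
import Cfsg.Agent.Lib.Helper82.RankQuot
import Cfsg.Agent.Lib.Helper80.FongB0
import Cfsg.Agent.Lib.Helper80.IndDeg
import Cfsg.Agent.Lib.CT.LinChar
import Cfsg.Agent.Lib.CT.Kernel
import Cfsg.Agent.Lib.CT.Wedderburn

/-!
Principal blocks of `p`-solvable and `q`-solvable groups for two different primes: if every
irreducible character of `p'`-degree in the principal `p`-block lies in the principal `q`-block
(and conversely with `q'`-degree), then `p = q`.  Namespace `Cfsg.Agent.Lib.Helper82.PQBlock`.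
-/

set_option autoImplicit false

namespace Cfsg.Agent.Lib.Helper82.PQBlock

open Cfsg Subgroup
open Cfsg.Agent.Lib.Helper82.FratSZ Cfsg.Agent.Lib.Helper76.PSolv

universe u

/-- An element of a finite group killed by all homomorphisms to `ℂˣ` lies in the derived
subgroup. -/
theorem mem_commutator_of_forall_hom {P : Type u} [Group P] [Finite P] (x : P)
    (h : ∀ f : P →* ℂˣ, f x = 1) : x ∈ commutator P := by
  classical
  by_contra hx
  have hne : Abelianization.of x ≠ 1 := by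
    intro h1
    exact hx ((QuotientGroup.eq_one_iff x).mp h1)
  have hnz : NeZero ((Monoid.exponent (Abelianization P) : ℕ) : ℂ) :=
    ⟨Nat.cast_ne_zero.mpr Monoid.exponent_ne_zero_of_finite⟩
  obtain ⟨φ, hφ⟩ := CommGroup.exists_apply_ne_one_of_hasEnoughRootsOfUnity (Abelianization P) ℂ hne
  exact hφ (h (φ.comp Abelianization.of))

variable {G : Type u} [Group G]

/-- The character-theoretic step: the image of `O_{q'}(G)` in `G / O_{p'}(G)` meets a Sylow
`p`-subgroup inside its derived subgroup. -/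
theorem char_step [Finite G] (p q : ℕ) [Fact p.Prime] [Fact q.Prime]
    (hps : IsPSolvable p G) (hqs : IsPSolvable q G) (Mp Mq : Ideal AlgInt)
    (hMp : IsPModular p Mp) (hMq : IsPModular q Mq)
    (h : ∀ χ : IrrCharacter G, (χ ∈ principalBlock Mp G ∧ ¬ p ∣ charDegree (χ : G → ℂ)) →
      (χ ∈ principalBlock Mq G ∧ ¬ q ∣ charDegree (χ : G → ℂ)))
    (P : Sylow p (G ⧸ pPrimeCore p G)) (x : G ⧸ pPrimeCore p G)
    (hx : x ∈ (pPrimeCore q G).map (QuotientGroup.mk' (pPrimeCore p G)))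
    (hxP : x ∈ (P : Subgroup (G ⧸ pPrimeCore p G))) :
    (⟨x, hxP⟩ : ↥(P : Subgroup (G ⧸ pPrimeCore p G)))
      ∈ commutator ↥(P : Subgroup (G ⧸ pPrimeCore p G)) := by
  classical
  apply mem_commutator_of_forall_hom
  intro lam
  set A := pPrimeCore p G with hA
  have : Fintype (G ⧸ A) := Fintype.ofFinite _
  have : Fintype ↥(P : Subgroup (G ⧸ A)) := Fintype.ofFinite _
  have hθ := Cfsg.Agent.Lib.CT.LinChar.isCharacter_of_hom lam
  have hdeg : charDegree (fun g => ((lam g : ℂˣ) : ℂ)) = 1 := by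
    show ⌊(((lam 1 : ℂˣ) : ℂ)).re⌋₊ = 1
    rw [map_one]; simp
  obtain ⟨χb, hne, hnd⟩ := Cfsg.Agent.Lib.Helper80.IndDeg.exists_constituent_not_dvd
    (P : Subgroup (G ⧸ A)) (fun g => ((lam g : ℂˣ) : ℂ)) hθ p
    (by rw [hdeg, mul_one]; exact P.not_dvd_index)
  set χ := Cfsg.Agent.Lib.Helper82.RankQuot.infl A χb with hχ
  have hval : ∀ g : G, (χ : G → ℂ) g = (χb : G ⧸ A → ℂ) (g : G ⧸ A) :=
    Cfsg.Agent.Lib.Helper82.RankQuot.infl_apply A χb
  have hdegχ : charDegree (χ : G → ℂ) = charDegree (χb : G ⧸ A → ℂ) := by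
    show ⌊((χ : G → ℂ) 1).re⌋₊ = ⌊((χb : G ⧸ A → ℂ) 1).re⌋₊
    rw [hval 1]; rfl
  have hmemp : χ ∈ principalBlock Mp G := by
    rw [Cfsg.Agent.Lib.Helper80.FongB0.mem_principalBlock_iff_of_isPSolvable p Mp hMp hps]
    intro n hn
    rw [hval, hval, (QuotientGroup.eq_one_iff n).mpr hn]; rfl
  obtain ⟨hmemq, -⟩ := h χ ⟨hmemp, by rw [hdegχ]; exact hnd⟩
  rw [Cfsg.Agent.Lib.Helper80.FongB0.mem_principalBlock_iff_of_isPSolvable q Mq hMq hqs] at hmemq
  obtain ⟨b, hb, rfl⟩ := hx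
  have hker : (χb : G ⧸ A → ℂ) (QuotientGroup.mk' A b) = (χb : G ⧸ A → ℂ) 1 := by
    have h1 := hmemq b hb
    rw [hval, hval] at h1
    exact h1
  have hχbchar := Cfsg.Agent.Lib.CT.Wedderburn.isCharacter_of_irr χb.2
  have hshift : ∀ y : G ⧸ A, (χb : G ⧸ A → ℂ) (QuotientGroup.mk' A b * y)
      = (χb : G ⧸ A → ℂ) y := Cfsg.Agent.Lib.CT.Kernel.apply_mul_of_eq hχbchar hker
  set x0 : ↥(P : Subgroup (G ⧸ A)) := ⟨QuotientGroup.mk' A b, hxP⟩ with hx0
  have hinner : classInner (fun g : ↥(P : Subgroup (G ⧸ A)) => ((lam g : ℂˣ) : ℂ))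
        (fun h : ↥(P : Subgroup (G ⧸ A)) => (χb : G ⧸ A → ℂ) h)
      = ((lam x0 : ℂˣ) : ℂ) * classInner (fun g : ↥(P : Subgroup (G ⧸ A)) => ((lam g : ℂˣ) : ℂ))
        (fun h : ↥(P : Subgroup (G ⧸ A)) => (χb : G ⧸ A → ℂ) h) := by
    unfold classInner
    rw [mul_left_comm]
    congr 1
    rw [Finset.mul_sum, ← Equiv.sum_comp (Equiv.mulLeft x0)]
    apply Finset.sum_congr rfl
    intro y _
    show ((lam (x0 * y) : ℂˣ) : ℂ) * starRingEnd ℂ
          ((χb : G ⧸ A → ℂ) ((QuotientGroup.mk' A b) * (y : G ⧸ A)))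
        = ((lam x0 : ℂˣ) : ℂ) * (((lam y : ℂˣ) : ℂ) * starRingEnd ℂ
          ((χb : G ⧸ A → ℂ) (y : G ⧸ A)))
    rw [hshift, map_mul, Units.val_mul]
    ring
  have h0 : (((lam x0 : ℂˣ) : ℂ) - 1) *
      classInner (fun g : ↥(P : Subgroup (G ⧸ A)) => ((lam g : ℂˣ) : ℂ))
        (fun h : ↥(P : Subgroup (G ⧸ A)) => (χb : G ⧸ A → ℂ) h) = 0 := by
    rw [sub_mul, one_mul, ← hinner, sub_self]
  have h1 : ((lam x0 : ℂˣ) : ℂ) = 1 := by
    rcases mul_eq_zero.mp h0 with h' | h'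
    · exact sub_eq_zero.mp h'
    · exact absurd h' hne
  exact Units.val_eq_one.mp h1

/-- Transfer of the "no normal `p'`-extension" property to a quotient. -/
theorem pPrimeCore_quot_of_map [Finite G] (p : ℕ) (A K : Subgroup G) [A.Normal] [K.Normal]
    (hAK : A ≤ K)
    (h3 : ∀ Y : Subgroup (G ⧸ A), Y.Normal → K.map (QuotientGroup.mk' A) ≤ Y →
      ((K.map (QuotientGroup.mk' A)).relIndex Y).Coprime p → Y ≤ K.map (QuotientGroup.mk' A)) :
    pPrimeCore p (G ⧸ K) = ⊥ := by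
  apply pPrimeCore_quot_eq_bot p K
  intro Y hYn hKY hcop
  set f := QuotientGroup.mk' A with hf
  have hKcomap : (K.map f).comap f = K := by
    rw [comap_map_eq, QuotientGroup.ker_mk', sup_eq_left]; exact hAK
  have hrel : (K.map f).relIndex (Y.map f) = K.relIndex Y := by
    have h1 := relIndex_comap (K.map f) f Y
    rw [hKcomap] at h1
    exact h1.symm
  have h4 := h3 (Y.map f) (Subgroup.Normal.map hYn f (QuotientGroup.mk'_surjective A))
    (map_mono hKY) (by rw [hrel]; exact hcop)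
  calc Y ≤ (Y.map f).comap f := le_comap_map f Y
    _ ≤ (K.map f).comap f := comap_mono h4
    _ = K := hKcomap

/-- The group-theoretic endgame. -/
theorem final_group [Finite G] (p q : ℕ) [Fact p.Prime] [Fact q.Prime] (hpq : p ≠ q)
    (hp : p ∣ Nat.card G) (hps : IsPSolvable p G) (hqs : IsPSolvable q G)
    (Pp : Sylow p (G ⧸ pPrimeCore p G)) (Pq : Sylow q (G ⧸ pPrimeCore q G))
    (h1 : ∀ x ∈ (pPrimeCore q G).map (QuotientGroup.mk' (pPrimeCore p G)),
      ∀ hx : x ∈ (Pp : Subgroup (G ⧸ pPrimeCore p G)),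
        (⟨x, hx⟩ : ↥(Pp : Subgroup (G ⧸ pPrimeCore p G)))
          ∈ commutator ↥(Pp : Subgroup (G ⧸ pPrimeCore p G)))
    (h2 : ∀ x ∈ (pPrimeCore p G).map (QuotientGroup.mk' (pPrimeCore q G)),
      ∀ hx : x ∈ (Pq : Subgroup (G ⧸ pPrimeCore q G)),
        (⟨x, hx⟩ : ↥(Pq : Subgroup (G ⧸ pPrimeCore q G)))
          ∈ commutator ↥(Pq : Subgroup (G ⧸ pPrimeCore q G))) : False := by
  set A := pPrimeCore p G with hA
  set B := pPrimeCore q G with hB
  have hBn : (B.map (QuotientGroup.mk' A)).Normal :=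
    Subgroup.Normal.map inferInstance _ (QuotientGroup.mk'_surjective A)
  have hAn : (A.map (QuotientGroup.mk' B)).Normal :=
    Subgroup.Normal.map inferInstance _ (QuotientGroup.mk'_surjective B)
  obtain ⟨hBp, hB3⟩ := main_group p (isPSolvable_quotient p A hps) (pPrimeCore_quotient p) Pp
    (B.map (QuotientGroup.mk' A)) h1
  obtain ⟨-, hA3⟩ := main_group q (isPSolvable_quotient q B hqs) (pPrimeCore_quotient q) Pq
    (A.map (QuotientGroup.mk' B)) h2
  set K := A ⊔ B with hK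
  have hKA : K.map (QuotientGroup.mk' A) = B.map (QuotientGroup.mk' A) := by
    rw [hK, Subgroup.map_sup, QuotientGroup.map_mk'_self, bot_sup_eq]
  have hKB : K.map (QuotientGroup.mk' B) = A.map (QuotientGroup.mk' B) := by
    rw [hK, Subgroup.map_sup, QuotientGroup.map_mk'_self, sup_bot_eq]
  have hcp : pPrimeCore p (G ⧸ K) = ⊥ :=
    pPrimeCore_quot_of_map p A K le_sup_left (by rw [hKA]; exact hB3)
  have hcq : pPrimeCore q (G ⧸ K) = ⊥ :=
    pPrimeCore_quot_of_map q B K le_sup_right (by rw [hKB]; exact hA3)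
  have hpc : pCore p (G ⧸ K) = ⊥ := by
    rw [eq_bot_iff, ← hcq]
    apply le_pPrimeCore inferInstance
    obtain ⟨k, hk⟩ := IsPGroup.iff_card.mp (pCore_isPGroup (G := G ⧸ K) p)
    rw [hk]
    apply Nat.Coprime.pow_left
    exact (Nat.coprime_primes Fact.out Fact.out).mpr hpq
  have hcent := centralizer_pCore_le p (isPSolvable_quotient p K hps) hcp
  have hKtop : K = ⊤ := by
    rw [eq_top_iff]
    intro g _
    have h3 : (QuotientGroup.mk' K g) ∈ pCore p (G ⧸ K) := by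
      apply hcent
      rw [mem_centralizer_iff]
      intro s hs
      rw [hpc] at hs
      have hs1 : s = 1 := by simpa using hs
      rw [hs1, one_mul, mul_one]
    rw [hpc, mem_bot] at h3
    exact (QuotientGroup.eq_one_iff g).mp h3
  have hBtop : B.map (QuotientGroup.mk' A) = ⊤ := by
    rw [← hKA, hKtop, ← MonoidHom.range_eq_map, MonoidHom.range_eq_top]
    exact QuotientGroup.mk'_surjective A
  have hPtop : (Pp : Subgroup (G ⧸ A)) = ⊤ := by
    have h3 : IsPGroup p (⊤ : Subgroup (G ⧸ A)) := by rw [← hBtop]; exact hBp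
    exact (Pp.is_maximal' h3 le_top).symm
  have hcomm : commutator ↥(Pp : Subgroup (G ⧸ A)) = ⊤ := by
    rw [eq_top_iff]
    intro y _
    exact h1 y.1 (by rw [hBtop]; trivial) y.2
  have hsolv : Group.IsSolvable ↥(Pp : Subgroup (G ⧸ A)) := by
    have := Pp.isPGroup'.isNilpotent
    exact IsNilpotent.to_isSolvable
  have hsub : Subsingleton ↥(Pp : Subgroup (G ⧸ A)) := by
    by_contra hns
    rw [not_subsingleton_iff_nontrivial] at hns
    exact (ne_of_lt
      (Group.IsSolvable.commutator_lt_top_of_nontrivial ↥(Pp : Subgroup (G ⧸ A)))) hcomm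
  have hAtop : A = ⊤ := by
    rw [eq_top_iff]
    intro g _
    have hmem : (QuotientGroup.mk' A g) ∈ (Pp : Subgroup (G ⧸ A)) := by rw [hPtop]; trivial
    have h3 : (⟨QuotientGroup.mk' A g, hmem⟩ : ↥(Pp : Subgroup (G ⧸ A))) = 1 :=
      Subsingleton.elim _ _
    have h4 : QuotientGroup.mk' A g = 1 := congrArg Subtype.val h3
    exact (QuotientGroup.eq_one_iff g).mp h4
  have hcard : Nat.card A = Nat.card G := by rw [hAtop]; exact Subgroup.card_top
  have hcop := pPrimeCore_coprime (G := G) p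
  rw [← hA, hcard] at hcop
  exact (Nat.Prime.coprime_iff_not_dvd Fact.out).mp hcop.symm hp

/-- If `G` is `p`-solvable and `q`-solvable, `p` and `q` divide `|G|`, and the irreducible
characters of `p'`-degree in the principal `p`-block are exactly those of `q'`-degree in the
principal `q`-block, then `p = q`. -/
theorem eq_of_blocks [Finite G] (p q : ℕ) [Fact p.Prime] [Fact q.Prime]
    (hp : p ∣ Nat.card G) (hps : IsPSolvable p G) (hqs : IsPSolvable q G)
    (Mp Mq : Ideal AlgInt) (hMp : IsPModular p Mp) (hMq : IsPModular q Mq)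
    (h : ∀ χ : IrrCharacter G, (χ ∈ principalBlock Mp G ∧ ¬ p ∣ charDegree (χ : G → ℂ)) ↔
      (χ ∈ principalBlock Mq G ∧ ¬ q ∣ charDegree (χ : G → ℂ))) : p = q := by
  by_contra hpq
  obtain ⟨Pp⟩ := (inferInstance : Nonempty (Sylow p (G ⧸ pPrimeCore p G)))
  obtain ⟨Pq⟩ := (inferInstance : Nonempty (Sylow q (G ⧸ pPrimeCore q G)))
  exact final_group p q hpq hp hps hqs Pp Pq
    (fun x hx hxP => char_step p q hps hqs Mp Mq hMp hMq (fun χ => (h χ).mp) Pp x hx hxP)
    (fun x hx hxP => char_step q p hqs hps Mq Mp hMq hMp (fun χ => (h χ).mpr) Pq x hx hxP)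

end Cfsg.Agent.Lib.Helper82.PQBlock
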