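import Mathlib
import Cfsg.Agent.Lib.Helper18.ReeHallStmt

/-!
# S1158 / K3: the number of elements of order 3 of the small Ree group

The counting lemma `Cnt` with `T := U` and `P g := orderOf g = 3`.
-/

set_option autoImplicit false

namespace Cfsg.Agent.Lib.Helper82.RHK3

open Cfsg.Agent.Lib.Helper42.ReeSpStmt Cfsg.Agent.Lib.Helper18.ReeHallStmt

universe u v

/-- in a finite group, an element conjugating a subgroup into itself normalizes it -/
theorem mem_normalizer_of_conj_mem {G : Type u} [Group G] [Finite G] (U : Subgroup G) (g : G)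
    (h : ∀ u ∈ U, g * u * g⁻¹ ∈ U) : g ∈ Subgroup.normalizer (U : Set G) := by
  rw [Subgroup.mem_normalizer_iff]
  intro u
  refine ⟨h u, fun hu => ?_⟩
  let φ : ↥U → ↥U := fun w => ⟨g * (w : G) * g⁻¹, h w w.2⟩
  have hinj : Function.Injective φ := by
    intro a b hab
    have h1 : g * (a : G) * g⁻¹ = g * (b : G) * g⁻¹ := congrArg Subtype.val hab
    apply Subtype.ext
    have h2 : (a : G) = g⁻¹ * (g * (a : G) * g⁻¹) * g := by group
    rw [h2, h1]
    group
  obtain ⟨w, hw⟩ := (Finite.injective_iff_surjective.mp hinj) ⟨g * u * g⁻¹, hu⟩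
  have h1 : g * (w : G) * g⁻¹ = g * u * g⁻¹ := congrArg Subtype.val hw
  have h2 : u = (w : G) := by
    have h3 : u = g⁻¹ * (g * u * g⁻¹) * g := by group
    rw [h3, ← h1]
    group
  rw [h2]
  exact w.2

theorem main : K3.{u, v} := by
  intro G _ _ U H A K _ _ m hax hCnt hSyl hU
  obtain ⟨hN, -, hcov⟩ := hSyl
  have hq : 1 < qq m := Nat.one_lt_pow (by omega) (by norm_num)
  have key := hCnt G U (fun g => orderOf g = 3)
    (fun g x hg => by
      have h1 := MulEquiv.orderOf_eq (MulAut.conj x) g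
      rw [MulAut.conj_apply] at h1
      rw [h1]
      exact hg)
    (fun g y hy hy3 hgy => by
      apply mem_normalizer_of_conj_mem
      apply hax.ti g
      refine ⟨y, hy, ?_, hgy⟩
      intro h1
      rw [h1, orderOf_one] at hy3
      omega)
    (fun g hg => hcov g ⟨1, by rw [pow_one, ← hg, pow_orderOf_eq_one]⟩)
  have hcongr : Nat.card {y : ↥U // orderOf (y : G) = 3} = Nat.card {u : ↥U // orderOf u = 3} :=
    Nat.card_congr (Equiv.subtypeEquivRight (fun y => by rw [Subgroup.orderOf_coe]))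
  rw [hcongr, hU, hN, hax.card] at key
  have hpos : 0 < qq m ^ 3 * (qq m - 1) :=
    Nat.mul_pos (pow_pos (by omega) 3) (Nat.sub_pos_of_lt hq)
  apply Nat.eq_of_mul_eq_mul_right hpos
  rw [key]
  ring

end Cfsg.Agent.Lib.Helper82.RHK3
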