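import Mathlib
import Cfsg.Agent.Lib.Helper18.ReeHallStmt

/-!
# S1158 / NRMT: normalizers of the subgroups of the two cyclic tori of orders `q ± r + 1`

For a cyclic subgroup `C` with `C(y) = C` for all `1 ≠ y ∈ C`, every nontrivial subgroup of `C` has
the same normalizer as `C`.
-/

set_option autoImplicit false

namespace Cfsg.Agent.Lib.Helper82.RHNRMT

open Cfsg.Agent.Lib.Helper42.ReeSpStmt Cfsg.Agent.Lib.Helper18.ReeHallStmt

universe u

theorem pow_card_of_mem {G : Type u} [Group G] (A₀ : Subgroup G) (x : G) (hx : x ∈ A₀) :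
    x ^ Nat.card ↥A₀ = 1 := by
  have h1 := pow_card_eq_one' (G := ↥A₀) (x := ⟨x, hx⟩)
  have h2 := congrArg Subtype.val h1
  rw [Subgroup.coe_pow, Subgroup.coe_one] at h2
  exact h2

/-- in a cyclic subgroup `C`, an element of `C` killed by the order of the subgroup `A₀ ≤ C` lies
in `A₀` -/
theorem mem_of_pow_card_eq_one {G : Type u} [Group G] [Finite G] (C A₀ : Subgroup G)
    (hC : IsCyclic ↥C) (hA : A₀ ≤ C) (x : G) (hx : x ∈ C) (hxd : x ^ Nat.card ↥A₀ = 1) :
    x ∈ A₀ := by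
  classical
  have hfin : Fintype ↥C := Fintype.ofFinite _
  have hd0 : 0 < Nat.card ↥A₀ := Nat.card_pos
  have hle := IsCyclic.card_pow_eq_one_le (α := ↥C) hd0
  let S : Finset ↥C := Finset.univ.filter (fun c : ↥C => (c : G) ∈ A₀)
  have hS : S.card = Nat.card ↥A₀ := by
    rw [← Nat.card_eq_finsetCard]
    exact Nat.card_congr
      ⟨fun c => ⟨(c.1 : G), (Finset.mem_filter.mp c.2).2⟩,
        fun a => ⟨⟨a.1, hA a.2⟩, Finset.mem_filter.mpr ⟨Finset.mem_univ _, a.2⟩⟩,
        fun c => rfl, fun a => rfl⟩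
  have hsub : S ⊆ Finset.univ.filter (fun c : ↥C => c ^ Nat.card ↥A₀ = 1) := by
    intro c hc
    rw [Finset.mem_filter] at hc ⊢
    refine ⟨Finset.mem_univ _, ?_⟩
    apply Subtype.ext
    rw [Subgroup.coe_pow, Subgroup.coe_one]
    exact pow_card_of_mem A₀ _ hc.2
  have heq := Finset.eq_of_subset_of_card_le hsub (by rw [hS]; exact hle)
  have hxS : (⟨x, hx⟩ : ↥C) ∈ S := by
    rw [heq, Finset.mem_filter]
    exact ⟨Finset.mem_univ _, Subtype.ext (by simpa using hxd)⟩
  exact (Finset.mem_filter.mp hxS).2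

/-- a cyclic subgroup that is the centralizer of each of its non-identity elements: all its
nontrivial subgroups have the same normalizer -/
theorem normalizer_eq {G : Type u} [Group G] [Finite G] (C : Subgroup G) (hC : IsCyclic ↥C)
    (hcent : ∀ y ∈ C, y ≠ 1 → Subgroup.centralizer ({y} : Set G) = C)
    (A₀ : Subgroup G) (hA : A₀ ≤ C) (hne : A₀ ≠ ⊥) :
    Subgroup.normalizer (A₀ : Set G) = Subgroup.normalizer (C : Set G) := by
  obtain ⟨a, ha⟩ := (Subgroup.ne_bot_iff_exists_ne_one (H := A₀)).mp hne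
  obtain ⟨y, hy, hy1⟩ : ∃ y ∈ A₀, y ≠ 1 := ⟨(a : G), a.2, fun h => ha (Subtype.ext h)⟩
  have hpow : ∀ x ∈ A₀, x ^ Nat.card ↥A₀ = 1 := pow_card_of_mem A₀
  apply le_antisymm
  · intro g hg
    rw [Subgroup.mem_normalizer_iff] at hg ⊢
    have hgy : g * y * g⁻¹ ∈ A₀ := (hg y).mp hy
    have hgy1 : g * y * g⁻¹ ≠ 1 := by
      intro h
      apply hy1
      have h3 : y = g⁻¹ * (g * y * g⁻¹) * g := by group
      rw [h3, h]
      group
    have h1 := hcent y (hA hy) hy1
    have h2 := hcent _ (hA hgy) hgy1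
    intro c
    constructor
    · intro hc
      have hc' : c * y = y * c := by
        rw [← h1, Subgroup.mem_centralizer_singleton_iff] at hc
        exact hc
      rw [← h2, Subgroup.mem_centralizer_singleton_iff]
      calc g * c * g⁻¹ * (g * y * g⁻¹) = g * (c * y) * g⁻¹ := by group
        _ = g * (y * c) * g⁻¹ := by rw [hc']
        _ = g * y * g⁻¹ * (g * c * g⁻¹) := by group
    · intro hc
      rw [← h2, Subgroup.mem_centralizer_singleton_iff] at hc
      rw [← h1, Subgroup.mem_centralizer_singleton_iff]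
      calc c * y = g⁻¹ * (g * c * g⁻¹ * (g * y * g⁻¹)) * g := by group
        _ = g⁻¹ * (g * y * g⁻¹ * (g * c * g⁻¹)) * g := by rw [hc]
        _ = y * c := by group
  · intro g hg
    rw [Subgroup.mem_normalizer_iff] at hg ⊢
    intro x
    constructor
    · intro hx
      apply mem_of_pow_card_eq_one C A₀ hC hA _ ((hg x).mp (hA hx))
      rw [conj_pow, hpow x hx]
      group
    · intro hx
      have hxC : x ∈ C := by
        rw [hg x]
        exact hA hx
      apply mem_of_pow_card_eq_one C A₀ hC hA x hxC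
      have h1 := hpow _ hx
      rw [conj_pow] at h1
      calc x ^ Nat.card ↥A₀ = g⁻¹ * (g * x ^ Nat.card ↥A₀ * g⁻¹) * g := by group
        _ = 1 := by rw [h1]; group

theorem main : NrmT.{u} := by
  rintro G _ _ m ⟨C₁, C₂, hc1, hc2, hcard1, hcard2, -, hN1, hN2, hcent1, hcent2⟩
  exact ⟨⟨C₂, hc2, hcard2, hN2, fun A₀ hA hne => normalizer_eq C₂ hc2 hcent2 A₀ hA hne⟩,
    ⟨C₁, hc1, hcard1, hN1, fun A₀ hA hne => normalizer_eq C₁ hc1 hcent1 A₀ hA hne⟩⟩

end Cfsg.Agent.Lib.Helper82.RHNRMT
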