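import Mathlib
import Cfsg.Agent.Lib.Helper36.ReeSolvStmt

/-!
# S2361 piece N3V (helper82)

The normalizer of a subgroup `V` of order 4 acts on `V` by conjugation; the image lies in the
stabilizer of `1` in `Perm V`, of order 6.  So if 9 divides `|N(V)|` then 3 divides the order of the
kernel, which centralizes `V`.
-/

set_option autoImplicit false

namespace Cfsg.Agent.Lib.Helper82.RSN3V

open Cfsg.Agent.Lib.Helper36.ReeSolvStmt

universe u

/-- the conjugation action of the normalizer on a subgroup, as permutations -/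
noncomputable def conjPerm {G : Type u} [Group G] (V : Subgroup G) :
    ↥(Subgroup.normalizer (V : Set G)) →* Equiv.Perm ↥V :=
  (MulAut.toPerm ↥V).comp V.normalizerMonoidHom

theorem conjPerm_apply {G : Type u} [Group G] (V : Subgroup G)
    (n : ↥(Subgroup.normalizer (V : Set G))) (v : ↥V) :
    ((conjPerm V n) v : G) = (n : G) * v * (n : G)⁻¹ := rfl

theorem card_stab {α : Type u} [Finite α] (h : Nat.card α = 4) (a : α) :
    Nat.card ↥(MulAction.stabilizer (Equiv.Perm α) a) = 6 := by
  have h1 := MulAction.index_stabilizer_of_transitive (Equiv.Perm α) a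
  have h2 := Subgroup.card_mul_index (MulAction.stabilizer (Equiv.Perm α) a)
  rw [h1, h, Nat.card_perm, h] at h2
  have h3 : (4 : ℕ).factorial = 24 := by decide
  omega

theorem range_le {G : Type u} [Group G] (V : Subgroup G) :
    (conjPerm V).range ≤ MulAction.stabilizer (Equiv.Perm ↥V) (1 : ↥V) := by
  rintro _ ⟨n, rfl⟩
  rw [MulAction.mem_stabilizer_iff]
  apply Subtype.ext
  rw [Equiv.Perm.smul_def, conjPerm_apply]
  simp

theorem card_range_dvd {G : Type u} [Group G] [Finite G] (V : Subgroup G)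
    (h : Nat.card ↥V = 4) : Nat.card ↥(conjPerm V).range ∣ 6 := by
  rw [← card_stab h (1 : ↥V)]
  exact Subgroup.card_dvd_of_le (range_le V)

theorem comm_of_mem_ker {G : Type u} [Group G] (V : Subgroup G)
    (n : ↥(Subgroup.normalizer (V : Set G))) (hn : conjPerm V n = 1) (v : G) (hv : v ∈ V) :
    (n : G) * v = v * (n : G) := by
  have h : (((conjPerm V n) ⟨v, hv⟩ : ↥V) : G) = v := by rw [hn]; rfl
  rw [conjPerm_apply] at h
  calc (n : G) * v = (n : G) * v * (n : G)⁻¹ * n := by group
    _ = v * n := by rw [h]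

/-- for `n` in the normalizer of a subgroup `V` of order 4, `n ^ 6` centralizes `V` -/
theorem pow_six_comm {G : Type u} [Group G] [Finite G] (V : Subgroup G) (hV : Nat.card ↥V = 4)
    (n : G) (hn : n ∈ Subgroup.normalizer (V : Set G)) (v : G) (hv : v ∈ V) :
    n ^ 6 * v = v * n ^ 6 := by
  have h1 : (⟨conjPerm V ⟨n, hn⟩, ⟨_, rfl⟩⟩ : ↥(conjPerm V).range) ^ 6 = 1 := by
    obtain ⟨c, hc⟩ := card_range_dvd V hV
    rw [hc, pow_mul, pow_card_eq_one', one_pow]
  have h2 : conjPerm V (⟨n, hn⟩ ^ 6) = 1 := by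
    rw [map_pow]
    exact congrArg Subtype.val h1
  exact comm_of_mem_ker V _ h2 v hv

theorem main : N3V.{u} := by
  intro G _ _ hC V hV h9
  have hker : 3 ∣ Nat.card ↥(conjPerm V).ker := by
    have h1 := Subgroup.card_mul_index (conjPerm V).ker
    rw [Subgroup.index_ker] at h1
    have h2 := card_range_dvd V hV
    rw [← h1] at h9
    by_contra h3
    have hcop : Nat.Coprime 9 (Nat.card ↥(conjPerm V).ker) := by
      have h30 : Nat.Coprime 3 (Nat.card ↥(conjPerm V).ker) :=
        (Nat.Prime.coprime_iff_not_dvd Nat.prime_three).mpr h3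
      exact Nat.Coprime.pow_left 2 h30
    have h4 : 9 ∣ Nat.card ↥(conjPerm V).range := hcop.dvd_of_dvd_mul_left h9
    have h5 : 9 ∣ 6 := h4.trans h2
    omega
  have : Fact (Nat.Prime 3) := ⟨Nat.prime_three⟩
  obtain ⟨k, hk⟩ := exists_prime_orderOf_dvd_card' 3 hker
  have hk1 : conjPerm V (k : ↥(Subgroup.normalizer (V : Set G))) = 1 := k.2
  refine hC V ((k : ↥(Subgroup.normalizer (V : Set G))) : G) hV ?_ ?_
  · rw [Subgroup.orderOf_coe, Subgroup.orderOf_coe]; exact hk
  · intro v hv
    exact comm_of_mem_ker V _ hk1 v hv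

end Cfsg.Agent.Lib.Helper82.RSN3V
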