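import Mathlib
import Cfsg.Agent.Lib.Helper16.SNStmt
import Cfsg.Agent.Lib.Helper17.Sylow

set_option autoImplicit false

/-!
# S3641, piece N3: the number of Sylow 3-subgroups of a transitive group of degree 18 and order
`18 * 17 * d`, `d = 8, 16`, with an element of order 9
-/

namespace Cfsg.Agent.Lib.Helper82.SNN3

open Cfsg.Agent.Lib.Helper16.SNStmt MulAction

universe u

theorem main : Cfsg.Agent.Lib.Helper16.SNStmt.N3.{u} := by
  intro α _ _ H d S hd hg hdvd
  obtain ⟨g, hg9⟩ := hg
  have hcardH : Nat.card H = 18 * 17 * d := S.hG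
  have hg9' : g ^ 9 = 1 := by
    rw [← hg9]
    exact pow_orderOf_eq_one g
  -- `g` fixes no point
  have hgfix : ∀ a : α, g • a ≠ a := by
    intro a ha
    have hmem : g ∈ stabilizer H a := ha
    have h1 : orderOf g ∣ Nat.card (stabilizer H a) := by
      have h2 := orderOf_dvd_natCard (⟨g, hmem⟩ : stabilizer H a)
      rwa [Subgroup.orderOf_mk] at h2
    rw [S.card_stabilizer a, hg9] at h1
    rcases hd with rfl | rfl <;> omega
  have hRcard : Nat.card (Subgroup.zpowers g) = 9 := by
    rw [Nat.card_zpowers, hg9]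
  have : Fact (Nat.Prime 3) := ⟨by norm_num⟩
  have hRp : IsPGroup 3 (Subgroup.zpowers g) := IsPGroup.of_card (n := 2) (by rw [hRcard]; norm_num)
  obtain ⟨P, hRP⟩ := hRp.exists_le_sylow
  have hPcard : Nat.card (P : Subgroup H) = 9 := by
    obtain ⟨n, hn⟩ := (IsPGroup.iff_card).1 P.isPGroup'
    have h1 : 9 ≤ 3 ^ n := by
      rw [← hn, ← hRcard]
      exact Subgroup.card_le_of_le hRP
    have h2 : 3 ^ n ∣ 18 * 17 * d := by
      rw [← hn, ← hcardH]
      exact (P : Subgroup H).card_subgroup_dvd_card
    have h3 : n ≤ 2 := by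
      by_contra hcon
      have h4 : 3 ^ 3 ∣ 3 ^ n := pow_dvd_pow 3 (by omega)
      have h5 := dvd_trans h4 h2
      rcases hd with rfl | rfl <;> omega
    have h6 : 2 ≤ n := by
      by_contra hcon
      have h7 : 3 ^ n ≤ 3 ^ 1 := Nat.pow_le_pow_right (by norm_num) (by omega)
      omega
    have h8 : n = 2 := le_antisymm h3 h6
    rw [hn, h8]
    norm_num
  have hRP' : Subgroup.zpowers g = (P : Subgroup H) :=
    Subgroup.eq_of_le_of_card_ge hRP (by rw [hPcard, hRcard])
  -- the centralizer is semiregular
  have hC : ∀ c ∈ Subgroup.centralizer ((Subgroup.zpowers g : Subgroup H) : Set H), ∀ a : α,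
      c • a = a → c = 1 := by
    intro c hc a hca
    by_contra hc1
    have hcomm : ∀ k : ℕ, c * g ^ k = g ^ k * c := by
      intro k
      have h1 : g ^ k ∈ ((Subgroup.zpowers g : Subgroup H) : Set H) :=
        Subgroup.pow_mem _ (Subgroup.mem_zpowers g) k
      exact (hc _ h1).symm
    have hfix : ∀ k : ℕ, c • (g ^ k • a) = g ^ k • a := by
      intro k
      rw [← mul_smul, hcomm, mul_smul, hca]
    have h01 : a ≠ g • a := fun h => hgfix a h.symm
    have h12 : g • a ≠ g ^ 2 • a := by
      intro h
      apply hgfix a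
      have h1 : g • a = g • (g • a) := by
        rw [← mul_smul, ← pow_two]
        exact h
      exact (MulAction.injective g h1).symm
    have h02 : a ≠ g ^ 2 • a := by
      intro h
      apply hgfix a
      have h2k : ∀ k : ℕ, (g ^ 2) ^ k • a = a := by
        intro k
        induction k with
        | zero => simp
        | succ k ih => rw [pow_succ, mul_smul, ← h, ih]
      have h10 := h2k 5
      rw [← pow_mul] at h10
      have hg10 : g ^ (2 * 5) = g := by
        rw [show 2 * 5 = 9 + 1 from rfl, pow_add, hg9', one_mul, pow_one]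
      rw [hg10] at h10
      exact h10
    apply hc1
    have hf1 := hfix 1
    rw [pow_one] at hf1
    exact S.eq_one_of_three c a (g • a) (g ^ 2 • a) h01 h02 h12 hca hf1 (hfix 2)
  -- so it has at most 18 elements
  have hCcard : Nat.card (Subgroup.centralizer ((Subgroup.zpowers g : Subgroup H) : Set H)) ≤ 18 := by
    obtain ⟨a⟩ : Nonempty α := by
      have h1 : 0 < Fintype.card α := by
        rw [S.hα]
        norm_num
      exact Fintype.card_pos_iff.1 h1
    have hinj : Function.Injective
        (fun c : Subgroup.centralizer ((Subgroup.zpowers g : Subgroup H) : Set H) => (c : H) • a) := by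
      intro c c' h
      have h0 : (c : H) • a = (c' : H) • a := h
      have h1 : ((c' : H)⁻¹ * (c : H)) • a = a := by
        rw [mul_smul, h0, inv_smul_smul]
      have h2 := hC _ (mul_mem (inv_mem c'.2) c.2) a h1
      apply Subtype.ext
      exact (inv_mul_eq_one.1 h2).symm
    calc Nat.card (Subgroup.centralizer ((Subgroup.zpowers g : Subgroup H) : Set H))
        ≤ Nat.card α := Nat.card_le_card_of_injective _ hinj
      _ = 18 := by rw [Nat.card_eq_fintype_card, S.hα]
  -- the normalizer
  have hCN : Subgroup.centralizer ((Subgroup.zpowers g : Subgroup H) : Set H) ≤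
      Subgroup.normalizer ((Subgroup.zpowers g : Subgroup H) : Set H) :=
    Subgroup.centralizer_le_normalizer _
  have hrel := Cfsg.Agent.Lib.Helper17.Sylow.relIndex_centralizer_normalizer_dvd
    (Subgroup.zpowers g : Subgroup H)
  have hcyc : IsCyclic (Subgroup.zpowers g : Subgroup H) := Subgroup.isCyclic_zpowers g
  rw [hcyc.card_mulAut, hRcard, show Nat.totient 9 = 6 from by decide] at hrel
  have hmul := Cfsg.Agent.Lib.Helper17.Sylow.card_mul_relIndex hCN
  have hRC : Subgroup.zpowers g ≤
      Subgroup.centralizer ((Subgroup.zpowers g : Subgroup H) : Set H) := by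
    intro x hx
    rw [Subgroup.mem_centralizer_iff]
    intro y hy
    obtain ⟨i, rfl⟩ := Subgroup.mem_zpowers_iff.1 hx
    obtain ⟨j, rfl⟩ := Subgroup.mem_zpowers_iff.1 hy
    rw [← zpow_add, ← zpow_add, add_comm]
  have h9C : 9 ∣ Nat.card (Subgroup.centralizer ((Subgroup.zpowers g : Subgroup H) : Set H)) := by
    rw [← hRcard]
    exact Subgroup.card_dvd_of_le hRC
  have hNH : Nat.card (Subgroup.normalizer ((Subgroup.zpowers g : Subgroup H) : Set H)) ∣
      18 * 17 * d := by
    rw [← hcardH]
    exact Subgroup.card_subgroup_dvd_card _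
  have hsyl := Cfsg.Agent.Lib.Helper17.Sylow.card_normalizer_mul_card_sylow P
  rw [← hRP', hcardH] at hsyl
  have hmod := Cfsg.Agent.Lib.Helper17.Sylow.card_sylow_mod (G := H) 3
  -- arithmetic
  obtain ⟨e, he⟩ := h9C
  set cC := Nat.card (Subgroup.centralizer ((Subgroup.zpowers g : Subgroup H) : Set H)) with hcC
  set cN := Nat.card (Subgroup.normalizer ((Subgroup.zpowers g : Subgroup H) : Set H)) with hcN
  set ri := (Subgroup.centralizer ((Subgroup.zpowers g : Subgroup H) : Set H)).relIndex
    (Subgroup.normalizer ((Subgroup.zpowers g : Subgroup H) : Set H)) with hri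
  set n3 := Nat.card (Sylow 3 H) with hn3
  have hri6 : ri ≤ 6 := Nat.le_of_dvd (by norm_num) hrel
  have hn3le : n3 ≤ 136 := Nat.le_of_dvd (by norm_num) hdvd
  have hri3 : ¬ 3 ∣ ri := by
    intro h3
    obtain ⟨m, hm⟩ := h3
    have h27 : 27 ∣ cN := ⟨e * m, by rw [← hmul, he, hm]; ring⟩
    have h27' := dvd_trans h27 hNH
    rcases hd with rfl | rfl <;> omega
  have hri2 : ri ≤ 2 := by
    interval_cases ri <;> omega
  have hcN36 : cN ≤ 36 := by
    rw [← hmul]
    calc cC * ri ≤ 18 * 2 := Nat.mul_le_mul hCcard hri2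
      _ = 36 := by norm_num
  have hn68 : 68 ≤ n3 := by
    by_contra hcon
    have h1 : cN * n3 ≤ 36 * 67 := Nat.mul_le_mul hcN36 (by omega)
    rcases hd with rfl | rfl <;> omega
  interval_cases n3 <;> omega

end Cfsg.Agent.Lib.Helper82.SNN3
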