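import Cfsg.Agent.S4687
import Cfsg.Agent.Lib.Helper77.BPKlein2
import Cfsg.Agent.Lib.Helper16.BPLocal

set_option autoImplicit false
open Cfsg

namespace Cfsg.Agent.Lib.Helper82.SmallNil

open Cfsg.Agent.Lib.Helper77.LocalRing Cfsg.Agent.Lib.Helper77.BPNormal
  Cfsg.Agent.Lib.Helper77.BPSub Cfsg.Agent.Lib.Helper77.BPSubpair
  Cfsg.Agent.Lib.Helper77.BPInd Cfsg.Agent.Lib.Helper77.BPCyc Cfsg.Agent.Lib.Helper77.BPAb
  Cfsg.Agent.Lib.Helper77.BPKlein1 Cfsg.Agent.Lib.Helper77.BPKlein2
  Cfsg.Agent.Lib.Helper77.BPFix

universe u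
variable {G : Type u} [Group G] {M : Ideal AlgInt}

/-- If the inertial group of a maximal Brauer pair `(P, c)` with `P` abelian acts freely and
transitively on `P ∖ 1`, then `k(B) = l(B) + 1`. -/
theorem card_eq_rank_add_one [Finite G] {p : ℕ} [Fact p.Prime] (hM : IsPModular p M)
    {B : Set (IrrCharacter G)} {P : Subgroup G}
    {c : Set (IrrCharacter (Subgroup.centralizer (P : Set G)))}
    (hmax : IsMaximalBrauerPair p M B P c) (hab : ∀ x ∈ P, ∀ y ∈ P, x * y = y * x)
    {u : G} (hu : u ∈ P) (hu1 : u ≠ 1)
    (hfree : ∀ t ∈ Subgroup.normalizer (P : Set G),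
      StabilizesBlock (Subgroup.centralizer (P : Set G)) c t → t * u = u * t →
        t ∈ Subgroup.centralizer (P : Set G))
    (htrans : ∀ v ∈ P, v ≠ 1 → ∃ t ∈ Subgroup.normalizer (P : Set G),
      StabilizesBlock (Subgroup.centralizer (P : Set G)) c t ∧ t * v * t⁻¹ = u) :
    Nat.card B = blockRank p B + 1 := by
  have hPe : IsBrauerPair p M P c := hmax.1.1
  obtain ⟨f, hle⟩ := exists_subpair hM P c hPe (Subgroup.zpowers u) (Subgroup.zpowers_le.mpr hu)
  obtain ⟨hfl, -, -⟩ := local_block hM hmax hab hu hfree f hle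
  obtain ⟨β, hfβ, -, -, hcount⟩ := count_two hM hmax hu hu1 htrans f hle
  have hβl := heq_transfer (centralizer_zpowers_eq u) f β hfβ (fun K b => blockRank p b = 1) hfl
  rw [hβl] at hcount
  exact hcount

theorem eq_two_of_card {p n c : ℕ} (hp : p.Prime) (h : c = p ^ n) (hc : c = 2 ∨ c = 4) :
    p = 2 := by
  have hn : n ≠ 0 := by
    rintro rfl
    rw [pow_zero] at h
    omega
  have hdvd : p ∣ c := h ▸ dvd_pow_self p hn
  rcases hc with rfl | rfl
  · exact (Nat.prime_dvd_prime_iff_eq hp Nat.prime_two).mp hdvd
  · have h4 : p ∣ 2 ^ 2 := by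
      norm_num
      exact hdvd
    exact (Nat.prime_dvd_prime_iff_eq hp Nat.prime_two).mp (hp.dvd_of_dvd_pow h4)

/-- A `p`-subgroup of order at most four is cyclic or a Klein four group (and then `p = 2`). -/
theorem cyclic_or_klein [Finite G] {p : ℕ} [Fact p.Prime] (D : Subgroup G) (hDp : IsPGroup p D)
    (h4 : Nat.card D ≤ 4) :
    (∃ u ∈ D, ∀ v ∈ D, v ∈ Subgroup.zpowers u) ∨ (p = 2 ∧ IsKleinFour D) := by
  have hp : p.Prime := Fact.out
  obtain ⟨n, hn⟩ := IsPGroup.iff_card.mp hDp
  by_cases hcyc : IsCyclic D
  · left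
    obtain ⟨g, hg⟩ := hcyc.exists_generator
    refine ⟨g.1, g.2, fun v hv => ?_⟩
    obtain ⟨k, hk⟩ := Subgroup.mem_zpowers_iff.mp (hg ⟨v, hv⟩)
    refine Subgroup.mem_zpowers_iff.mpr ⟨k, ?_⟩
    have := congrArg Subtype.val hk
    simpa using this
  · right
    have hn2 : 2 ≤ n := by
      by_contra hlt
      push Not at hlt
      interval_cases n
      · apply hcyc
        rw [pow_zero] at hn
        have hbot : D = ⊥ := Subgroup.card_eq_one.mp hn
        have hsub : Subsingleton D := by
          rw [hbot]
          infer_instance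
        infer_instance
      · apply hcyc
        rw [pow_one] at hn
        exact isCyclic_of_prime_card hn
    have hpp : p ^ 2 ≤ p ^ n := Nat.pow_le_pow_right hp.pos hn2
    have hp2 : p = 2 := by
      have h2 := hp.two_le
      by_contra hne
      have h3 : 3 ≤ p := by omega
      have : 3 ^ 2 ≤ p ^ 2 := Nat.pow_le_pow_left h3 2
      omega
    subst hp2
    have hcard : Nat.card D = 4 := by
      have : (2 : ℕ) ^ 2 = 4 := by norm_num
      omega
    refine ⟨rfl, ⟨hcard, ?_⟩⟩
    have hsq : ∀ x : D, x ^ 2 = 1 := by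
      intro x
      have hdvd : orderOf x ∣ 4 := hcard ▸ orderOf_dvd_natCard x
      have hne : orderOf x ≠ 4 := by
        intro h
        exact hcyc (isCyclic_of_orderOf_eq_card x (h.trans hcard.symm))
      have hle : orderOf x ≤ 4 := Nat.le_of_dvd (by norm_num) hdvd
      have hpos := orderOf_pos x
      have h12 : orderOf x ∣ 2 := by
        interval_cases h : orderOf x
        · norm_num
        · norm_num
        · norm_num at hdvd
        · exact absurd rfl hne
      exact orderOf_dvd_iff_pow_eq_one.mp h12
    have hexp : Monoid.exponent D ∣ 2 := Monoid.exponent_dvd_iff_forall_pow_eq_one.mpr hsq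
    have hle : Monoid.exponent D ≤ 2 := Nat.le_of_dvd (by norm_num) hexp
    have hne1 : Monoid.exponent D ≠ 1 := by
      intro h1
      have hsub : Subsingleton D := Monoid.exp_eq_one_iff.mp h1
      have h1' : Nat.card D = 1 := Nat.card_eq_one_iff_unique.mpr ⟨hsub, ⟨1⟩⟩
      omega
    have hne0 : Monoid.exponent D ≠ 0 := by
      intro h0
      rw [h0] at hexp
      norm_num at hexp
    omega

theorem nil_of_small {G : Type u} [Group G] [Finite G] (p : ℕ) [Fact p.Prime] (M : Ideal AlgInt)
    (hM : IsPModular p M)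
    (B : Set (IrrCharacter G)) (hB : IsPBlock M B) (D : Subgroup G) (hD : IsDefectGroup p M B D)
    (hl : blockRank p B = 1) (hk : Nat.card B = Nat.card D) (h4 : Nat.card D ≤ 4) :
    IsNilpotentBlock p M B := by
  classical
  have := Fintype.ofFinite G
  have hp : p.Prime := Fact.out
  obtain ⟨e, hmax⟩ := Cfsg.Agent.Lib.Helper16.BPLocal.exists_maximal_pair hM B hB D hD
  have hDp : IsPGroup p D := isPGroup_of_isDefectGroup hD
  obtain ⟨n, hn⟩ := IsPGroup.iff_card.mp hDp
  have hdich := cyclic_or_klein D hDp h4
  have hab : ∀ x ∈ D, ∀ y ∈ D, x * y = y * x := by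
    rcases hdich with ⟨u, hu, hgen⟩ | ⟨-, hV⟩
    · intro x hx y hy
      obtain ⟨a, rfl⟩ := Subgroup.mem_zpowers_iff.mp (hgen x hx)
      obtain ⟨b, rfl⟩ := Subgroup.mem_zpowers_iff.mp (hgen y hy)
      exact zpow_mul_comm u a b
    · exact (klein_elems hV).2.1
  rw [Cfsg.Agent.S4687.result p M hM B D e hmax hab]
  have hPC : D ≤ Subgroup.centralizer (D : Set G) := by
    intro w hw
    rw [Subgroup.mem_centralizer_iff]
    intro q hq
    exact hab q hq w hw
  have hpelt : ∀ t ∈ stab D e, ∀ k : ℕ, t ^ (p ^ k) = 1 →
      t ∈ Subgroup.centralizer (D : Set G) := by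
    intro t ht k hk
    obtain ⟨w, hw, hwc⟩ := mem_mul_of_maximal hM hmax t (mem_stab.mp ht).1 (mem_stab.mp ht).2 k hk
    have h1 : t = w * (w⁻¹ * t) := by group
    rw [h1]
    exact mul_mem (hPC hw) hwc
  suffices hmain : ∀ t ∈ stab D e, t ∈ Subgroup.centralizer (D : Set G) from
    fun x hxN hxs => hmain x (mem_stab.mpr ⟨hxN, hxs⟩)
  have hcardpos : 0 < Nat.card D := Nat.card_pos
  rcases hdich with ⟨u, hu, hgen⟩ | ⟨hp2, hV⟩
  · -- the cyclic case
    have hDu : D = Subgroup.zpowers u := le_antisymm hgen (Subgroup.zpowers_le.mpr hu)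
    have hord : Nat.card D = orderOf u := by
      conv_lhs => rw [hDu]
      exact Nat.card_zpowers u
    have hupow : u ^ orderOf u = 1 := pow_orderOf_eq_one u
    have hcu : ∀ t : G, t * u = u * t → t ∈ Subgroup.centralizer (D : Set G) := by
      intro t htu
      rw [Subgroup.mem_centralizer_iff]
      intro v hv
      obtain ⟨k, rfl⟩ := Subgroup.mem_zpowers_iff.mp (hgen v hv)
      exact (Commute.zpow_left (show Commute u t from htu.symm) k).eq
    have hrange : ∀ v ∈ D, ∃ k < orderOf u, u ^ k = v := by
      intro v hv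
      have h1 := (isOfFinOrder_of_finite u).mem_zpowers_iff_mem_range_orderOf.mp (hgen v hv)
      obtain ⟨k, hk, hkv⟩ := Finset.mem_image.mp h1
      exact ⟨k, Finset.mem_range.mp hk, hkv⟩
    have hconj : ∀ t ∈ stab D e, t * u * t⁻¹ = u ∨ t * u * t⁻¹ = u⁻¹ := by
      intro t ht
      have hmem : t * u * t⁻¹ ∈ D :=
        (Subgroup.mem_normalizer_iff.mp (mem_stab.mp ht).1 u).mp hu
      obtain ⟨k, hk, hkv⟩ := hrange _ hmem
      have hone : t * u * t⁻¹ = 1 → t * u * t⁻¹ = u := by
        intro h1
        have : u = 1 := by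
          have h2 : u = t⁻¹ * (t * u * t⁻¹) * t := by group
          rw [h2, h1]
          group
        rw [this]
        group
      have hk4 : k < 4 := by omega
      interval_cases k
      · left
        apply hone
        rw [← hkv, pow_zero]
      · left
        rw [← hkv, pow_one]
      · have h34 : orderOf u = 3 ∨ orderOf u = 4 := by omega
        rcases h34 with h3 | h4'
        · right
          rw [← hkv]
          rw [h3] at hupow
          apply eq_inv_of_mul_eq_one_left
          rw [← pow_succ]
          exact hupow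
        · left
          apply hone
          rw [h4'] at hupow
          have h5 : (t * u * t⁻¹) ^ 2 = 1 := by
            rw [← hkv, ← pow_mul]
            exact hupow
          have h6 : u ^ 2 = 1 := by
            have h7 : (t * u * t⁻¹) ^ 2 = t * u ^ 2 * t⁻¹ := by
              rw [pow_two, pow_two]
              group
            rw [h7] at h5
            have h8 : u ^ 2 = t⁻¹ * (t * u ^ 2 * t⁻¹) * t := by group
            rw [h8, h5]
            group
          rw [← hkv]
          exact h6
      · right
        have h4' : orderOf u = 4 := by omega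
        rw [h4'] at hupow
        rw [← hkv]
        apply eq_inv_of_mul_eq_one_left
        rw [← pow_succ]
        exact hupow
    intro t ht
    rcases hconj t ht with h | h
    · apply hcu t
      calc t * u = t * u * t⁻¹ * t := by group
        _ = u * t := by rw [h]
    · have hinv : t * u⁻¹ * t⁻¹ = u := by
        have h1 : t * u⁻¹ * t⁻¹ = (t * u * t⁻¹)⁻¹ := by group
        rw [h1, h, inv_inv]
      by_cases hp2 : p = 2
      · -- `t * t` centralizes `D`, and `T / C_G(D)` has odd order
        have htt : t * t ∈ Subgroup.centralizer (D : Set G) := by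
          apply hcu
          have h1 : (t * t) * u * (t * t)⁻¹ = t * (t * u * t⁻¹) * t⁻¹ := by group
          have h2 : (t * t) * u * (t * t)⁻¹ = u := by
            rw [h1, h, hinv]
          calc t * t * u = (t * t) * u * (t * t)⁻¹ * (t * t) := by group
            _ = u * (t * t) := by rw [h2]
        have hn0 : orderOf t ≠ 0 := (orderOf_pos t).ne'
        obtain ⟨k, m, hm, hkm⟩ := Nat.exists_eq_two_pow_mul_odd hn0
        have h1 : (t ^ m) ^ (p ^ k) = 1 := by
          rw [hp2, ← pow_mul, mul_comm, ← hkm, pow_orderOf_eq_one]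
        have h2 := hpelt (t ^ m) (pow_mem ht m) k h1
        obtain ⟨j, hj⟩ := hm
        have h3 : t = ((t * t) ^ j)⁻¹ * t ^ m := by
          rw [hj, pow_succ, pow_mul, pow_two]
          group
        rw [h3]
        exact mul_mem (inv_mem (pow_mem htt j)) h2
      · have hc2 : Nat.card D ≠ 2 := fun h2 => hp2 (eq_two_of_card hp hn (Or.inl h2))
        have hc4 : Nat.card D ≠ 4 := fun h2 => hp2 (eq_two_of_card hp hn (Or.inr h2))
        have h13 : orderOf u = 1 ∨ orderOf u = 3 := by omega
        rcases h13 with h1 | h3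
        · have hu1 : u = 1 := orderOf_eq_one_iff.mp h1
          apply hcu
          rw [hu1, mul_one, one_mul]
        · exfalso
          have hu1 : u ≠ 1 := by
            intro hu1
            rw [hu1, orderOf_one] at h3
            omega
          rw [h3] at hupow
          have hcount := card_eq_rank_add_one hM hmax hab hu hu1
            (fun t' _ _ htu => hcu t' htu) (by
              intro v hv hv1
              obtain ⟨k, hk, hkv⟩ := hrange v hv
              have hk3 : k < 3 := by omega
              interval_cases k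
              · exact absurd (by rw [← hkv, pow_zero]) hv1
              · refine ⟨1, one_mem _, (mem_stab.mp (one_mem (stab D e))).2, ?_⟩
                rw [← hkv, pow_one]
                group
              · refine ⟨t, (mem_stab.mp ht).1, (mem_stab.mp ht).2, ?_⟩
                have h5 : u ^ 2 = u⁻¹ := by
                  apply eq_inv_of_mul_eq_one_left
                  rw [← pow_succ]
                  exact hupow
                rw [← hkv, h5]
                exact hinv)
          omega
  · -- the Klein four case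
    subst hp2
    obtain ⟨he13, hfree, htrans⟩ := inertial hM hmax hV (stab D e) (fun g => mem_stab)
    by_cases he1 : (Subgroup.centralizer (D : Set G)).relIndex (stab D e) = 1
    · exact fun t ht => Subgroup.relIndex_eq_one.mp he1 ht
    · exfalso
      obtain ⟨-, -, ⟨u, hu, hu1⟩, -⟩ := klein_elems hV
      have hcount := card_eq_rank_add_one hM hmax hab hu hu1
        (fun t htN hts htu => hfree t (mem_stab.mpr ⟨htN, hts⟩) u hu hu1
          (by rw [htu, mul_inv_cancel_right]))
        (fun v hv hv1 => by
          obtain ⟨t, ht, htv⟩ := htrans he1 u hu hu1 v hv hv1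
          exact ⟨t, (mem_stab.mp ht).1, (mem_stab.mp ht).2, htv⟩)
      have hc4 := hV.card_four
      omega

end Cfsg.Agent.Lib.Helper82.SmallNil
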